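import Groth.Prelude.Def_DeRham2
import Groth.Agent.Lib.QCoh.Localizing
import Groth.Agent.Lib.DeRhamAlg.BaseChange
import Mathlib.RingTheory.Localization.BaseChange

/-!
Exterior powers of a quasi-coherent module are quasi-coherent.
-/

set_option autoImplicit false
universe u
open CategoryTheory CategoryTheory.Limits AlgebraicGeometry TopologicalSpace Opposite exteriorPower
open Groth.Agent.Lib.QCoh.Localizing Groth.Agent.Lib.DeRhamAlg

namespace Groth.Agent.H95.ExtPowQCoh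

theorem exists_semimap {A B M M' : Type u} [CommRing A] [CommRing B] [Algebra A B] (g : A)
    [IsLocalization.Away g B] [AddCommGroup M] [Module A M] [AddCommGroup M'] [Module B M']
    (l : M →+ M') (hl : ∀ (r : A) y, l (r • y) = algebraMap A B r • l y)
    (hext : ∀ y, ∃ (m : ℕ) (t : M), l t = algebraMap A B g ^ m • y)
    (hsep : ∀ t, l t = 0 → ∃ m : ℕ, g ^ m • t = 0) (p : ℕ) :
    ∃ Φ : ↥(⋀[A]^p M) →+ ↥(⋀[B]^p M'),
      (∀ (r : A) z, Φ (r • z) = algebraMap A B r • Φ z) ∧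
      (∀ v, Φ (ιMulti A p v) = ιMulti B p (fun j => l (v j))) ∧
      (∀ w, ∃ (m : ℕ) (z : ↥(⋀[A]^p M)), Φ z = algebraMap A B g ^ m • w) ∧
      (∀ z, Φ z = 0 → ∃ m : ℕ, g ^ m • z = 0) := by
  letI : Module A M' := Module.compHom _ (algebraMap A B)
  haveI : IsScalarTower A B M' := IsScalarTower.of_algebraMap_smul fun _ _ => rfl
  let l₁ : M →ₗ[A] M' := { toFun := l, map_add' := map_add l, map_smul' := hl }
  haveI : IsLocalizedModule (Submonoid.powers g) l₁ := by
    refine ⟨?_, fun y => ?_, fun {x₁ x₂} h => ?_⟩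
    · rintro ⟨_, m, rfl⟩
      obtain ⟨v, hv⟩ := IsLocalization.map_units (M := Submonoid.powers g) B ⟨g ^ m, m, rfl⟩
      rw [Module.End.isUnit_iff]
      change Function.Bijective fun y : M' => algebraMap A B (g ^ m) • y
      rw [← hv]
      exact MulAction.bijective v
    · obtain ⟨m, t, ht⟩ := hext y
      refine ⟨(t, ⟨g ^ m, m, rfl⟩), ?_⟩
      change algebraMap A B (g ^ m) • y = l t
      rw [map_pow]
      exact ht.symm
    · obtain ⟨m, hm⟩ := hsep (x₁ - x₂) (by rw [map_sub, sub_eq_zero]; exact h)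
      exact ⟨⟨g ^ m, m, rfl⟩, by rwa [smul_sub, sub_eq_zero] at hm⟩
  haveI : IsLocalizedModule (Submonoid.powers g) (Basic.semimap (B := B) l₁ p) :=
    (isLocalizedModule_iff_isBaseChange (Submonoid.powers g) B _).mpr
      (BaseChange.isBaseChange_semimap l₁ (IsLocalizedModule.isBaseChange (Submonoid.powers g) B l₁) p)
  refine ⟨(Basic.semimap (B := B) l₁ p).toAddMonoidHom, fun r z => ?_, fun v => ?_, fun w => ?_, fun z hz => ?_⟩
  · exact ((Basic.semimap (B := B) l₁ p).map_smul r z).trans (algebraMap_smul B r _).symm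
  · exact Basic.semimap_ιMulti l₁ v
  · obtain ⟨⟨z, ⟨_, m, rfl⟩⟩, hz⟩ :=
      IsLocalizedModule.surj (Submonoid.powers g) (Basic.semimap (B := B) l₁ p) w
    refine ⟨m, z, hz.symm.trans ?_⟩
    rw [← map_pow]
    exact (algebraMap_smul B (g ^ m) w).symm
  · obtain ⟨⟨_, m, rfl⟩, hm⟩ := IsLocalizedModule.exists_of_eq (S := Submonoid.powers g)
      (f := Basic.semimap (B := B) l₁ p) (x₁ := z) (x₂ := 0) (hz.trans (map_zero _).symm)
    exact ⟨m, hm.trans (smul_zero _)⟩

variable {X : Scheme.{u}}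

set_option maxHeartbeats 1600000 in
theorem isQuasicoherent_of_loc {Ω L : X.Modules} [Ω.IsQuasicoherent] (p : ℕ)
    (loc : ∀ U : X.affineOpens, Γ(L, U.1) ≃ₗ[Γ(X, U.1)] ↥(⋀[Γ(X, U.1)]^p Γ(Ω, U.1)))
    (loc_res : ∀ (U V : X.affineOpens) (h : V.1 ≤ U.1) (e : Fin p → Γ(Ω, U.1)),
      res L h ((loc U).symm (ιMulti _ p e)) = (loc V).symm (ιMulti _ p (fun j => res Ω h (e j)))) :
    L.IsQuasicoherent := by
  refine isQCoh_of_forall_exists_localizes fun x => ?_
  obtain ⟨U, hU, hxU, -⟩ := exists_isAffineOpen_mem_and_subset (X := X) (x := x) (U := ⊤) trivial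
  refine ⟨U, hU, hxU, fun g => ?_⟩
  haveI := hU.isLocalization_basicOpen g
  have hle : X.basicOpen g ≤ U := X.basicOpen_le g
  have hΩ := localizes_of_isAffineOpen Ω hU g
  obtain ⟨Φ, hsmul, hι, hext, hsep⟩ := exists_semimap (B := Γ(X, X.basicOpen g)) g (res Ω hle)
    (res_smul hle) hΩ.ext' hΩ.sep p
  have halg : algebraMap Γ(X, U) Γ(X, X.basicOpen g) = resR hle := rfl
  rw [halg] at hsmul hext
  obtain ⟨eD, heD⟩ : ∃ eD : Γ(L, X.basicOpen g) ≃ₗ[Γ(X, X.basicOpen g)]
      ↥(⋀[Γ(X, X.basicOpen g)]^p Γ(Ω, X.basicOpen g)),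
      ∀ v : Fin p → Γ(Ω, U), res L hle ((loc ⟨U, hU⟩).symm (ιMulti _ p v)) =
        eD.symm (ιMulti _ p (fun j => res Ω hle (v j))) :=
    ⟨loc ⟨X.basicOpen g, hU.basicOpen g⟩, loc_res ⟨U, hU⟩ ⟨X.basicOpen g, hU.basicOpen g⟩ hle⟩
  obtain ⟨eU, heU⟩ : ∃ eU : Γ(L, U) ≃ₗ[Γ(X, U)] ↥(⋀[Γ(X, U)]^p Γ(Ω, U)),
      ∀ v : Fin p → Γ(Ω, U), res L hle (eU.symm (ιMulti _ p v)) =
        eD.symm (ιMulti _ p (fun j => res Ω hle (v j))) := ⟨loc ⟨U, hU⟩, heD⟩
  have key : ∀ z, res L hle (eU.symm z) = eD.symm (Φ z) := by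
    intro z
    have hz : z ∈ Submodule.span Γ(X, U) (Set.range (ιMulti Γ(X, U) p (M := Γ(Ω, U)))) := by
      rw [exteriorPower.ιMulti_span]; trivial
    induction hz using Submodule.span_induction with
    | mem z hz =>
      obtain ⟨v, rfl⟩ := hz
      rw [hι]
      exact heU v
    | zero => rw [map_zero, map_zero, map_zero, map_zero]
    | add a b _ _ ha hb => rw [map_add, map_add, map_add, map_add, ha, hb]
    | smul r a _ ha =>
      have h1 : res L hle (eU.symm (r • a)) = resR hle r • res L hle (eU.symm a) :=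
        (congrArg (res L hle) (eU.symm.map_smul r a)).trans (res_smul hle r (eU.symm a))
      have h2 : eD.symm (Φ (r • a)) = resR hle r • eD.symm (Φ a) :=
        (congrArg eD.symm (hsmul r a)).trans (eD.symm.map_smul (resR hle r) (Φ a))
      rw [h1, h2, ha]
  constructor
  · intro s
    obtain ⟨m, z, hz⟩ := hext (eD s)
    refine ⟨m, eU.symm z, ?_⟩
    rw [key, hz, map_smul, LinearEquiv.symm_apply_apply]
  · intro t ht
    have h0 : Φ (eU t) = 0 := by
      apply eD.symm.injective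
      rw [← key, LinearEquiv.symm_apply_apply, map_zero]
      exact ht
    obtain ⟨m, hm⟩ := hsep _ h0
    refine ⟨m, eU.injective ?_⟩
    rw [map_smul, map_zero]
    exact hm

end Groth.Agent.H95.ExtPowQCoh
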