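import Groth.Prelude.Def_PicF2
import Groth.Prelude.Def_SecTwist
import Groth.Agent.Lib.TensorMod.Gen
import Mathlib.AlgebraicGeometry.FunctionField

/-!
Zero schemes of sections of invertible modules on integral schemes.
-/

set_option autoImplicit false
universe u
open CategoryTheory CategoryTheory.Limits AlgebraicGeometry TopologicalSpace Opposite
open Groth.Agent.Lib.TensorMod.Gen Groth.Agent.Lib.TensorMod.Dual

namespace Groth.Agent.H95.ZeroSch

variable {X : Scheme.{u}} {L : X.Modules}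

/-- the value of a section -/
noncomputable abbrev sv (s : Coh.structureModule X ⟶ L) (U : X.Opens) : Γ(L, U) :=
  SecTwist.val s U

lemma rs_sv (s : Coh.structureModule X ⟶ L) {V U : X.Opens} (h : V ≤ U) :
    rs L h (sv s U) = sv s V :=
  SecTwist.map_val s (homOfLE h)

lemma rs_smul' {V U : X.Opens} (h : V ≤ U) (a : Γ(X, U)) (m : Γ(L, U)) :
    rs L h (a • m) = X.presheaf.map (homOfLE h).op a • rs L h m :=
  rs_smul L h a m

/-- gluing in `L` -/
lemma section_ext {U : X.Opens} {ι : Type u} (V : ι → X.Opens) (hV : ∀ i, V i ≤ U) (hU : U ≤ ⨆ i, V i)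
    (m n : Γ(L, U)) (h : ∀ i, rs L (hV i) m = rs L (hV i) n) : m = n :=
  TopCat.Sheaf.eq_of_locally_eq' ⟨L.presheaf, L.isSheaf⟩ V U (fun i => homOfLE (hV i)) hU m n h

/-- an affine open with a frame -/
structure Frame (L : X.Modules) where
  V : X.affineOpens
  e : Γ(L, V.1)
  he : IsGen L V.1 e

noncomputable def coord (F : Frame L) (m : Γ(L, F.V.1)) : Γ(X, F.V.1) :=
  (Equiv.ofBijective _ (F.he F.V.1 le_rfl)).symm m

lemma coord_smul (F : Frame L) (m : Γ(L, F.V.1)) : coord F m • F.e = m := by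
  have := (Equiv.ofBijective _ (F.he F.V.1 le_rfl)).apply_symm_apply m
  simpa only [coord, Equiv.ofBijective_apply, rs_self] using this

lemma exists_frame (hL : PicF.IsInvertible L) {U : X.Opens} {x : X} (hx : x ∈ U) :
    ∃ F : Frame L, x ∈ F.V.1 ∧ F.V.1 ≤ U := by
  obtain ⟨W, e, hxW, he⟩ := (isInvertible_iff.mp hL) x
  obtain ⟨V, hV, hxV, hle⟩ := exists_isAffineOpen_mem_and_subset (X := X) (x := x) (U := W ⊓ U) ⟨hxW, hx⟩
  exact ⟨⟨⟨V, hV⟩, _, he.res (hle.trans inf_le_left)⟩, hxV, hle.trans inf_le_right⟩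

variable [AlgebraicGeometry.IsIntegral X] (hL : PicF.IsInvertible L)
  (s : Coh.structureModule X ⟶ L) (hs : s ≠ 0)

include hL hs

/-- a nonzero section has no annihilator on any nonempty open -/
lemma smul_sv_injective (U : X.Opens) (a : Γ(X, U)) (h : a • sv s U = 0) : a = 0 := by
  rcases isEmpty_or_nonempty (U : Scheme.{u}) with hU | hU
  · have : U = ⊥ := by
      ext x; simp only [Opens.coe_bot, Set.mem_empty_iff_false, iff_false]
      exact fun hx => hU.false ⟨x, hx⟩
    subst this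
    exact Subsingleton.elim _ _
  obtain ⟨⟨x, hx⟩⟩ := hU
  obtain ⟨F, hxF, hFU⟩ := exists_frame hL hx
  haveI : Nonempty F.V.1 := ⟨⟨x, hxF⟩⟩
  refine map_injective_of_isIntegral X (homOfLE hFU) ?_
  rw [map_zero]
  have h1 : (X.presheaf.map (homOfLE hFU).op a * coord F (sv s F.V.1)) • F.e = 0 := by
    rw [mul_smul, coord_smul, ← rs_sv s hFU, ← rs_smul', h]
    exact map_zero (L.presheaf.map (homOfLE hFU).op).hom
  have h2 : X.presheaf.map (homOfLE hFU).op a * coord F (sv s F.V.1) = 0 :=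
    (F.he F.V.1 le_rfl).injective (by simpa [rs] using h1)
  refine (mul_eq_zero.mp h2).resolve_right fun h0 => hs ?_
  -- the section is zero near `x`, hence everywhere
  have hF0 : sv s F.V.1 = 0 := by rw [← coord_smul F (sv s F.V.1), h0, zero_smul]
  refine Scheme.Modules.hom_ext _ _ fun W => ?_
  ext r
  change s.app W r = 0
  rw [app_eq_smul s r]
  suffices hW : sv s W = 0 by
    change (show Γ(X, W) from r) • sv s W = 0
    rw [hW, smul_zero]
  refine section_ext (ι := {G : Frame L // G.V.1 ≤ W}) (fun G => G.1.V.1) (fun G => G.2) (fun y hy => ?_) _ _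
    fun G => ?_
  · obtain ⟨G, hyG, hGW⟩ := exists_frame hL hy
    exact Opens.mem_iSup.mpr ⟨⟨G, hGW⟩, hyG⟩
  · rw [rs_sv]
    change sv s G.1.V.1 = L.presheaf.map (homOfLE G.2).op 0
    rw [map_zero, ← coord_smul G.1 (sv s G.1.V.1)]
    rcases isEmpty_or_nonempty (G.1.V.1 : Scheme.{u}) with hG | hG
    · have h0 : G.1.V.1 = ⊥ := by
        ext y; simp only [Opens.coe_bot, Set.mem_empty_iff_false, iff_false]
        exact fun hy => hG.false ⟨y, hy⟩
      haveI : Subsingleton Γ(X, G.1.V.1) := by rw [h0]; infer_instance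
      rw [Subsingleton.elim (coord G.1 (sv s G.1.V.1)) 0, zero_smul]
    · obtain ⟨⟨y, hy⟩⟩ := hG
      have hm : G.1.V.1 ⊓ F.V.1 ≤ G.1.V.1 := inf_le_left
      haveI : Nonempty ((G.1.V.1 ⊓ F.V.1 : X.Opens) : Scheme.{u}) := by
        obtain ⟨z, hz1, hz2⟩ := nonempty_preirreducible_inter G.1.V.1.isOpen F.V.1.isOpen
          ⟨y, hy⟩ ⟨x, hxF⟩
        exact ⟨⟨z, hz1, hz2⟩⟩
      have h3 : X.presheaf.map (homOfLE hm).op (coord G.1 (sv s G.1.V.1)) • rs L hm G.1.e = 0 := by
        rw [← rs_smul', coord_smul, rs_sv, ← rs_sv s (show G.1.V.1 ⊓ F.V.1 ≤ F.V.1 from inf_le_right), hF0]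
        exact map_zero (L.presheaf.map (homOfLE inf_le_right).op).hom
      have h4 : X.presheaf.map (homOfLE hm).op (coord G.1 (sv s G.1.V.1)) = 0 :=
        (G.1.he _ hm).injective (by simpa using h3)
      rw [map_injective_of_isIntegral X (homOfLE hm) (h4.trans (map_zero _).symm), zero_smul]

lemma smul_sv_cancel (U : X.Opens) {a b : Γ(X, U)} (h : a • sv s U = b • sv s U) : a = b :=
  sub_eq_zero.mp (smul_sv_injective hL s hs U _ (by rw [sub_smul, h, sub_self]))

/-- `m` is locally a multiple of `s`, so it is one -/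
lemma exists_eq_smul_sv {U : X.Opens} {ι : Type u} (V : ι → X.Opens) (hV : ∀ i, V i ≤ U)
    (hU : U ≤ ⨆ i, V i) (m : Γ(L, U))
    (h : ∀ i, ∃ b : Γ(X, V i), rs L (hV i) m = b • sv s (V i)) :
    ∃ b : Γ(X, U), m = b • sv s U := by
  choose b hb using h
  obtain ⟨c, hc, -⟩ := X.sheaf.existsUnique_gluing' V U (fun i => homOfLE (hV i)) hU b fun i j => by
      refine smul_sv_cancel hL s hs _ ?_
      change X.presheaf.map (homOfLE inf_le_left).op (b i) • sv s _ =
        X.presheaf.map (homOfLE inf_le_right).op (b j) • sv s _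
      rw [← rs_sv s (show V i ⊓ V j ≤ V i from inf_le_left), ← rs_smul', ← hb i,
        rs_rs, rs_sv s (show V i ⊓ V j ≤ V i from inf_le_left),
        ← rs_sv s (show V i ⊓ V j ≤ V j from inf_le_right), ← rs_smul', ← hb j, rs_rs]
  let c' : Γ(X, U) := c
  refine ⟨c', section_ext V hV hU _ _ fun i => ?_⟩
  rw [rs_smul', rs_sv, hb i]
  exact congrArg (· • sv s (V i)) (hc i).symm

omit [AlgebraicGeometry.IsIntegral X] hL hs in
lemma res_res {A B C : X.Opens} (h₁ : B ≤ A) (h₂ : C ≤ B) (a : Γ(X, A)) :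
    X.presheaf.map (homOfLE h₂).op (X.presheaf.map (homOfLE h₁).op a) =
      X.presheaf.map (homOfLE (h₂.trans h₁)).op a :=
  congr($((X.presheaf.map_comp (homOfLE h₁).op (homOfLE h₂).op).symm) a)

omit [AlgebraicGeometry.IsIntegral X] hL hs in
lemma exists_change (F G : Frame L) {W : X.Opens} (h₁ : W ≤ F.V.1) (h₂ : W ≤ G.V.1) :
    ∃ c : Γ(X, W), rs L h₂ G.e = c • rs L h₁ F.e := by
  obtain ⟨c, hc⟩ := (F.he W h₁).surjective (rs L h₂ G.e)
  exact ⟨c, hc.symm⟩

/-- the functions multiplying every frame into the multiples of `s` -/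
noncomputable def goodIdeal (U : X.affineOpens) : Ideal Γ(X, U.1) where
  carrier := {a | ∀ F : Frame L, ∀ hF : F.V.1 ≤ U.1, ∃ b : Γ(X, F.V.1),
    X.presheaf.map (homOfLE hF).op a • F.e = b • sv s F.V.1}
  add_mem' {a a'} ha ha' F hF := by
    obtain ⟨b, hb⟩ := ha F hF; obtain ⟨b', hb'⟩ := ha' F hF
    exact ⟨b + b', by rw [map_add, add_smul, add_smul, hb, hb']⟩
  zero_mem' F hF := ⟨0, by rw [map_zero, zero_smul, zero_smul]⟩
  smul_mem' c {a} ha F hF := by
    obtain ⟨b, hb⟩ := ha F hF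
    exact ⟨X.presheaf.map (homOfLE hF).op c * b, by rw [smul_eq_mul, map_mul, mul_smul, hb, mul_smul]⟩

/-- on a frame's own open: a function killing the frame into multiples of `s` is good -/
lemma mem_goodIdeal_of_frame (F : Frame L) {a : Γ(X, F.V.1)} {b : Γ(X, F.V.1)}
    (h : a • F.e = b • sv s F.V.1) : a ∈ goodIdeal s F.V := by
  intro G hG
  obtain ⟨d, hd⟩ := exists_change F G hG le_rfl
  refine ⟨d * X.presheaf.map (homOfLE hG).op b, ?_⟩
  have hd' : G.e = d • rs L hG F.e := by simpa [rs] using hd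
  rw [hd', ← mul_smul, mul_comm _ d, mul_smul, ← rs_smul', h, rs_smul', rs_sv, ← mul_smul]

lemma goodIdeal_le (U : X.affineOpens) {a : Γ(X, U.1)} (ha : a ∈ goodIdeal s U) (m : Γ(L, U.1)) :
    ∃ b : Γ(X, U.1), a • m = b • sv s U.1 := by
  refine exists_eq_smul_sv hL s hs (fun F : {F : Frame L // F.V.1 ≤ U.1} => F.1.V.1) (fun F => F.2)
    (fun x hx => ?_) _ fun F => ?_
  · obtain ⟨F, hxF, hF⟩ := exists_frame hL hx
    exact Opens.mem_iSup.mpr ⟨⟨F, hF⟩, hxF⟩
  · obtain ⟨b, hb⟩ := ha F.1 F.2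
    refine ⟨coord F.1 (rs L F.2 m) * b, ?_⟩
    rw [rs_smul', ← coord_smul F.1 (rs L F.2 m), ← mul_smul, mul_comm, mul_smul, hb, ← mul_smul,
      coord_smul]

lemma map_goodIdeal (U : X.affineOpens) (g : Γ(X, U.1)) :
    (goodIdeal s U).map (X.presheaf.map (homOfLE (X.basicOpen_le g)).op).hom =
      goodIdeal s (X.affineBasicOpen g) := by
  haveI := U.2.isLocalization_basicOpen g
  apply le_antisymm
  · refine Ideal.map_le_iff_le_comap.mpr fun a ha F hF => ?_
    obtain ⟨b, hb⟩ := ha F (hF.trans (X.basicOpen_le g))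
    exact ⟨b, by rw [← hb]; exact congrArg (· • F.e) (res_res (X.basicOpen_le g) hF a)⟩
  · intro x hx
    obtain ⟨⟨a, ⟨_, m, rfl⟩⟩, hxa⟩ := IsLocalization.surj (Submonoid.powers g) x
    have hxa' : x * X.presheaf.map (homOfLE (X.basicOpen_le g)).op (g ^ m) =
        X.presheaf.map (homOfLE (X.basicOpen_le g)).op a := hxa
    -- finitely many frames cover `U`
    obtain ⟨T, hT⟩ := U.2.isCompact.elim_finite_subcover
      (fun F : {F : Frame L // F.V.1 ≤ U.1} => (F.1.V.1 : Set X))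
      (fun F => F.1.V.1.isOpen) (fun y hy => by
        obtain ⟨F, hyF, hFU⟩ := exists_frame hL hy
        exact Set.mem_iUnion.mpr ⟨⟨F, hFU⟩, hyF⟩)
    have key : ∀ F : {F : Frame L // F.V.1 ≤ U.1}, ∃ (l : ℕ) (b : Γ(X, F.1.V.1)),
        X.presheaf.map (homOfLE F.2).op (g ^ l * a) • F.1.e = b • sv s F.1.V.1 := by
      intro F
      let g' := X.presheaf.map (homOfLE F.2).op g
      haveI := F.1.V.2.isLocalization_basicOpen g'
      have hD : X.basicOpen g' ≤ X.basicOpen g :=
        (X.basicOpen_res g (homOfLE F.2).op).le.trans inf_le_right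
      have hDV : X.basicOpen g' ≤ F.1.V.1 := X.basicOpen_le g'
      obtain ⟨b0, hb⟩ := hx ⟨X.affineBasicOpen g', _, F.1.he.res hDV⟩ hD
      let b : Γ(X, X.basicOpen g') := b0
      have hxD := congrArg (X.presheaf.map (homOfLE hD).op) hxa'
      rw [map_mul, res_res, res_res] at hxD
      obtain ⟨⟨d, ⟨_, l, rfl⟩⟩, hd⟩ := IsLocalization.surj (Submonoid.powers g')
        (b * X.presheaf.map (homOfLE (hDV.trans F.2)).op (g ^ m))
      have hd' : b * X.presheaf.map (homOfLE (hDV.trans F.2)).op (g ^ m) *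
          X.presheaf.map (homOfLE hDV).op (g' ^ l) = X.presheaf.map (homOfLE hDV).op d := hd
      have hb' : X.presheaf.map (homOfLE hD).op x • rs L hDV F.1.e = b • sv s (X.basicOpen g') := hb
      have hgl : X.presheaf.map (homOfLE F.2).op (g ^ l) = g' ^ l :=
        map_pow (X.presheaf.map (homOfLE F.2).op).hom g l
      have h1 : X.presheaf.map (homOfLE hDV).op (X.presheaf.map (homOfLE F.2).op (g ^ l * a)) =
          X.presheaf.map (homOfLE hDV).op (d * coord F.1 (sv s F.1.V.1)) := by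
        refine (F.1.he _ hDV).injective ?_
        change _ • rs L hDV F.1.e = _ • rs L hDV F.1.e
        rw [map_mul, map_mul, hgl, res_res F.2 hDV a, ← hxD, map_mul, ← hd', mul_smul _
          (X.presheaf.map (homOfLE hDV).op (coord F.1 (sv s F.1.V.1))), ← rs_smul', coord_smul, rs_sv]
        calc (X.presheaf.map (homOfLE hDV).op (g' ^ l) * (X.presheaf.map (homOfLE hD).op x *
              X.presheaf.map (homOfLE (hDV.trans F.2)).op (g ^ m))) • rs L hDV F.1.e
            = (X.presheaf.map (homOfLE hDV).op (g' ^ l) *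
              X.presheaf.map (homOfLE (hDV.trans F.2)).op (g ^ m)) •
                (X.presheaf.map (homOfLE hD).op x • rs L hDV F.1.e) := by rw [← mul_smul]; ring_nf
          _ = _ := by rw [hb', ← mul_smul]; ring_nf
      obtain ⟨⟨_, l', rfl⟩, hl'⟩ := (IsLocalization.eq_iff_exists (Submonoid.powers g') _).mp h1
      refine ⟨l' + l, g' ^ l' * d, ?_⟩
      change g' ^ l' * X.presheaf.map (homOfLE F.2).op (g ^ l * a) =
        g' ^ l' * (d * coord F.1 (sv s F.1.V.1)) at hl'
      rw [pow_add, mul_assoc, map_mul]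
      rw [show X.presheaf.map (homOfLE F.2).op (g ^ l') = g' ^ l' from
        map_pow (X.presheaf.map (homOfLE F.2).op).hom g l', hl', ← mul_assoc, mul_smul, coord_smul]
    choose l b hb using key
    let M := T.sup l
    have hmem : g ^ M * a ∈ goodIdeal s U := by
      intro G hG
      refine exists_eq_smul_sv hL s hs (fun F : {F // F ∈ T} => G.V.1 ⊓ F.1.1.V.1)
        (fun F => inf_le_left) (fun y hy => ?_) _ fun F => ?_
      · obtain ⟨F, hFT, hyF⟩ := Set.mem_iUnion₂.mp (hT (hG hy))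
        exact Opens.mem_iSup.mpr ⟨⟨F, hFT⟩, hy, hyF⟩
      · obtain ⟨c, hc⟩ := exists_change F.1.1 G
          (show G.V.1 ⊓ F.1.1.V.1 ≤ F.1.1.V.1 from inf_le_right) inf_le_left
        refine ⟨c * X.presheaf.map (homOfLE (inf_le_left.trans hG)).op (g ^ (M - l F.1)) *
          X.presheaf.map (homOfLE inf_le_right).op (b F.1), ?_⟩
        rw [rs_smul', res_res, hc, mul_smul _ (X.presheaf.map (homOfLE inf_le_right).op (b F.1)),
          ← rs_sv s (show G.V.1 ⊓ F.1.1.V.1 ≤ F.1.1.V.1 from inf_le_right), ← rs_smul', ← hb F.1,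
          rs_smul', res_res, ← mul_smul, ← mul_smul]
        congr 1
        rw [show M = (M - l F.1) + l F.1 from (Nat.sub_add_cancel (Finset.le_sup F.2)).symm, pow_add,
          mul_assoc, map_mul, Nat.add_sub_cancel]
        ring
    have hu : IsUnit (X.presheaf.map (homOfLE (X.basicOpen_le g)).op (g ^ (M + m))) :=
      IsLocalization.map_units Γ(X, X.basicOpen g) (⟨g ^ (M + m), M + m, rfl⟩ : Submonoid.powers g)
    refine (Ideal.mul_unit_mem_iff_mem _ hu).mp ?_
    rw [pow_add, map_mul, mul_left_comm, hxa', ← map_mul]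
    exact Ideal.mem_map_of_mem _ hmem

/-- the ideal sheaf of good functions -/
noncomputable def goodSheaf : X.IdealSheafData where
  ideal := goodIdeal s
  map_ideal_basicOpen := map_goodIdeal hL s hs

/-- the ideal of the zero scheme on a frame -/
lemma zeroScheme_ideal_eq (F : Frame L) :
    (PicF2.zeroScheme L s).ideal F.V = Ideal.span {coord F (sv s F.V.1)} := by
  apply le_antisymm
  · intro a ha
    obtain ⟨b0, hb⟩ := Scheme.IdealSheafData.ideal_ofIdeals_le _ F.V ha F.e
    let b : Γ(X, F.V.1) := b0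
    rw [Ideal.mem_span_singleton]
    refine ⟨b, (F.he F.V.1 le_rfl).injective ?_⟩
    have h1 : (a : Γ(X, F.V.1)) • F.e = b • sv s F.V.1 := hb
    rw [← coord_smul F (sv s F.V.1)] at h1
    simpa [rs, mul_comm b, mul_smul, smul_comm b] using h1
  · refine (Ideal.span_singleton_le_iff_mem _).mpr ?_
    have hle : goodSheaf hL s hs ≤ PicF2.zeroScheme L s :=
      Scheme.IdealSheafData.le_ofIdeals_iff.mpr fun U a ha => goodIdeal_le hL s hs U ha
    exact hle F.V (mem_goodIdeal_of_frame hL s hs F (b := 1) (by rw [coord_smul, one_smul]))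

/-- equal zero schemes: `s'` is a multiple of `s` -/
lemma exists_eq_smul (s' : Coh.structureModule X ⟶ L) (hs' : s' ≠ 0)
    (h : PicF2.zeroScheme L s' = PicF2.zeroScheme L s) :
    ∃ c : Γ(X, ⊤), sv s' ⊤ = c • sv s ⊤ := by
  refine exists_eq_smul_sv hL s hs (fun F : Frame L => F.V.1) (fun F => le_top) (fun x hx => ?_) _
    fun F => ?_
  · obtain ⟨F, hxF, -⟩ := exists_frame hL hx
    exact Opens.mem_iSup.mpr ⟨F, hxF⟩
  · have h1 : coord F (sv s' F.V.1) ∈ (PicF2.zeroScheme L s').ideal F.V := by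
      rw [zeroScheme_ideal_eq hL s' hs']; exact Ideal.mem_span_singleton_self _
    rw [h, zeroScheme_ideal_eq hL s hs, Ideal.mem_span_singleton] at h1
    obtain ⟨b, hb⟩ := h1
    exact ⟨b, by rw [rs_sv, ← coord_smul F (sv s' F.V.1), hb, mul_comm, mul_smul, coord_smul]⟩

omit [AlgebraicGeometry.IsIntegral X] hL hs in
/-- scaling by a unit does not change the zero scheme -/
lemma zeroScheme_eq_of_smul (s' : Coh.structureModule X ⟶ L) {c : Γ(X, ⊤)} (hc : IsUnit c)
    (h : sv s' ⊤ = c • sv s ⊤) : PicF2.zeroScheme L s' = PicF2.zeroScheme L s := by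
  have key : ∀ U : X.Opens, PicF2.zeroIdealOn L s' U = PicF2.zeroIdealOn L s U := by
    intro U
    obtain ⟨v, hv⟩ := hc.map (X.presheaf.map (homOfLE (le_top : U ≤ ⊤)).op).hom
    have hU : sv s' U = (v : Γ(X, U)) • sv s U := by
      rw [hv, ← rs_sv s' (le_top : U ≤ ⊤), h, rs_smul', rs_sv]
    ext a
    refine forall_congr' fun m => ⟨fun ⟨b, hb⟩ => ⟨(show Γ(X, U) from b) * (v : Γ(X, U)), ?_⟩,
      fun ⟨b, hb⟩ => ⟨(show Γ(X, U) from b) * ((v⁻¹ : (Γ(X, U))ˣ) : Γ(X, U)), ?_⟩⟩
    · have hb' : (show Γ(X, U) from a) • (show Γ(L, U) from m) = (show Γ(X, U) from b) • sv s' U := hb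
      rw [hU, ← mul_smul] at hb'
      exact hb'
    · have hb' : (show Γ(X, U) from a) • (show Γ(L, U) from m) = (show Γ(X, U) from b) • sv s U := hb
      have h2 : (show Γ(X, U) from a) • (show Γ(L, U) from m) =
          ((show Γ(X, U) from b) * ((v⁻¹ : (Γ(X, U))ˣ) : Γ(X, U))) • sv s' U := by
        rw [hb', hU, ← mul_smul, mul_assoc, Units.inv_mul, mul_one]
      exact h2
  unfold PicF2.zeroScheme
  exact congrArg Scheme.IdealSheafData.ofIdeals (funext fun U => key U.1)

end Groth.Agent.H95.ZeroSch
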