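import Groth.Prelude.Def_UnitsSh
import Groth.Prelude.Def_ClSub2
import Groth.Agent.Lib.ClSub.Sections
import Mathlib.CategoryTheory.Sites.LocallySurjective
import Mathlib.Topology.Sheaves.SheafCondition.UniqueGluing
import Mathlib.RingTheory.Nilpotent.Basic
import Mathlib.Algebra.Homology.ShortComplex.ShortExact

/-!
The units exact sequence `0 → J → O^× → i_* O₀^× → 0` of a square zero ideal.
-/

set_option autoImplicit false
universe u
open CategoryTheory CategoryTheory.Limits AlgebraicGeometry TopologicalSpace Opposite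

namespace Groth.Agent.H95.UnitsSeq

variable {X : Scheme.{u}} (J : X.IdealSheafData) (hJ : J * J = ⊥)

include hJ in
lemma ideal_mul_eq_zero (U : X.affineOpens) {a b : Γ(X, U.1)} (ha : a ∈ J.ideal U) (hb : b ∈ J.ideal U) :
    a * b = 0 := by
  have h : a * b ∈ (J * J).ideal U := by
    rw [Scheme.IdealSheafData.ideal_mul]
    exact Ideal.mul_mem_mul ha hb
  rw [hJ, Scheme.IdealSheafData.ideal_bot] at h
  exact h

include hJ in
lemma mul_eq_zero_of_app_eq_zero (U : X.Opens) {a b : Γ(X, U)} (ha : J.subschemeι.app U a = 0)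
    (hb : J.subschemeι.app U b = 0) : a * b = 0 := by
  obtain ⟨ι, V, hV, hVU⟩ : ∃ (ι : Type u) (V : ι → X.affineOpens), (∀ i, (V i).1 ≤ U) ∧ U ≤ ⨆ i, (V i).1 := by
    refine ⟨{V : X.affineOpens // V.1 ≤ U}, Subtype.val, fun i => i.2, fun x hx => ?_⟩
    obtain ⟨V, hV, hxV, hle⟩ := exists_isAffineOpen_mem_and_subset (U := U) hx
    exact Opens.mem_iSup.mpr ⟨⟨⟨V, hV⟩, hle⟩, hxV⟩
  refine X.sheaf.eq_of_locally_eq' (fun i => (V i).1) U (fun i => homOfLE (hV i)) hVU _ _ fun i => ?_
  change X.presheaf.map (homOfLE (hV i)).op (a * b) = X.presheaf.map (homOfLE (hV i)).op 0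
  rw [map_mul, map_zero]
  refine ideal_mul_eq_zero J hJ (V i) ?_ ?_
  all_goals
    rw [← J.ker_subschemeι_app (V i), RingHom.mem_ker]
    first
    | (refine (congr($(J.subschemeι.naturality (homOfLE (hV i)).op) a)).trans ?_
       simp [ha])
    | (refine (congr($(J.subschemeι.naturality (homOfLE (hV i)).op) b)).trans ?_
       simp [hb])

/-- a section of the ideal as a function -/
noncomputable def val {U : X.Opens} (m : Γ(ClSub.idealMod J, U)) : Γ(X, U) :=
  (ClSub.idealModι J).app U m

lemma app_val {U : X.Opens} (m : Γ(ClSub.idealMod J, U)) : J.subschemeι.app U (val J m) = 0 :=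
  (Groth.Agent.Lib.ClSub.Sections.mem_range_idealModι_app_iff J U _).mp ⟨m, rfl⟩

lemma val_add {U : X.Opens} (m n : Γ(ClSub.idealMod J, U)) : val J (m + n) = val J m + val J n :=
  map_add ((ClSub.idealModι J).app U).hom m n

lemma val_zero {U : X.Opens} : val J (0 : Γ(ClSub.idealMod J, U)) = 0 :=
  map_zero ((ClSub.idealModι J).app U).hom

include hJ in
lemma val_mul_val {U : X.Opens} (m n : Γ(ClSub.idealMod J, U)) : val J m * val J n = 0 :=
  mul_eq_zero_of_app_eq_zero J hJ U (app_val J m) (app_val J n)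

/-- `1 + m` as a unit -/
noncomputable def oneAdd {U : X.Opens} (m : Γ(ClSub.idealMod J, U)) : Γ(X, U)ˣ where
  val := 1 + val J m
  inv := 1 + val J (-m)
  val_inv := by
    have h1 : val J m + val J (-m) = 0 := by rw [← val_add, add_neg_cancel, val_zero]
    linear_combination h1 + val_mul_val J hJ m (-m)
  inv_val := by
    have h1 : val J m + val J (-m) = 0 := by rw [← val_add, add_neg_cancel, val_zero]
    linear_combination h1 + val_mul_val J hJ (-m) m

/-- the map `J ⟶ O^×`, `f ↦ 1 + f` -/
noncomputable def phi : Coh.toAb (ClSub.idealMod J) ⟶ UnitsSh.unitsAb X :=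
  ⟨{ app := fun U => AddCommGrpCat.ofHom
      { toFun := fun (m : Γ(ClSub.idealMod J, U.unop)) =>
          UnitsSh.sectOfUnit (O := X.presheaf) (U := U) (oneAdd J hJ m)
        map_zero' := congrArg (UnitsSh.sectOfUnit (O := X.presheaf) (U := U)) (Units.ext (by
          change 1 + val J 0 = 1
          rw [val_zero, add_zero]))
        map_add' := fun m n => congrArg (UnitsSh.sectOfUnit (O := X.presheaf) (U := U)) (Units.ext (by
          change 1 + val J (m + n) = (1 + val J m) * (1 + val J n)
          refine Eq.trans (congrArg (1 + ·) (val_add J m n)) ?_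
          linear_combination -(val_mul_val J hJ (U := U.unop) m n))) }
     naturality := fun U V i => by
      ext m
      refine congrArg (UnitsSh.sectOfUnit (O := X.presheaf) (U := V)) (Units.ext ?_)
      change 1 + val J ((ClSub.idealMod J).presheaf.map i m) = X.presheaf.map i (1 + val J m)
      rw [map_add, map_one]
      exact congrArg (1 + ·) (congr($((ClSub.idealModι J).mapPresheaf.naturality i) m)) }⟩

lemma phi_app (U : X.Opens) (m : Γ(ClSub.idealMod J, U)) :
    (UnitsSh.unitOfSect (O := X.presheaf) (U := op U) ((phi J hJ).hom.app (op U) m)).val = 1 + val J m := rfl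

lemma phi_app_injective (U : X.Opens) : Function.Injective ((phi J hJ).hom.app (op U)) := by
  intro m n h
  apply Groth.Agent.Lib.ClSub.Sections.idealModι_app_injective J U
  have := congrArg (fun s => (UnitsSh.unitOfSect (O := X.presheaf) (U := op U) s).val) h
  change (1 : Γ(X, U)) + val J m = 1 + val J n at this
  exact (add_right_inj (1 : Γ(X, U))).mp this

lemma comap_app_eq_zero_iff {W : X.Opens} (s : (UnitsSh.unitsAb X).obj.obj (op W)) :
    (UnitsSh.comap J.subschemeι).hom.app (op W) s = 0 ↔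
      J.subschemeι.app W (UnitsSh.unitOfSect (O := X.presheaf) s).val = 1 := by
  constructor
  · intro h
    exact congrArg (fun t => (UnitsSh.unitOfSect (X := X.toTopCat)
      (O := (J.subschemeι.base _* J.subscheme.presheaf)) t).val) h
  · intro h
    exact congrArg (UnitsSh.sectOfUnit (X := X.toTopCat)
      (O := (J.subschemeι.base _* J.subscheme.presheaf)) (U := op W)) (Units.ext h)

lemma phi_comap : phi J hJ ≫ UnitsSh.comap J.subschemeι = 0 := by
  apply Sheaf.hom_ext
  ext ⟨U⟩ m
  refine (comap_app_eq_zero_iff J _).mpr ?_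
  change J.subschemeι.app U (1 + val J m) = 1
  rw [map_add, map_one]
  exact (congrArg (1 + ·) (app_val J m)).trans (add_zero 1)

lemma exists_of_comap_eq_zero {U : X.Opens} (s : (UnitsSh.unitsAb X).obj.obj (op U))
    (h : (UnitsSh.comap J.subschemeι).hom.app (op U) s = 0) :
    ∃ m : Γ(ClSub.idealMod J, U), (phi J hJ).hom.app (op U) m = s := by
  rw [comap_app_eq_zero_iff] at h
  obtain ⟨m, hm⟩ := (Groth.Agent.Lib.ClSub.Sections.mem_range_idealModι_app_iff J U
    ((UnitsSh.unitOfSect (O := X.presheaf) s).val - 1)).mpr (by rw [map_sub, map_one, h, sub_self])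
  refine ⟨m, congrArg (UnitsSh.sectOfUnit (O := X.presheaf) (U := op U))
    (Units.ext (?_ : _ = (UnitsSh.unitOfSect (O := X.presheaf) s).val))⟩
  change 1 + val J m = _
  rw [val, hm, add_sub_cancel]

noncomputable def lift (T : CohTop.Ab X.toTopCat) (g : T ⟶ UnitsSh.unitsAb X)
    (hg : g ≫ UnitsSh.comap J.subschemeι = 0) : T ⟶ Coh.toAb (ClSub.idealMod J) := by
  have key : ∀ (U : X.Opensᵒᵖ) (t : T.obj.obj U), ∃ m : (Coh.toAb (ClSub.idealMod J)).obj.obj U,
      (phi J hJ).hom.app U m = g.hom.app U t := fun U t =>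
    exists_of_comap_eq_zero J hJ (U := U.unop) (g.hom.app U t)
      (congr(($hg).hom.app U t))
  choose l hl using key
  refine ⟨{ app := fun U => AddCommGrpCat.ofHom (AddMonoidHom.mk' (l U) fun a b => ?_), naturality := ?_ }⟩
  · apply phi_app_injective J hJ U.unop
    refine Eq.trans ?_ (map_add ((phi J hJ).hom.app U).hom _ _).symm
    exact (hl U (a + b)).trans ((map_add (g.hom.app U).hom a b).trans
      (congrArg₂ (· + ·) (hl U a).symm (hl U b).symm))
  · intro U V i
    ext t
    apply phi_app_injective J hJ V.unop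
    refine (hl V _).trans ?_
    refine (congr($(g.hom.naturality i) t)).trans ?_
    refine ((congrArg ((UnitsSh.unitsAb X).obj.map i) (hl U t)).symm).trans ?_
    exact (congr($((phi J hJ).hom.naturality i) (l U t))).symm

lemma mono_phi : Mono (phi J hJ) := ⟨fun a b h => by
  apply Sheaf.hom_ext
  ext ⟨U⟩ t
  exact phi_app_injective J hJ U (congr(($h).hom.app (op U) t))⟩

lemma lift_phi (T : CohTop.Ab X.toTopCat) (g : T ⟶ UnitsSh.unitsAb X)
    (hg : g ≫ UnitsSh.comap J.subschemeι = 0) : lift J hJ T g hg ≫ phi J hJ = g := by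
  apply Sheaf.hom_ext
  ext ⟨U⟩ t
  exact Classical.choose_spec (exists_of_comap_eq_zero J hJ (g.hom.app (op U) t)
      (congr(($hg).hom.app (op U) t)))

include hJ in
lemma isLocallySurjective_comap :
    Sheaf.IsLocallySurjective (UnitsSh.comap J.subschemeι) := by
  refine ⟨fun {V} s x hx => ?_⟩
  obtain ⟨U, hU, hxU, hle⟩ := exists_isAffineOpen_mem_and_subset (U := V) hx
  refine ⟨U, homOfLE hle, ?_, hxU⟩
  let s' := ((CohTop.push J.subschemeι.base).obj (UnitsSh.unitsAb J.subscheme)).obj.map (homOfLE hle).op s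
  let v : Γ(J.subscheme, J.subschemeι ⁻¹ᵁ U)ˣ :=
    UnitsSh.unitOfSect (X := X.toTopCat) (O := (J.subschemeι.base _* J.subscheme.presheaf)) (U := op U) s'
  obtain ⟨a, ha⟩ := J.subschemeι_app_surjective ⟨U, hU⟩ v.val
  obtain ⟨b, hb⟩ := J.subschemeι_app_surjective ⟨U, hU⟩ v.inv
  have h1 : J.subschemeι.app U (a * b - 1) = 0 := by
    rw [map_sub, map_mul, map_one]
    erw [ha, hb]
    rw [v.val_inv, sub_self]
  have hu : IsUnit a := by
    have h2 : IsUnit (a * b) := by
      have h3 : IsNilpotent (a * b - 1) :=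
        ⟨2, by rw [sq]; exact mul_eq_zero_of_app_eq_zero J hJ U h1 h1⟩
      simpa using h3.isUnit_one_add
    exact isUnit_of_mul_isUnit_left h2
  refine ⟨UnitsSh.sectOfUnit (O := X.presheaf) (U := op U) hu.unit, ?_⟩
  exact congrArg (UnitsSh.sectOfUnit (X := X.toTopCat)
    (O := (J.subschemeι.base _* J.subscheme.presheaf)) (U := op U)) (Units.ext ha : _ = v)

theorem shortExact : (ShortComplex.mk (phi J hJ) (UnitsSh.comap J.subschemeι) (phi_comap J hJ)).ShortExact := by
  haveI := mono_phi J hJ
  haveI := isLocallySurjective_comap J hJ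
  haveI : Epi (UnitsSh.comap J.subschemeι) := Sheaf.epi_of_isLocallySurjective _
  refine ShortComplex.ShortExact.mk' ?_ inferInstance inferInstance
  refine ShortComplex.exact_of_f_is_kernel _ ?_
  exact KernelFork.IsLimit.ofι' _ _ fun {T} g hg => ⟨lift J hJ T g hg, lift_phi J hJ T g hg⟩

end Groth.Agent.H95.UnitsSeq
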