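import Groth.Prelude.Def_Lef
import Groth.Agent.Lib.Modules.Free

/-!
`Lef(X, Y)`: connected neighbourhoods of connected closed subsets (idempotents).
-/

set_option autoImplicit false
universe u
open CategoryTheory CategoryTheory.Limits AlgebraicGeometry TopologicalSpace Opposite
open Groth.Agent.Lib.Modules.Free

namespace Groth.Agent.H95.LefConn

variable {Z X : Scheme.{u}}

abbrev res {U V : Z.Opens} (h : V ≤ U) (a : Γ(Z, U)) : Γ(Z, V) :=
  Z.presheaf.map (homOfLE h).op a

/-- `e` is `1` on `A` and `0` on `B` -/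
def IsStep (A B : Z.Opens) (e : Γ(Z, ⊤)) : Prop :=
  res le_top e = (1 : Γ(Z, A)) ∧ res le_top e = (0 : Γ(Z, B))

lemma step_ext {A B : Z.Opens} (hu : A ⊔ B = ⊤) {e e' : Γ(Z, ⊤)} (he : IsStep A B e)
    (he' : IsStep A B e') : e = e' :=
  Z.sheaf.eq_of_locally_eq₂ (homOfLE le_top : A ⟶ ⊤) (homOfLE le_top : B ⟶ ⊤) hu.ge e e'
    (he.1.trans he'.1.symm) (he.2.trans he'.2.symm)

lemma exists_step {A B : Z.Opens} (hd : A ⊓ B = ⊥) (hu : A ⊔ B = ⊤) :
    ∃ e : Γ(Z, ⊤), IsStep A B e := by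
  let V : ULift.{u} Bool → Z.Opens := fun i => bif i.down then A else B
  let s : ∀ i, Γ(Z, V i) := fun i => bif i.down then 1 else 0
  obtain ⟨e, he, -⟩ := Z.sheaf.existsUnique_gluing' V ⊤ (fun i => homOfLE le_top) (by
      rw [← hu]
      exact sup_le (le_iSup V ⟨true⟩) (le_iSup V ⟨false⟩)) s fun i j => by
    rcases eq_or_ne i j with rfl | hij
    · rfl
    · have h0 : V i ⊓ V j = ⊥ := by
        obtain ⟨i⟩ := i; obtain ⟨j⟩ := j
        cases i <;> cases j
        · exact (hij rfl).elim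
        · exact (inf_comm B A).trans hd
        · exact hd
        · exact (hij rfl).elim
      haveI : Subsingleton Γ(Z, V i ⊓ V j) := by rw [h0]; infer_instance
      exact Subsingleton.elim (α := Γ(Z, V i ⊓ V j)) _ _
  refine ⟨e, ?_, ?_⟩
  · have := he ⟨true⟩
    simp only [s, V, cond_true] at this
    exact this
  · have := he ⟨false⟩
    simp only [s, V, cond_false] at this
    exact this

lemma res_app (f : Z ⟶ X) {U V : X.Opens} (h : V ≤ U) (a : Γ(X, U)) :
    res (f.preimage_mono h) (f.app U a) = f.app V (res h a) :=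
  (congr($(f.naturality (homOfLE h).op) a)).symm

lemma step_map (f : Z ⟶ X) {A B : X.Opens} {e : Γ(X, ⊤)} (he : IsStep A B e) :
    IsStep (f ⁻¹ᵁ A) (f ⁻¹ᵁ B) (f.appTop e) :=
  ⟨(res_app f le_top e).trans ((congrArg (f.app A) he.1).trans (map_one _)),
    (res_app f le_top e).trans ((congrArg (f.app B) he.2).trans (map_zero _))⟩

lemma step_idem {A B : Z.Opens} (hu : A ⊔ B = ⊤) {e : Γ(Z, ⊤)} (he : IsStep A B e) :
    e * e = e :=
  step_ext hu ⟨by rw [res, map_mul]; exact (congrArg₂ (· * ·) he.1 he.1).trans (one_mul 1),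
    by rw [res, map_mul]; exact (congrArg₂ (· * ·) he.2 he.2).trans (zero_mul 0)⟩ he

lemma le_basicOpen {A B : Z.Opens} {e : Γ(Z, ⊤)} (he : IsStep A B e) :
    A ≤ Z.basicOpen e ∧ B ≤ Z.basicOpen (1 - e) := by
  constructor
  · have h := Z.basicOpen_res e (homOfLE (le_top : A ≤ ⊤)).op
    rw [show Z.presheaf.map (homOfLE (le_top : A ≤ ⊤)).op e = 1 from he.1, Z.basicOpen_of_isUnit isUnit_one] at h
    exact h.le.trans inf_le_right
  · have h := Z.basicOpen_res (1 - e) (homOfLE (le_top : B ≤ ⊤)).op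
    rw [map_sub, map_one, show Z.presheaf.map (homOfLE (le_top : B ≤ ⊤)).op e = 0 from he.2, sub_zero,
      Z.basicOpen_of_isUnit isUnit_one] at h
    exact h.le.trans inf_le_right

variable (J : X.IdealSheafData)

lemma toSubscheme_app_top (I : X.IdealSheafData) (a : Γ(X, ⊤)) :
    (ClSub.toSubscheme I).app ⊤ a = I.subschemeι.appTop a := rfl

lemma quotMap_app_top {I I' : X.IdealSheafData} (h : I ≤ I') (a : Γ(I.subscheme, ⊤)) :
    (Lef.quotMap h).app ⊤ a = (Scheme.IdealSheafData.inclusion h).appTop a := by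
  have e : ∀ (e : (⊤ : I'.subscheme.Opens) = ⊤) (x : Γ(I'.subscheme, ⊤)),
      I'.subscheme.presheaf.map (eqToHom e).op x = x := fun e x => by
    rw [eqToHom_refl, op_id, CategoryTheory.Functor.map_id]; rfl
  refine Eq.trans ?_ (e rfl _)
  rfl

lemma exists_hom (M : X.Modules) (m : Γ(M, ⊤)) :
    ∃ φ : Coh.structureModule X ⟶ M, φ.app ⊤ (1 : Γ(X, ⊤)) = m :=
  ⟨unitHom M m, unitHom_app_one M m⟩

/-- global functions are determined by their restrictions to the thickenings -/
lemma fun_ext (hJ : Lef.HomToFormalBijective J (Coh.structureModule X)) {a b : Γ(X, ⊤)}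
    (h : ∀ n : ℕ, (J ^ (n + 1)).subschemeι.appTop a = (J ^ (n + 1)).subschemeι.appTop b) : a = b := by
  obtain ⟨φ, hφ⟩ := exists_hom (Coh.structureModule X) a
  obtain ⟨ψ, hψ⟩ := exists_hom (Coh.structureModule X) b
  have h2 : φ = ψ := hJ.1 φ ψ fun n => unitHom_ext
    ((congrArg ((ClSub.toSubscheme (J ^ (n + 1))).app ⊤) hφ).trans
      ((h n).trans (congrArg ((ClSub.toSubscheme (J ^ (n + 1))).app ⊤) hψ).symm))
  subst h2
  exact hφ.symm.trans hψ

/-- compatible functions on the thickenings come from a global function -/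
lemma fun_exists (hJ : Lef.HomToFormalBijective J (Coh.structureModule X))
    (e : ∀ n : ℕ, Γ((J ^ (n + 1)).subscheme, ⊤))
    (he : ∀ n : ℕ, (Scheme.IdealSheafData.inclusion (Lef.pow_succ_le J n)).appTop (e (n + 1)) = e n) :
    ∃ a : Γ(X, ⊤), ∀ n : ℕ, (J ^ (n + 1)).subschemeι.appTop a = e n := by
  choose y hy using fun n => exists_hom (ClSub.quotMod (J ^ (n + 1))) (e n)
  obtain ⟨φ, hφ⟩ := hJ.2 y fun n => unitHom_ext
    ((congrArg ((Lef.quotMap (Lef.pow_succ_le J n)).app ⊤) (hy (n + 1))).trans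
      ((quotMap_app_top _ _).trans ((he n).trans (hy n).symm)))
  exact ⟨φ.app ⊤ (1 : Γ(X, ⊤)), fun n =>
    (congrArg (fun χ : Coh.structureModule X ⟶ ClSub.quotMod (J ^ (n + 1)) => χ.app ⊤ (1 : Γ(X, ⊤)))
      (hφ n)).trans (hy n)⟩

lemma range_pow (n : ℕ) : Set.range (J ^ (n + 1)).subschemeι = (J.support : Set X) := by
  rw [Scheme.IdealSheafData.range_subschemeι, Scheme.IdealSheafData.support_pow_succ]

lemma isFinLocFree_structure (X : Scheme.{u}) : FlatMod.IsFinLocFree (Coh.structureModule X) :=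
  fun _ => ⟨⊤, 1, trivial, ⟨Scheme.Modules.restrictUnitIso _ ≪≫
    (coproductUniqueIso fun _ : Fin 1 => Coh.structureModule _).symm⟩⟩

lemma isEmpty_of_support_empty (hJ : Lef.HomToFormalBijective J (Coh.structureModule X))
    (h : (J.support : Set X) = ∅) : IsEmpty X := by
  have h01 : (1 : Γ(X, ⊤)) = 0 := fun_ext J hJ fun n => by
    haveI : IsEmpty (J ^ (n + 1)).subscheme := by
      rw [← Set.range_eq_empty_iff (f := (J ^ (n + 1)).subschemeι), range_pow, h]
    have h0 : (⊤ : (J ^ (n + 1)).subscheme.Opens) = ⊥ := Opens.ext (Set.univ_eq_empty_iff.mpr ‹_›)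
    haveI : Subsingleton Γ((J ^ (n + 1)).subscheme, ⊤) := by rw [h0]; infer_instance
    exact Subsingleton.elim _ _
  refine ⟨fun x => ?_⟩
  have h1 := congr(X.presheaf.germ ⊤ x trivial $h01)
  rw [map_one, map_zero] at h1
  exact one_ne_zero h1

/-- if `J.support` is connected, then so is `X` -/
lemma isPreconnected_univ_of_support (hJ : Lef.HomToFormalBijective J (Coh.structureModule X))
    (h : _root_.IsPreconnected (J.support : Set X)) : _root_.IsPreconnected (Set.univ : Set X) := by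
  intro u v hu hv huv ⟨a, _, ha⟩ ⟨b, _, hb⟩
  by_contra hd
  rw [Set.univ_inter, Set.not_nonempty_iff_eq_empty] at hd
  let A : X.Opens := ⟨u, hu⟩
  let B : X.Opens := ⟨v, hv⟩
  have hu' : A ⊔ B = ⊤ := Opens.ext (Set.univ_subset_iff.mp huv)
  have hAB : A ⊓ B = ⊥ := Opens.ext hd
  obtain ⟨e, he⟩ := exists_step hAB hu'
  by_cases hY : ((J.support : Set X) ∩ u).Nonempty
  · -- then `Y` misses `v`
    have hY' : ¬ ((J.support : Set X) ∩ v).Nonempty := fun h' => by
      have := h u v hu hv (fun x _ => huv (Set.mem_univ x)) hY h'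
      rw [hd, Set.inter_empty] at this
      exact Set.not_nonempty_empty this
    have h1 : e = 1 := fun_ext J hJ fun n => by
      rw [map_one]
      have hB : (J ^ (n + 1)).subschemeι ⁻¹ᵁ B = ⊥ := by
        ext z
        simp only [Opens.coe_bot, Set.mem_empty_iff_false, iff_false]
        exact fun hz => hY' ⟨_, range_pow J n ▸ Set.mem_range_self z, hz⟩
      have hA : (J ^ (n + 1)).subschemeι ⁻¹ᵁ A ⊔ (J ^ (n + 1)).subschemeι ⁻¹ᵁ B = ⊤ := by
        rw [← Scheme.Hom.preimage_sup, hu']; rfl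
      haveI : Subsingleton Γ((J ^ (n + 1)).subscheme, (J ^ (n + 1)).subschemeι ⁻¹ᵁ B) := by
        rw [hB]; infer_instance
      exact step_ext hA (step_map _ he) ⟨map_one _, Subsingleton.elim _ _⟩
    have h2 := congr(X.presheaf.germ B b hb $(he.2))
    rw [h1, map_zero, res, map_one, map_one] at h2
    exact one_ne_zero h2
  · have h1 : e = 0 := fun_ext J hJ fun n => by
      rw [map_zero]
      have hA0 : (J ^ (n + 1)).subschemeι ⁻¹ᵁ A = ⊥ := by
        ext z
        simp only [Opens.coe_bot, Set.mem_empty_iff_false, iff_false]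
        exact fun hz => hY ⟨_, range_pow J n ▸ Set.mem_range_self z, hz⟩
      have hA : (J ^ (n + 1)).subschemeι ⁻¹ᵁ A ⊔ (J ^ (n + 1)).subschemeι ⁻¹ᵁ B = ⊤ := by
        rw [← Scheme.Hom.preimage_sup, hu']; rfl
      haveI : Subsingleton Γ((J ^ (n + 1)).subscheme, (J ^ (n + 1)).subschemeι ⁻¹ᵁ A) := by
        rw [hA0]; infer_instance
      exact step_ext hA (step_map _ he) ⟨Subsingleton.elim _ _, map_zero _⟩
    have h2 := congr(X.presheaf.germ A a ha $(he.1))
    rw [h1, map_one, res, map_zero, map_zero] at h2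
    exact zero_ne_one h2

/-- if `X` is connected, then so is `J.support` -/
lemma isPreconnected_support_of_univ (hJ : Lef.HomToFormalBijective J (Coh.structureModule X))
    (h : _root_.IsPreconnected (Set.univ : Set X)) : _root_.IsPreconnected (J.support : Set X) := by
  intro u v hu hv huv ⟨a, haY, ha⟩ ⟨b, hbY, hb⟩
  by_contra hd
  let ι : ∀ n : ℕ, (J ^ (n + 1)).subscheme ⟶ X := fun n => (J ^ (n + 1)).subschemeι
  have hd' : ∀ n, ι n ⁻¹ᵁ ⟨u, hu⟩ ⊓ ι n ⁻¹ᵁ ⟨v, hv⟩ = ⊥ := fun n => by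
    ext z
    simp only [Opens.coe_bot, Set.mem_empty_iff_false, iff_false]
    exact fun hz => hd ⟨_, range_pow J n ▸ Set.mem_range_self z, hz⟩
  have hu' : ∀ n, ι n ⁻¹ᵁ ⟨u, hu⟩ ⊔ ι n ⁻¹ᵁ ⟨v, hv⟩ = ⊤ := fun n =>
    top_unique fun z _ => huv (range_pow J n ▸ Set.mem_range_self z : ι n z ∈ (J.support : Set X))
  choose e he using fun n => exists_step (hd' n) (hu' n)
  obtain ⟨f, hf⟩ := fun_exists J hJ e fun n => by
    refine step_ext (hu' n) ?_ (he n)
    have := step_map (Scheme.IdealSheafData.inclusion (Lef.pow_succ_le J n)) (he (n + 1))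
    have hc : ∀ W : X.Opens, Scheme.IdealSheafData.inclusion (Lef.pow_succ_le J n) ⁻¹ᵁ (ι (n + 1) ⁻¹ᵁ W) =
        ι n ⁻¹ᵁ W := fun W => by
      rw [← Scheme.Hom.comp_preimage]
      exact congrArg (· ⁻¹ᵁ W) (Scheme.IdealSheafData.inclusion_subschemeι (Lef.pow_succ_le J n))
    rw [hc, hc] at this
    exact this
  have hff : f * f = f := fun_ext J hJ fun n => by
    rw [map_mul, hf n]; exact step_idem (hu' n) (he n)
  have hmem : ∀ (g : Γ(X, ⊤)) (y : X) (hy : y ∈ (J.support : Set X)),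
      (∀ z : (J ^ 1).subscheme, ι 0 z = y → z ∈ (J ^ 1).subscheme.basicOpen ((ι 0).appTop g)) →
      y ∈ X.basicOpen g := fun g y hy hz => by
    rw [← range_pow J 0] at hy
    obtain ⟨z, hz'⟩ := hy
    have := hz z hz'
    rw [← Scheme.preimage_basicOpen_top] at this
    exact hz' ▸ this
  have hA : a ∈ X.basicOpen f := hmem f a haY fun z hz => by
    rw [hf 0]; exact (le_basicOpen (he 0)).1 (show ι 0 z ∈ u from hz.symm ▸ ha)
  have hB : b ∈ X.basicOpen (1 - f) := hmem (1 - f) b hbY fun z hz => by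
    rw [map_sub, map_one, hf 0]; exact (le_basicOpen (he 0)).2 (show ι 0 z ∈ v from hz.symm ▸ hb)
  obtain ⟨x, -, hx1, hx2⟩ := h _ _ (X.basicOpen f).isOpen (X.basicOpen (1 - f)).isOpen
    (fun x _ => show x ∈ X.basicOpen f ∨ x ∈ X.basicOpen (1 - f) by
      simp only [Scheme.mem_basicOpen _ _ _ (show x ∈ (⊤ : X.Opens) from trivial), map_sub, map_one]
      exact IsLocalRing.isUnit_or_isUnit_one_sub_self _) ⟨a, trivial, hA⟩ ⟨b, trivial, hB⟩
  have hx : x ∈ X.basicOpen (f * (1 - f)) := by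
    rw [Scheme.basicOpen_mul]; exact ⟨hx1, hx2⟩
  rw [mul_sub, mul_one, hff, sub_self, Scheme.basicOpen_zero] at hx
  exact hx

end Groth.Agent.H95.LefConn
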