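import Groth.Agent.H95.HodgeCompare

/-!
# Negative twists of exterior powers on a divisor
-/

set_option autoImplicit false
set_option linter.style.haveILetI false
universe u

open CategoryTheory CategoryTheory.Limits AlgebraicGeometry Opposite TopologicalSpace OmegaSh

noncomputable section

namespace Groth.Agent.H95.AbsOmega

open Groth.Agent.Lib
open Groth.Agent.H95.HodgeLefschetz (surjective_g)
open Groth.Agent.Lib.TensorMod.Basic (assoc comm tensorIso leftUnit rightUnit)

variable {k : Type u} [Field k] {X : Scheme.{u}} [X.Over (Spec (CommRingCat.of k))]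

variable (k) in
include k in
/-- Vanishing passes from `X` to a divisor through the conormal sequence. -/
theorem subsingleton_divisor (D : X.IdealSheafData) [D.subscheme.Over (Spec (CommRingCat.of k))]
    (hI : PicF.IsInvertible (_root_.ClSub.idealMod D)) {n : ℕ} {ΩX : X.Modules} (hΩ : FlatMod.IsFinLocFree ΩX)
    {ΩY : D.subscheme.Modules} (hΩY : FlatMod.IsFinLocFree ΩY)
    {φ : Omega.conormal D.subschemeι ⟶ (Scheme.Modules.pullback D.subschemeι).obj ΩX}
    {c : (Scheme.Modules.pullback D.subschemeι).obj ΩX ⟶ ΩY} {w : φ ≫ c = 0}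
    (hseq : (ShortComplex.mk φ c w).ShortExact)
    (hvan : ∀ b a j, 1 ≤ j → b + a ≤ n → ∀ E : X.Modules, ExtPow.IsExtPow b ΩX E →
      Subsingleton (Coh.HH X (CohB1.tensorMod E (CohB1.tensorPow (_root_.ClSub.idealMod D) j)) a))
    (p a j : ℕ) (hpa : p + a + 1 ≤ n) (hj : 1 ≤ j) (OmY : D.subscheme.Modules) (hOmY : ExtPow.IsExtPow p ΩY OmY) :
    Subsingleton (Coh.HH D.subscheme
      (CohB1.tensorMod (CohB1.tensorPow ((Scheme.Modules.pullback D.subschemeι).obj (_root_.ClSub.idealMod D)) j) OmY) a) := by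
  obtain ⟨W⟩ := WedgeLine.exists_fam hΩ
  let i := D.subschemeι
  let I := _root_.ClSub.idealMod D
  let C := (Scheme.Modules.pullback i).obj I
  have hker : i.ker = D := Scheme.IdealSheafData.ker_subschemeι D
  let eC : Omega.conormal i ≅ C :=
    eqToIso (show Omega.conormal i = (Scheme.Modules.pullback i).obj (_root_.ClSub.idealMod D) by
      rw [Omega.conormal, hker])
  have hC : PicF.IsInvertible C := PicLoc.isInvertible_pullback i hI
  have hC1 := TensorMod.LocFree.of_isInvertible (TensorMod.Invertible.isInvertible_of_iso eC.symm hC)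
  have hΩXY := TensorMod.LocFree.isFinLocFree_pullback i hΩ
  obtain ⟨F₂⟩ := WedgeLine.exists_fam hΩXY
  obtain ⟨G⟩ := WedgeLine.exists_fam hΩY
  have hW : ∀ b, Nonempty (F₂.L b ≅ (Scheme.Modules.pullback i).obj (W.L b)) := fun b =>
    ExtFilt.Lambda.nonempty_iso_of_isExtPow (WedgeLine.fam_isExtPow F₂ b)
      (haveI := Modules.AffineSections.isQCoh_of_isFinLocFree hΩ
       ExtPowPullQ.isExtPow_pullback i (WedgeLine.fam_isExtPow W b) (Iso.refl _))
  have h0 : Nonempty (F₂.L 0 ≅ G.L 0) := by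
    obtain ⟨e₁⟩ := ExtFilt.Lambda.nonempty_iso_of_isExtPow (WedgeLine.fam_isExtPow F₂ 0)
      (ExtFilt.Lambda.isExtPow_zero _)
    obtain ⟨e₂⟩ := ExtFilt.Lambda.nonempty_iso_of_isExtPow (WedgeLine.fam_isExtPow G 0)
      (ExtFilt.Lambda.isExtPow_zero _)
    exact ⟨e₁ ≪≫ e₂.symm⟩
  have hF₂ : ∀ b a j, b + a + 1 ≤ n → 1 ≤ j →
      Subsingleton (Coh.HH D.subscheme (CohB1.tensorMod (CohB1.tensorPow C j) (F₂.L b)) a) := by
    intro b a j hab hj
    obtain ⟨eW⟩ := hW b
    let E := CohB1.tensorMod (CohB1.tensorPow I j) (W.L b)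
    have hE : FlatMod.IsFinLocFree E := TensorMod.LocFree.isFinLocFree_tensorMod
      (TensorMod.LocFree.of_rank (TensorMod.LocFree.of_isInvertible
        (TensorMod.Invertible.isInvertible_tensorPow hI j))) (W.free b)
    have h₀ : Subsingleton (Coh.HH X E a) :=
      haveI := hvan b a j hj (by omega) _ (WedgeLine.fam_isExtPow W b)
      (Curves.LES.isoK k (comm (CohB1.tensorPow I j) (W.L b)) a).toEquiv.subsingleton
    have h₁ : Subsingleton (Coh.HH X (CohB1.tensorMod E (_root_.ClSub.idealMod D)) (a + 1)) :=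
      haveI := hvan b (a + 1) (j + 1) (by omega) (by omega) _ (WedgeLine.fam_isExtPow W b)
      (Curves.LES.isoK k (show CohB1.tensorMod E (_root_.ClSub.idealMod D) ≅
          CohB1.tensorMod (W.L b) (CohB1.tensorPow I (j + 1)) from
        tensorIso (comm _ _) (Iso.refl _) ≪≫ assoc (W.L b) (CohB1.tensorPow I j) I) (a + 1)).toEquiv.subsingleton
    haveI := HypersurfaceHodge.subsingleton_pull k D hE a h₀ h₁
    exact (Curves.LES.isoK k (show CohB1.tensorMod (CohB1.tensorPow C j) (F₂.L b) ≅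
        (Scheme.Modules.pullback i).obj E from
      tensorIso (Ample.Pow.pullbackPow i I j).symm eW ≪≫
        (TensorMod.Pullback.pullbackTensorIso i _ _).symm) a).toEquiv.subsingleton
  -- vanishing on `D`
  have key : ∀ b a j, b + a + 1 ≤ n → 1 ≤ j →
      Subsingleton (Coh.HH D.subscheme (CohB1.tensorMod (CohB1.tensorPow C j) (G.L b)) a) := by
    intro b
    induction b with
    | zero =>
      intro a j hab hj
      obtain ⟨e⟩ := h0
      haveI := hF₂ 0 a j hab hj
      exact (Curves.LES.isoK k (tensorIso (Iso.refl _) e.symm) a).toEquiv.subsingleton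
    | succ b ih =>
      intro a j hab hj
      obtain ⟨T, hT, ⟨t₁⟩, ⟨t₂⟩, ⟨t₃⟩⟩ := WedgeLine.exists_shortExact F₂ G hseq hC1 hΩXY hΩY b
      have hT' := Snapper.Twist.twistSeq_shortExact (TensorMod.Invertible.isInvertible_tensorPow hC j) hT
      set T' := Snapper.Twist.twistSeq (CohB1.tensorPow C j) T
      haveI : Subsingleton (Coh.HH D.subscheme T'.X₂ a) :=
        haveI := hF₂ (b + 1) a j hab hj
        (Curves.LES.isoK k (show T'.X₂ ≅ CohB1.tensorMod (CohB1.tensorPow C j) (F₂.L (b + 1)) from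
          tensorIso (Iso.refl _) t₂) a).toEquiv.subsingleton
      haveI : Subsingleton (Coh.HH D.subscheme T'.X₁ (a + 1)) :=
        haveI := ih (a + 1) (j + 1) (by omega) (by omega)
        (Curves.LES.isoK k (show T'.X₁ ≅ CohB1.tensorMod (CohB1.tensorPow C (j + 1)) (G.L b) from
          tensorIso (Iso.refl _) (t₁ ≪≫ tensorIso eC (Iso.refl _)) ≪≫
            (assoc (CohB1.tensorPow C j) C _).symm) (a + 1)).toEquiv.subsingleton
      have h3 : Subsingleton (Coh.HH D.subscheme T'.X₃ a) := by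
        refine ⟨fun x y => ?_⟩
        obtain ⟨x', rfl⟩ := surjective_g k hT' a inferInstance x
        obtain ⟨y', rfl⟩ := surjective_g k hT' a inferInstance y
        rw [Subsingleton.elim x' y']
      exact (Curves.LES.isoK k (show CohB1.tensorMod (CohB1.tensorPow C j) (G.L (b + 1)) ≅ T'.X₃ from
        tensorIso (Iso.refl _) t₃.symm) a).toEquiv.subsingleton
  obtain ⟨eY⟩ := ExtFilt.Lambda.nonempty_iso_of_isExtPow hOmY (WedgeLine.fam_isExtPow G p)
  haveI := key p a j hpa hj
  exact (Curves.LES.isoK k (tensorIso (Iso.refl _) eY) a).toEquiv.subsingleton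

/-- Splitting the differentials of a formally smooth algebra over a field. -/
theorem finite_projective (R K B : Type u) [CommRing R] [Field K] [CommRing B] [Algebra R K] [Algebra R B]
    [Algebra K B] [IsScalarTower R K B] [Algebra.FormallySmooth K B] [Algebra.EssFiniteType K B]
    [Module.Finite K Ω[K⁄R]] : Module.Finite B Ω[B⁄R] ∧ Module.Projective B Ω[B⁄R] := by
  let f := KaehlerDifferential.mapBaseChange R K B
  let g := KaehlerDifferential.map R K B B
  have hex : Function.Exact f g := KaehlerDifferential.exact_mapBaseChange_map R K B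
  have hinj : Function.Injective f := by
    rw [← LinearMap.ker_eq_bot, LinearMap.ker_eq_bot']
    intro x hx
    obtain ⟨y, rfl⟩ := (Algebra.H1Cotangent.exact_δ_mapBaseChange R K B x).1 hx
    rw [Subsingleton.elim y 0, map_zero]
  obtain ⟨σ, hσ⟩ := Module.projective_lifting_property g LinearMap.id
    (KaehlerDifferential.map_surjective R K B)
  have hbij : Function.Bijective (f.coprod σ) := by
    refine ⟨fun x y hxy => ?_, fun m => ?_⟩
    · simp only [LinearMap.coprod_apply] at hxy
      have h2 : x.2 = y.2 := by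
        have := congrArg g hxy
        rw [map_add, map_add, hex.apply_apply_eq_zero, hex.apply_apply_eq_zero, zero_add, zero_add] at this
        rwa [show g (σ x.2) = x.2 from LinearMap.congr_fun hσ x.2,
          show g (σ y.2) = y.2 from LinearMap.congr_fun hσ y.2] at this
      exact Prod.ext (hinj (add_right_cancel (b := σ x.2) (by rw [hxy, h2]))) h2
    · obtain ⟨t, ht⟩ := (hex (m - σ (g m))).1 (by
        rw [map_sub, show g (σ (g m)) = g m from LinearMap.congr_fun hσ (g m), sub_self])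
      exact ⟨(t, g m), by rw [LinearMap.coprod_apply, ht, sub_add_cancel]⟩
  let e := LinearEquiv.ofBijective _ hbij
  exact ⟨Module.Finite.equiv e, Module.Projective.of_equiv e⟩

/-- Derivations relative to a smaller base. -/
def restrictDer {S T : Scheme.{u}} {f : X ⟶ S} {F : X.Modules} (D : Der f F) (b : S ⟶ T) : Der (f ≫ b) F :=
  { d := fun {U} => D.d (X := U)
    d_mul := fun {U} x y => D.d_mul x y
    d_map := fun {U V} g x => D.d_map g x
    d_app := fun {U} a => D.d_app (b.app U.unop a) }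

/-- The conormal sequence over a smaller base. -/
theorem exists_seq {S T Y : Scheme.{u}} (f : X ⟶ S) (b : S ⟶ T) (i : Y ⟶ X) [IsClosedImmersion i] [Smooth f]
    [Smooth (i ≫ f)] [QuasiSeparated f] [QuasiSeparated (i ≫ f)] [QuasiSeparated (f ≫ b)]
    [QuasiSeparated (i ≫ f ≫ b)] :
    ∃ (φ : Omega.conormal i ⟶ (Scheme.Modules.pullback i).obj (Omega.sheaf (f ≫ b)))
      (c : (Scheme.Modules.pullback i).obj (Omega.sheaf (f ≫ b)) ⟶ Omega.sheaf (i ≫ f ≫ b)) (w : φ ≫ c = 0),
      (ShortComplex.mk φ c w).ShortExact := by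
  have hX := Kaehler.DOmega.isUniversal_dOmega (f ≫ b)
  have hZ := Kaehler.DOmega.isUniversal_dOmega (i ≫ f ≫ b)
  obtain ⟨φ, hφ⟩ := Groth.Agent.H63.SectionOmega.exists_conormalDiff i (OmegaSh.dOmega (f ≫ b))
  obtain ⟨c, hc, -⟩ := Kaehler.Basic.existsUnique_diffCompat (h := i) (b := 𝟙 T)
    (hsq := Category.comp_id _) hX (OmegaSh.dOmega (i ≫ f ≫ b))
  obtain ⟨hepi, hex⟩ := Kaehler.Descend.epi_and_exact hX hZ hφ hc
  obtain ⟨φ', hφ'⟩ := Groth.Agent.H63.SectionOmega.exists_conormalDiff i (OmegaSh.dOmega f)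
  haveI := Conormal92.Affine.isQCoh_conormal i
  haveI : (Omega.sheaf f).IsQuasicoherent :=
    Kaehler.Finite.isQuasicoherent (Kaehler.DOmega.isUniversal_dOmega f)
  haveI : ((Scheme.Modules.pullback i).obj (Omega.sheaf f)).IsQuasicoherent :=
    QCoh.Pullback.isQCoh_pullback i _
  haveI : Mono φ' := QCohChart.Basic.mono_of_charts φ' fun z => by
    obtain ⟨Y₀, hY₀, hz, -⟩ := AlgebraicGeometry.exists_isAffineOpen_mem_and_subset (U := (⊤ : S.Opens))
      (x := f (i z)) trivial
    obtain ⟨V, hch, hzV, hV⟩ := Conormal92.Affine.exists_chart i z (W := f ⁻¹ᵁ Y₀) hz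
    refine ⟨i ⁻¹ᵁ V, hch.affine_preimage, hzV, ?_⟩
    exact Conormal92.SplitInj.injective_app (Kaehler.DOmega.isUniversal_dOmega f) hφ' hch hY₀ hV
      (Kaehler.FSmooth.formallySmooth_appLE
        (SmoothLift.Formal.isFormallySmoothHom_of_smooth (i ≫ f)) hY₀ hch.affine_preimage _)
  let α := Kaehler.Basic.univDesc hX (restrictDer (OmegaSh.dOmega f) b)
  have hfac : φ' = φ ≫ (Scheme.Modules.pullback i).map α := Kaehler.Descend.conormal_hom_ext fun V s => by
    rw [Kaehler.Descend.comp_app_conormalSect hφ, hφ' V s]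
    refine Eq.trans (congrArg _ (Kaehler.Basic.univDesc_app hX (restrictDer (OmegaSh.dOmega f) b) V _).symm) ?_
    exact congr($(congrArg (fun m => Scheme.Modules.Hom.app m V)
      ((Scheme.Modules.pullbackPushforwardAdjunction i).unit.naturality α)) _)
  haveI : Mono φ := by
    haveI : Mono (φ ≫ (Scheme.Modules.pullback i).map α) := hfac ▸ inferInstance
    exact mono_of_mono φ ((Scheme.Modules.pullback i).map α)
  haveI : Epi c := hepi
  exact ⟨φ, c, Kaehler.Descend.zero hφ hc, { exact := hex }⟩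

/-- Differentials over a smaller base of a smooth scheme over a field are finite locally free. -/
theorem isFinLocFree {T : Scheme.{u}} (f : X ⟶ Spec (CommRingCat.of k)) [Smooth f]
    (b : Spec (CommRingCat.of k) ⟶ T) (hT : IsAffineOpen (⊤ : T.Opens)) [QuasiSeparated (f ≫ b)]
    (hfin : letI := ((b.appTop ≫ (Scheme.ΓSpecIso (CommRingCat.of k)).hom).hom).toAlgebra
      Module.Finite k Ω[k⁄Γ(T, ⊤)]) :
    FlatMod.IsFinLocFree (Omega.sheaf (f ≫ b)) := by
  refine Kaehler.LocFree.isFinLocFree_of_universal (Kaehler.DOmega.isUniversal_dOmega (f ≫ b)) fun x => ?_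
  obtain ⟨U, hU, hx, -⟩ := exists_isAffineOpen_mem_and_subset (X := X) (x := x) (U := ⊤) trivial
  refine ⟨⊤, U, hT, hU, fun _ _ => trivial, hx, ?_⟩
  have hs := f.smooth_appLE (isAffineOpen_top (Spec (CommRingCat.of k))) hU (fun _ _ => trivial : U ≤ f ⁻¹ᵁ ⊤)
  let ψ : CommRingCat.of k ⟶ Γ(X, U) :=
    (Scheme.ΓSpecIso (CommRingCat.of k)).inv ≫ f.appLE ⊤ U (fun _ _ => trivial)
  letI : Algebra Γ(T, ⊤) k := ((b.appTop ≫ (Scheme.ΓSpecIso (CommRingCat.of k)).hom).hom).toAlgebra
  letI : Algebra Γ(T, ⊤) Γ(X, U) := ((f ≫ b).appLE ⊤ U (fun _ _ => trivial)).hom.toAlgebra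
  letI : Algebra k Γ(X, U) := ψ.hom.toAlgebra
  haveI : IsScalarTower Γ(T, ⊤) k Γ(X, U) := .of_algebraMap_eq' <| by
    show ((f ≫ b).appLE ⊤ U _).hom = ((b.appTop ≫ (Scheme.ΓSpecIso (CommRingCat.of k)).hom) ≫ ψ).hom
    simp [ψ, Scheme.Hom.appLE, Category.assoc]
    rfl
  have hψ : ψ.hom.Smooth := RingHom.Smooth.respectsIso.2 _
    (Scheme.ΓSpecIso (CommRingCat.of k)).symm.commRingCatIsoToRingEquiv hs
  haveI : Algebra.FormallySmooth k Γ(X, U) := hψ.formallySmooth
  haveI : Algebra.FiniteType k Γ(X, U) := RingHom.FiniteType.of_finitePresentation hψ.finitePresentation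
  exact finite_projective Γ(T, ⊤) k Γ(X, U)

end Groth.Agent.H95.AbsOmega
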