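import Groth.Agent.H95.CanonicalComp
import Groth.Agent.Lib.ExtFilt.Lambda
import Groth.Agent.S8654
import Groth.Agent.Lib.ClSub.Cartier

/-!
# Adjunction for Cartier divisors
-/

set_option autoImplicit false
set_option linter.style.haveILetI false
universe u

open CategoryTheory CategoryTheory.Limits AlgebraicGeometry
open Groth.Agent.Lib
open Groth.Agent.Lib.TensorMod.Basic (comm assoc tensorIso rightUnit)

namespace Groth.Agent.H95.Adjunction

variable {X Y Z : Scheme.{u}}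

/-- An effective Cartier divisor is a regular immersion of codimension one. -/
theorem regular_of_cartier (i : Y ⟶ X) [IsClosedImmersion i] (h : FGA.IsEffCartier i.ker) :
    RegImm.IsRegularImmersionOfCodim .regular 1 i := by
  refine ⟨inferInstance, fun z => ?_⟩
  obtain ⟨U, hz, a, ha, hker⟩ := h (i z)
  have hk : RingHom.ker (i.app U.1).hom = Ideal.span {a} := by
    rw [← hker, Scheme.Hom.ker_apply]
  haveI : Nontrivial Γ(Y, i ⁻¹ᵁ U.1) := (Y.presheaf.germ _ z hz).hom.domain_nontrivial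
  have hne : Ideal.span {a} ≠ (⊤ : Ideal Γ(X, U.1)) := hk ▸ RingHom.ker_ne_top _
  refine ⟨U, hz, inferInstance, [a], rfl, ⟨?_, ?_⟩, by rw [hk, Ideal.ofList_singleton]⟩
  · refine RingTheory.Sequence.IsWeaklyRegular.cons ?_ (RingTheory.Sequence.IsWeaklyRegular.nil _ _)
    exact fun x y hxy => (mul_cancel_left_mem_nonZeroDivisors ha).1 hxy
  · intro htop
    rw [Ideal.ofList_singleton, smul_eq_mul, Ideal.mul_top] at htop
    exact hne htop.symm

/-- A regular closed immersion of codimension one has the inverse of its conormal sheaf as canonical sheaf. -/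
theorem isCanonical_of_inverse (i : Y ⟶ X) [IsClosedImmersion i]
    (h : RegImm.IsRegularImmersionOfCodim .regular 1 i) {ω : Y.Modules}
    (e : CohB1.tensorMod ω (Omega.conormal i) ≅ Coh.structureModule Y) : Canon.IsCanonical i ω :=
  ⟨X, i, 𝟙 X, 1, 0, Category.comp_id i, h, inferInstance, inferInstance, inferInstance,
    Omega.conormal i, Coh.structureModule X, ExtFilt.Lambda.isExtPow_one _, ExtFilt.Lambda.isExtPow_zero _,
    ⟨e ≪≫ (PicLoc.pullbackStructureIso i).symm⟩⟩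

/-- A module locally free of rank one on a one-point scheme is trivial. -/
theorem nonempty_iso_structure [Subsingleton Y] {M : Y.Modules} (y : Y) (h : FlatMod.IsFinLocFreeOfRank 1 M) :
    Nonempty (M ≅ Coh.structureModule Y) := by
  obtain ⟨U, hy, ⟨e⟩⟩ := h y
  obtain ⟨U', hy', ⟨e'⟩⟩ := TensorMod.LocFree.of_isInvertible (SurfInt.H2Vanish.isInvertible_structure (X := Y)) y
  have hU : ∀ O : Y.Opens, y ∈ O → O = ⊤ := fun O hO =>
    TopologicalSpace.Opens.ext (Set.eq_univ_of_forall fun z => Subsingleton.elim y z ▸ hO)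
  obtain rfl := hU U hy
  obtain rfl := hU U' hy'
  haveI : IsOpenImmersion Y.topIso.inv := inferInstance
  let G : ∀ N : Y.Modules, (N.restrict (⊤ : Y.Opens).ι).restrict Y.topIso.inv ≅ N := fun N =>
    ((Scheme.Modules.restrictFunctorComp Y.topIso.inv (⊤ : Y.Opens).ι).app N).symm ≪≫
      (Scheme.Modules.restrictFunctorCongr (show Y.topIso.inv ≫ (⊤ : Y.Opens).ι = 𝟙 Y from Y.topIso.inv_hom_id)).app N ≪≫
      Scheme.Modules.restrictFunctorId.app N
  exact ⟨(G M).symm ≪≫ (Scheme.Modules.restrictFunctor Y.topIso.inv).mapIso (e ≪≫ e'.symm) ≪≫ G _⟩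

/-- The closed part of an immersion has conormal sheaf of the same rank. -/
theorem liftCoborder_spec (i : Y ⟶ Z) [IsImmersion i] [QuasiCompact i] {c : ℕ}
    (h : RegImm.IsRegularImmersionOfCodim .regular c i) :
    IsClosedImmersion i.liftCoborder ∧ RegImm.IsRegularImmersion .koszul i.liftCoborder ∧
      FlatMod.IsFinLocFreeOfRank c (Omega.conormal i.liftCoborder) := by
  have hsq : IsPullback (𝟙 Y) i.liftCoborder i i.coborderRange.ι := by
    refine ⟨⟨by rw [Category.id_comp, i.liftCoborder_ι]⟩, ⟨PullbackCone.IsLimit.mk _ (fun s => s.fst)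
      (fun s => Category.comp_id _) (fun s => ?_) (fun s m hm _ => ?_)⟩⟩
    · rw [← cancel_mono i.coborderRange.ι, Category.assoc, i.liftCoborder_ι]
      exact s.condition
    · rw [← hm, Category.comp_id]
  refine ⟨inferInstance, Synt92.KRBase.isRegularImmersion_baseChange i i.coborderRange.ι i.liftCoborder (𝟙 Y) hsq
    (CanonicalComp.koszul_of_regular i h), fun y => ?_⟩
  obtain ⟨ψ, hψ, -⟩ := Kaehler.Conormal.existsUnique_conormalMap (i := i.liftCoborder) (i' := i)
    (g := i.coborderRange.ι) (gZ := 𝟙 Y) hsq.w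
  haveI : IsIso ψ := (S9372.result i.liftCoborder i i.coborderRange.ι (𝟙 Y) hsq.flip ψ hψ).2 inferInstance
  obtain ⟨U, hU, ⟨δ⟩⟩ := CanonicalIndep.isFinLocFreeOfRank_conormal i h y
  exact ⟨U, hU, ⟨(Scheme.Modules.restrictFunctor U.ι).mapIso
    ((asIso ψ).symm ≪≫ (Scheme.Modules.pullbackId Y).app _) ≪≫ δ⟩⟩

/-- The conormal sheaf of a composite of closed regular immersions has the sum of the ranks. -/
theorem isFinLocFreeOfRank_comp (i : Y ⟶ X) [IsClosedImmersion i] (j : X ⟶ Z) [IsClosedImmersion j] {a b : ℕ}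
    (hi : RegImm.IsRegularImmersion .koszul i) (hj : RegImm.IsRegularImmersion .koszul j)
    (hij : RegImm.IsRegularImmersion .koszul (i ≫ j))
    (ha : FlatMod.IsFinLocFreeOfRank a (Omega.conormal i)) (hb : FlatMod.IsFinLocFreeOfRank b (Omega.conormal j)) :
    FlatMod.IsFinLocFreeOfRank (b + a) (Omega.conormal (i ≫ j)) := by
  obtain ⟨φ₁, hφ₁, -⟩ := Kaehler.Conormal.existsUnique_conormalMap (i := i ≫ j) (i' := j) (g := 𝟙 Z)
    (gZ := i) (Category.comp_id _).symm
  obtain ⟨φ₂, hφ₂, -⟩ := Kaehler.Conormal.existsUnique_conormalMap (i := i) (i' := i ≫ j) (g := j)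
    (gZ := 𝟙 Y) (Category.id_comp _)
  obtain ⟨w, hS⟩ := S8679.result j i hj hi φ₁ hφ₁ φ₂ hφ₂
  intro y
  obtain ⟨U₁, h₁, ⟨e₁⟩⟩ := hb (i y)
  obtain ⟨e₁'⟩ := TensorMod.LocFree.pullback_iso_of_restrict_iso i e₁
  obtain ⟨U₂, n, h₂, ⟨e₂⟩⟩ := Conormal92.Koszul.isFinLocFree hij y
  obtain ⟨U₃, h₃, ⟨e₃⟩⟩ := ha y
  obtain rfl := Conormal92.SmoothRank.rank_eq_add _ hS e₁' e₂ e₃ (x := y) h₁ h₂ h₃
  exact ⟨U₂, h₂, ⟨e₂⟩⟩

/-- Adjunction: the canonical sheaves of two factorisations `i ≫ f = h ≫ s`. -/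
theorem nonempty_iso {W : Scheme.{u}} (i : Y ⟶ X) [IsClosedImmersion i] (f : X ⟶ W) {V : Scheme.{u}}
    (h : Y ⟶ V) (s : V ⟶ W) (w : i ≫ f = h ≫ s) (hi : RegImm.IsRegularImmersionOfCodim .regular 1 i)
    (ω₁ : Y.Modules) (ω : X.Modules) (ωh : Y.Modules) (ωs : V.Modules)
    (h₁ : Canon.IsCanonical i ω₁) (h₂ : Canon.IsCanonical f ω)
    (h₃ : Canon.IsCanonical h ωh) (h₄ : Canon.IsCanonical s ωs) :
    Nonempty (CohB1.tensorMod ωh ((Scheme.Modules.pullback h).obj ωs) ≅
      CohB1.tensorMod ω₁ ((Scheme.Modules.pullback i).obj ω)) := by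
  obtain ⟨P, j, g, c, n, hjg, hj, hg, hqc, hqs, DC, DΩ, hDC, hDΩ, ⟨a⟩⟩ := id h₂
  haveI : IsImmersion j := hj.1
  obtain ⟨hjc, hjk, hjr⟩ := liftCoborder_spec j hj
  haveI := hjc
  have hik : RegImm.IsRegularImmersion .koszul i := CanonicalComp.koszul_of_regular i hi
  let k := i ≫ j.liftCoborder
  haveI : IsClosedImmersion k := inferInstanceAs (IsClosedImmersion (i ≫ j.liftCoborder))
  have hkk : RegImm.IsRegularImmersion .koszul k :=
    Groth.Agent.S8654.result j.liftCoborder i hjk hik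
  have hk := isFinLocFreeOfRank_comp i j.liftCoborder hik hjk hkk
    (CanonicalIndep.isFinLocFreeOfRank_conormal i hi) hjr
  let gk := j.coborderRange.ι ≫ g
  haveI hgk : SmoothOfRelativeDimension n gk := by
    haveI := hg
    have h : SmoothOfRelativeDimension (0 + n) gk := inferInstance
    rwa [zero_add] at h
  haveI : QuasiSeparated gk := inferInstance
  haveI : Smooth gk := SmoothOfRelativeDimension.smooth n gk
  haveI : (Omega.sheaf gk).IsQuasicoherent :=
    Kaehler.Finite.isQuasicoherent (Kaehler.DOmega.isUniversal_dOmega gk)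
  haveI := Conormal92.Affine.isQCoh_conormal k
  obtain ⟨D, hD⟩ := FundLocal.ExtPowExists.exists_isExtPow (E := Omega.conormal k) (c + 1)
  obtain ⟨E, hE⟩ := FundLocal.ExtPowExists.exists_isExtPow (E := Omega.sheaf gk) n
  obtain ⟨A⟩ := Cyc.CH.nonempty_detAtlas_of_isExtPow hk hD
  obtain ⟨D', hD', ⟨eD⟩⟩ := TensorMod.Invertible.exists_inverse A.isInvertible
  let ω₃ := CohB1.tensorMod ((Scheme.Modules.pullback k).obj E) D'
  have hvia : Canon.IsCanonicalVia k gk (c + 1) n ω₃ :=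
    ⟨D, E, hD, hE, ⟨assoc _ _ _ ≪≫ tensorIso (Iso.refl _) (comm _ _ ≪≫ eD) ≪≫ rightUnit _⟩⟩
  have hw : k ≫ gk = i ≫ f := by
    rw [Category.assoc, j.liftCoborder_ι_assoc, hjg]
  obtain ⟨eA⟩ := CanonicalComp.nonempty_iso_of_rank h s ωh ωs ω₃ h₃ h₄ k gk (hw.trans w) hk hgk hvia
  obtain ⟨eB⟩ := CanonicalComp.nonempty_iso_of_rank i f ω₁ ω ω₃ h₁ h₂ k gk hw hk hgk hvia
  exact ⟨eA.symm ≪≫ eB⟩

end Groth.Agent.H95.Adjunction
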