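import Mathlib.LinearAlgebra.Projectivization.Basic
import Mathlib.LinearAlgebra.Dual.Lemmas
import Mathlib.LinearAlgebra.Basis.VectorSpace
import Mathlib.RingTheory.MvPolynomial.Homogeneous
import Mathlib.Algebra.MvPolynomial.Eval
import Mathlib.Tactic.LinearCombination

set_option autoImplicit false
universe u v

namespace Groth.Agent.H95.CBPoints

open MvPolynomial

variable {k : Type u} [Field k]

/-- a functional vanishing on `W` and nonzero at finitely many given vectors outside `W` -/
lemma exists_avoid [Infinite k] {V : Type v} [AddCommGroup V] [Module k V] (W : Submodule k V)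
    {ι : Type*} (S : Finset ι) (f : ι → V) (hS : ∀ i ∈ S, f i ∉ W) :
    ∃ φ : V →ₗ[k] k, W ≤ LinearMap.ker φ ∧ ∀ i ∈ S, φ (f i) ≠ 0 := by
  classical
  induction S using Finset.induction_on with
  | empty => exact ⟨0, by simp, by simp⟩
  | @insert a S ha ih =>
    obtain ⟨φ, hφW, hφ⟩ := ih fun i hi => hS i (Finset.mem_insert_of_mem hi)
    obtain ⟨ψ, hψa, hψW⟩ := Submodule.exists_le_ker_of_notMem (hS a (Finset.mem_insert_self a S))
    obtain ⟨c, hc⟩ := Infinite.exists_notMem_finset
      ((insert a S).image fun i => - φ (f i) / ψ (f i))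
    refine ⟨φ + c • ψ, fun x hx => ?_, fun i hi h0 => ?_⟩
    · have h1 : φ x = 0 := hφW hx
      have h2 : ψ x = 0 := hψW hx
      simp [h1, h2]
    · simp only [LinearMap.add_apply, LinearMap.smul_apply, smul_eq_mul] at h0
      by_cases hψ : ψ (f i) = 0
      · rw [hψ, mul_zero, add_zero] at h0
        rcases Finset.mem_insert.mp hi with rfl | hi'
        · exact hψa hψ
        · exact hφ i hi' h0
      · apply hc
        rw [Finset.mem_image]
        refine ⟨i, hi, ?_⟩
        rw [div_eq_iff hψ]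
        linear_combination -h0

abbrev V4 (k : Type u) : Type u := Fin 4 → k

/-- the linear form as a polynomial -/
noncomputable def lin (φ : V4 k →ₗ[k] k) : MvPolynomial (Fin 4) k :=
  ∑ i, C (φ (Pi.single i 1)) * X i

lemma lin_hom (φ : V4 k →ₗ[k] k) : (lin φ).IsHomogeneous 1 :=
  IsHomogeneous.sum _ _ _ fun i _ => isHomogeneous_C_mul_X (φ (Pi.single i 1)) i

lemma lin_eval (φ : V4 k →ₗ[k] k) (v : V4 k) : eval v (lin φ) = φ v := by
  conv_rhs => rw [← Finset.univ_sum_single v]
  rw [map_sum, lin, map_sum]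
  refine Finset.sum_congr rfl fun i _ => ?_
  rw [map_mul, eval_C, eval_X]
  have : (Pi.single i (v i) : V4 k) = v i • Pi.single i 1 := by
    rw [← Pi.single_smul, smul_eq_mul, mul_one]
  rw [this, map_smul, smul_eq_mul, mul_comm]

/-- Cayley--Bacharach in degree `n` -/
def CB (Z : Finset (Projectivization k (V4 k))) (n : ℕ) : Prop :=
  ∀ z ∈ Z, ∀ p : MvPolynomial (Fin 4) k, p.IsHomogeneous n →
      (∀ z' ∈ Z, z' ≠ z → eval z'.rep p = 0) → eval z.rep p = 0

variable {Z : Finset (Projectivization k (V4 k))} {n : ℕ}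

lemma residual [Infinite k] (h : CB Z (n + 1)) (W : Submodule k (V4 k))
    [DecidablePred (fun z : Projectivization k (V4 k) => z.rep ∉ W)] :
    CB (Z.filter fun z => z.rep ∉ W) n := by
  intro z hz p hp hv
  rw [Finset.mem_filter] at hz
  obtain ⟨φ, hφW, hφ⟩ := exists_avoid W (Z.filter fun z => z.rep ∉ W) (fun z => z.rep)
    fun i hi => (Finset.mem_filter.mp hi).2
  have := h z hz.1 (p * lin φ) (hp.mul (lin_hom φ)) fun z' hz' hne => by
    rw [map_mul, lin_eval]
    by_cases hw : z'.rep ∈ W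
    · rw [LinearMap.mem_ker.mp (hφW hw), mul_zero]
    · rw [hv z' (Finset.mem_filter.mpr ⟨hz', hw⟩) hne, zero_mul]
  rw [map_mul, lin_eval] at this
  exact (mul_eq_zero.mp this).resolve_right (hφ z (Finset.mem_filter.mpr hz))

lemma rep_notMem_span {z z' : Projectivization k (V4 k)} (h : z ≠ z') :
    z.rep ∉ Submodule.span k {z'.rep} := by
  intro hm
  apply h
  apply Projectivization.submodule_injective
  rw [Projectivization.submodule_eq, Projectivization.submodule_eq]
  refine Submodule.eq_of_le_of_finrank_le ((Submodule.span_singleton_le_iff_mem _ _).mpr hm) ?_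
  rw [finrank_span_singleton z.rep_nonzero, finrank_span_singleton z'.rep_nonzero]

lemma card_ge (h : CB Z n) (hne : Z.Nonempty) : n + 2 ≤ Z.card := by
  classical
  obtain ⟨z, hz⟩ := hne
  by_contra hlt
  have hcard : (Z.erase z).card ≤ n := by
    rw [Finset.card_erase_of_mem hz]; omega
  have key : ∀ z' : Projectivization k (V4 k), ∃ φ : V4 k →ₗ[k] k,
      φ z.rep ≠ 0 ∧ (z' ≠ z → φ z'.rep = 0) := fun z' => by
    by_cases he : z' = z
    · obtain ⟨φ, h1, -⟩ := Submodule.exists_le_ker_of_notMem (p := (⊥ : Submodule k (V4 k)))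
        (v := z.rep) (by simpa using z.rep_nonzero)
      exact ⟨φ, h1, fun h' => absurd he h'⟩
    · obtain ⟨φ, h1, h2⟩ := Submodule.exists_le_ker_of_notMem (rep_notMem_span (Ne.symm he))
      exact ⟨φ, h1, fun _ => h2 (Submodule.mem_span_singleton_self _)⟩
  choose φ hφ hφ' using key
  have hh : ((∏ z' ∈ Z.erase z, lin (φ z')) * lin (φ z) ^ (n - (Z.erase z).card)).IsHomogeneous n := by
    have := (IsHomogeneous.prod (Z.erase z) (fun z' => lin (φ z')) (fun _ => 1)
      fun i _ => lin_hom _).mul ((lin_hom (φ z)).pow (n - (Z.erase z).card))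
    convert this using 1
    simp
    omega
  have := h z hz _ hh fun z' hz' hne => by
    rw [map_mul, map_prod]
    have hm : z' ∈ Z.erase z := Finset.mem_erase.mpr ⟨hne, hz'⟩
    rw [Finset.prod_eq_zero hm (by rw [lin_eval]; exact hφ' z' hne), zero_mul]
  rw [map_mul, map_prod, map_pow, mul_eq_zero, pow_eq_zero_iff', lin_eval] at this
  rcases this with h0 | ⟨h0, -⟩
  · obtain ⟨i, -, hi⟩ := Finset.prod_eq_zero_iff.mp h0
    exact hφ i (by rwa [lin_eval] at hi)
  · exact hφ z h0

open scoped Classical in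
noncomputable def inW (Z : Finset (Projectivization k (V4 k))) (W : Submodule k (V4 k)) :
    Finset (Projectivization k (V4 k)) := Z.filter fun z => z.rep ∈ W

open scoped Classical in
noncomputable def outW (Z : Finset (Projectivization k (V4 k))) (W : Submodule k (V4 k)) :
    Finset (Projectivization k (V4 k)) := Z.filter fun z => z.rep ∉ W

lemma mem_outW {W : Submodule k (V4 k)} {z : Projectivization k (V4 k)} :
    z ∈ outW Z W ↔ z ∈ Z ∧ z.rep ∉ W := by simp [outW]

lemma mem_inW {W : Submodule k (V4 k)} {z : Projectivization k (V4 k)} :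
    z ∈ inW Z W ↔ z ∈ Z ∧ z.rep ∈ W := by simp [inW]

lemma card_in_out (Z : Finset (Projectivization k (V4 k))) (W : Submodule k (V4 k)) :
    (inW Z W).card + (outW Z W).card = Z.card := by
  classical
  exact Finset.card_filter_add_card_filter_not (s := Z) fun z => z.rep ∈ W

lemma cb_out [Infinite k] (h : CB Z (n + 1)) (W : Submodule k (V4 k)) : CB (outW Z W) n := by
  classical
  unfold outW
  exact residual h W

lemma finrank_span_pair {a b : Projectivization k (V4 k)} (h : a ≠ b) :
    Module.finrank k ↥(Submodule.span k ({a.rep, b.rep} : Set (V4 k))) = 2 := by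
  have hli : LinearIndependent k ![a.rep, b.rep] := by
    rw [LinearIndependent.pair_iff' a.rep_nonzero]
    intro c hc
    exact rep_notMem_span h.symm (Submodule.mem_span_singleton.mpr ⟨c, hc⟩)
  have := finrank_span_eq_card hli
  rwa [Matrix.range_cons, Matrix.range_cons, Matrix.range_empty, Set.union_empty,
    Set.singleton_union, Fintype.card_fin] at this

lemma exists_sup_singleton {W : Submodule k (V4 k)} {v : V4 k} (hv : v ∉ W) :
    Module.finrank k ↥(W ⊔ Submodule.span k {v}) = Module.finrank k ↥W + 1 := by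
  have h0 : v ≠ 0 := fun h => hv (h ▸ W.zero_mem)
  have := Submodule.finrank_sup_add_finrank_inf_eq W (Submodule.span k {v})
  rw [(Submodule.disjoint_span_singleton' h0).mpr hv |>.eq_bot, finrank_bot,
    finrank_span_singleton h0] at this
  omega

theorem collinear [Infinite k] : ∀ (n : ℕ) (Z : Finset (Projectivization k (V4 k))), Z.Nonempty →
    CB Z n → Z.card ≤ 2 * n + 1 →
    ∃ W : Submodule k (V4 k), Module.finrank k ↥W = 2 ∧ ∀ z ∈ Z, z.rep ∈ W := by
  intro n
  induction n with
  | zero => intro Z hne h hc; have := card_ge h hne; omega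
  | succ n ih =>
    intro Z hne h hc
    have h3 := card_ge h hne
    obtain ⟨a, ha, b, hb, hab⟩ := Finset.one_lt_card.mp (show 1 < Z.card by omega)
    let W := Submodule.span k ({a.rep, b.rep} : Set (V4 k))
    by_cases ho : (outW Z W).Nonempty
    swap
    · refine ⟨W, finrank_span_pair hab, fun z hz => ?_⟩
      by_contra hzW
      exact ho ⟨z, mem_outW.mpr ⟨hz, hzW⟩⟩
    have hsum := card_in_out Z W
    have hin : 2 ≤ (inW Z W).card := Finset.one_lt_card.mpr
      ⟨a, mem_inW.mpr ⟨ha, Submodule.subset_span (by simp)⟩,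
        b, mem_inW.mpr ⟨hb, Submodule.subset_span (by simp)⟩, hab⟩
    obtain ⟨W', hW', hW'z⟩ := ih (outW Z W) ho (cb_out h W) (by omega)
    have hge := card_ge (cb_out h W) ho
    have hin' : (outW Z W).card ≤ (inW Z W').card :=
      Finset.card_le_card fun z hz => mem_inW.mpr ⟨(mem_outW.mp hz).1, hW'z z hz⟩
    refine ⟨W', hW', fun z hz => ?_⟩
    by_contra hzW
    have h4 := card_ge (cb_out h W') ⟨z, mem_outW.mpr ⟨hz, hzW⟩⟩
    have := card_in_out Z W'
    omega

lemma submodule_le_iff {z : Projectivization k (V4 k)} {W : Submodule k (V4 k)} :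
    z.submodule ≤ W ↔ z.rep ∈ W := by
  rw [Projectivization.submodule_eq, Submodule.span_singleton_le_iff_mem]

lemma exists_finrank_three (W : Submodule k (V4 k)) (hW : Module.finrank k ↥W ≤ 3) :
    ∃ W' : Submodule k (V4 k), W ≤ W' ∧ Module.finrank k ↥W' = 3 := by
  obtain ⟨d, hd⟩ := Nat.exists_eq_add_of_le hW
  induction d generalizing W with
  | zero => exact ⟨W, le_rfl, by omega⟩
  | succ d ih =>
    have hne : W ≠ ⊤ := by
      intro h
      subst h
      rw [finrank_top, Module.finrank_fin_fun] at hW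
      omega
    obtain ⟨v, -, hv⟩ := SetLike.exists_of_lt (lt_top_iff_ne_top.mpr hne)
    have h1 := exists_sup_singleton hv
    obtain ⟨W', h2, h3⟩ := ih (W ⊔ Submodule.span k {v}) (by omega) (by omega)
    exact ⟨W', le_sup_left.trans h2, h3⟩

def Coplanar (Z : Finset (Projectivization k (V4 k))) : Prop :=
  ∃ W : Submodule k (V4 k), Module.finrank k ↥W = 3 ∧ ∀ z ∈ Z, z.rep ∈ W

def TwoLines (Z : Finset (Projectivization k (V4 k))) (n : ℕ) : Prop :=
  ∃ W₁ W₂ : Submodule k (V4 k), Module.finrank k ↥W₁ = 2 ∧ Module.finrank k ↥W₂ = 2 ∧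
    W₁ ⊓ W₂ = ⊥ ∧ (∀ z ∈ Z, z.rep ∈ W₁ ∨ z.rep ∈ W₂) ∧
    n + 1 ≤ (inW Z W₁).card ∧ n + 1 ≤ (inW Z W₂).card

lemma outW_nonempty (hnc : ¬ Coplanar Z) (W : Submodule k (V4 k)) (hW : Module.finrank k ↥W ≤ 3) :
    (outW Z W).Nonempty := by
  by_contra h
  obtain ⟨W', hle, h3⟩ := exists_finrank_three W hW
  exact hnc ⟨W', h3, fun z hz => hle (by_contra fun hz' => h ⟨z, mem_outW.mpr ⟨hz, hz'⟩⟩)⟩

/-- a line with at least `n+1` points of each skew line, in fact `n + 2` -/
lemma line_card_ge (h : CB Z (n + 1)) {W₁ W₂ : Submodule k (V4 k)} (hdis : W₁ ⊓ W₂ = ⊥)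
    (hu : ∀ z ∈ Z, z.rep ∈ W₁ ∨ z.rep ∈ W₂) (hne : (inW Z W₁).Nonempty) :
    n + 3 ≤ (inW Z W₁).card := by
  classical
  obtain ⟨z, hzI⟩ := hne
  obtain ⟨hz, hz1⟩ := mem_inW.mp hzI
  by_contra hlt
  have hcard : ((inW Z W₁).erase z).card ≤ n + 1 := by
    rw [Finset.card_erase_of_mem hzI]; omega
  have key : ∀ z' : Projectivization k (V4 k), ∃ φ : V4 k →ₗ[k] k,
      φ z.rep ≠ 0 ∧ (∀ v ∈ W₂, φ v = 0) ∧ (z'.rep ∈ W₁ → z' ≠ z → φ z'.rep = 0) := fun z' => by
    by_cases he : z'.rep ∈ W₁ ∧ z' ≠ z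
    · have hnm : z.rep ∉ W₂ ⊔ Submodule.span k {z'.rep} := by
        intro hm
        obtain ⟨w, hw, x, hx, hwx⟩ := Submodule.mem_sup.mp hm
        have hx1 : x ∈ W₁ := (Submodule.span_singleton_le_iff_mem _ _).mpr he.1 hx
        have hw1 : w ∈ W₁ := by
          have hw' : w = z.rep - x := eq_sub_of_add_eq hwx
          rw [hw']
          exact W₁.sub_mem hz1 hx1
        have hw0 : w ∈ W₁ ⊓ W₂ := ⟨hw1, hw⟩
        rw [hdis, Submodule.mem_bot] at hw0
        rw [hw0, zero_add] at hwx
        exact rep_notMem_span he.2.symm (hwx ▸ hx)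
      obtain ⟨φ, h1, h2⟩ := Submodule.exists_le_ker_of_notMem hnm
      exact ⟨φ, h1, fun v hv => h2 (Submodule.mem_sup_left hv),
        fun _ _ => h2 (Submodule.mem_sup_right (Submodule.mem_span_singleton_self _))⟩
    · have hnm : z.rep ∉ W₂ := fun hm => by
        have h0 : z.rep ∈ W₁ ⊓ W₂ := ⟨hz1, hm⟩
        rw [hdis, Submodule.mem_bot] at h0
        exact z.rep_nonzero h0
      obtain ⟨φ, h1, h2⟩ := Submodule.exists_le_ker_of_notMem hnm
      exact ⟨φ, h1, fun v hv => h2 hv, fun h3 h4 => absurd ⟨h3, h4⟩ he⟩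
  choose φ hφ hφ2 hφ' using key
  have hh : ((∏ z' ∈ (inW Z W₁).erase z, lin (φ z')) *
      lin (φ z) ^ (n + 1 - ((inW Z W₁).erase z).card)).IsHomogeneous (n + 1) := by
    have := (IsHomogeneous.prod ((inW Z W₁).erase z) (fun z' => lin (φ z')) (fun _ => 1)
      fun i _ => lin_hom _).mul ((lin_hom (φ z)).pow (n + 1 - ((inW Z W₁).erase z).card))
    convert this using 1
    simp
    omega
  have := h z hz _ hh fun z' hz' hne => by
    rw [map_mul, map_prod, map_pow, mul_eq_zero]
    by_cases h1 : z'.rep ∈ W₁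
    · left
      exact Finset.prod_eq_zero (Finset.mem_erase.mpr ⟨hne, mem_inW.mpr ⟨hz', h1⟩⟩)
        (by rw [lin_eval]; exact hφ' z' h1 hne)
    · have h2 : z'.rep ∈ W₂ := (hu z' hz').resolve_left h1
      by_cases hex : ((inW Z W₁).erase z).card = n + 1
      · left
        obtain ⟨i, hi⟩ : ((inW Z W₁).erase z).Nonempty := Finset.card_pos.mp (by omega)
        exact Finset.prod_eq_zero hi (by rw [lin_eval]; exact hφ2 i _ h2)
      · right
        rw [lin_eval, hφ2 z _ h2, zero_pow (by omega)]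
  rw [map_mul, map_prod, map_pow, mul_eq_zero, pow_eq_zero_iff', lin_eval] at this
  rcases this with h0 | ⟨h0, -⟩
  · obtain ⟨i, -, hi⟩ := Finset.prod_eq_zero_iff.mp h0
    exact hφ i (by rwa [lin_eval] at hi)
  · exact hφ z h0

theorem main [Infinite k] : ∀ (n : ℕ) (Z : Finset (Projectivization k (V4 k))),
    CB Z n → Z.card ≤ 3 * n + 1 → Coplanar Z ∨ TwoLines Z n := by
  intro n
  induction n with
  | zero =>
    intro Z h hc
    refine Or.inl (by_contra fun hnc => ?_)
    have := card_ge h ((outW_nonempty hnc ⊥ (by simp)).mono fun z hz => (mem_outW.mp hz).1)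
    omega
  | succ m ih =>
    intro Z h hc
    by_cases hnc : Coplanar Z
    · exact Or.inl hnc
    right
    have hle : ∀ H : Submodule k (V4 k), Module.finrank k ↥H ≤ 3 →
        m + 2 ≤ (outW Z H).card ∧ (inW Z H).card + (outW Z H).card = Z.card := fun H hH =>
      ⟨card_ge (cb_out h H) (outW_nonempty hnc H hH), card_in_out Z H⟩
    have hZne : Z.Nonempty := (outW_nonempty hnc ⊥ (by simp)).mono fun z hz => (mem_outW.mp hz).1
    have hZ3 := card_ge h hZne
    obtain ⟨a, ha, b, hb, hab⟩ := Finset.one_lt_card.mp (show 1 < Z.card by omega)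
    let l := Submodule.span k ({a.rep, b.rep} : Set (V4 k))
    have hl : Module.finrank k ↥l = 2 := finrank_span_pair hab
    obtain ⟨c, hc'⟩ := outW_nonempty hnc l (by omega)
    obtain ⟨hcZ, hcl⟩ := mem_outW.mp hc'
    let H := l ⊔ Submodule.span k {c.rep}
    have hH : Module.finrank k ↥H = 3 := by
      change Module.finrank k ↥(l ⊔ Submodule.span k {c.rep}) = 3
      rw [exists_sup_singleton hcl, hl]
    have hH3 : 3 ≤ (inW Z H).card := by
      classical
      have h1 : ({a, b, c} : Finset (Projectivization k (V4 k))) ⊆ inW Z H := by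
        intro z hz
        simp only [Finset.mem_insert, Finset.mem_singleton] at hz
        rcases hz with rfl | rfl | rfl
        · exact mem_inW.mpr ⟨ha, Submodule.mem_sup_left (Submodule.subset_span (by simp))⟩
        · exact mem_inW.mpr ⟨hb, Submodule.mem_sup_left (Submodule.subset_span (by simp))⟩
        · exact mem_inW.mpr ⟨hcZ, Submodule.mem_sup_right (Submodule.mem_span_singleton_self _)⟩
      have hca : c ≠ a := fun e => hcl (e ▸ Submodule.subset_span (by simp))
      have hcb : c ≠ b := fun e => hcl (e ▸ Submodule.subset_span (by simp))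
      have h3 : ({a, b, c} : Finset (Projectivization k (V4 k))).card = 3 := by
        simp [Finset.card_insert_of_notMem, hab, hca.symm, hcb.symm]
      exact h3 ▸ Finset.card_le_card h1
    obtain ⟨hR, hRs⟩ := hle H (by omega)
    -- the case of degree one is impossible
    obtain ⟨j, rfl⟩ : ∃ j, m = j + 1 := ⟨m - 1, by omega⟩
    -- a line with many points
    have hL : ∃ L : Submodule k (V4 k), Module.finrank k ↥L = 2 ∧ j + 3 ≤ (inW Z L).card := by
      rcases ih (outW Z H) (cb_out h H) (by omega) with ⟨H', hH', hsub⟩ | ⟨L, L', hL, -, hd, hu, hcL, -⟩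
      · have hcop : (outW Z H).card ≤ (inW Z H').card :=
          Finset.card_le_card fun z hz => mem_inW.mpr ⟨(mem_outW.mp hz).1, hsub z hz⟩
        obtain ⟨hR', hRs'⟩ := hle H' (by omega)
        by_cases hsmall : (outW Z H).card ≤ 2 * (j + 1) + 1
        · obtain ⟨L, hL, hLz⟩ := collinear (j + 1) (outW Z H) (Finset.card_pos.mp (by omega))
            (cb_out h H) hsmall
          exact ⟨L, hL, hR.trans (Finset.card_le_card fun z hz =>
            mem_inW.mpr ⟨(mem_outW.mp hz).1, hLz z hz⟩)⟩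
        · obtain ⟨L, hL, hLz⟩ := collinear (j + 1) (outW Z H') (Finset.card_pos.mp (by omega))
            (cb_out h H') (by omega)
          exact ⟨L, hL, hR'.trans (Finset.card_le_card fun z hz =>
            mem_inW.mpr ⟨(mem_outW.mp hz).1, hLz z hz⟩)⟩
      · refine ⟨L, hL, le_trans ?_ (Finset.card_le_card (s := inW (outW Z H) L) fun z hz =>
          mem_inW.mpr ⟨(mem_outW.mp (mem_inW.mp hz).1).1, (mem_inW.mp hz).2⟩)⟩
        exact line_card_ge (cb_out h H) hd hu (Finset.card_pos.mp (by omega))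
    obtain ⟨L, hL, hcL⟩ := hL
    obtain ⟨p, hp⟩ := outW_nonempty hnc L (by omega)
    obtain ⟨hpZ, hpL⟩ := mem_outW.mp hp
    let H₂ := L ⊔ Submodule.span k {p.rep}
    have hH₂ : Module.finrank k ↥H₂ = 3 := by
      change Module.finrank k ↥(L ⊔ Submodule.span k {p.rep}) = 3
      rw [exists_sup_singleton hpL, hL]
    have hinH₂ : j + 4 ≤ (inW Z H₂).card := by
      classical
      have h1 : insert p (inW Z L) ⊆ inW Z H₂ := by
        intro z hz
        rcases Finset.mem_insert.mp hz with rfl | hz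
        · exact mem_inW.mpr ⟨hpZ, Submodule.mem_sup_right (Submodule.mem_span_singleton_self _)⟩
        · exact mem_inW.mpr ⟨(mem_inW.mp hz).1, Submodule.mem_sup_left (mem_inW.mp hz).2⟩
      have h2 := Finset.card_le_card h1
      rw [Finset.card_insert_of_notMem fun hz => hpL (mem_inW.mp hz).2] at h2
      omega
    obtain ⟨hR₂, hRs₂⟩ := hle H₂ (by omega)
    obtain ⟨L₂, hL₂, hL₂z⟩ := collinear (j + 1) (outW Z H₂) (Finset.card_pos.mp (by omega))
      (cb_out h H₂) (by omega)
    have hsub₂ : outW Z H₂ ⊆ inW Z L₂ := fun z hz =>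
      mem_inW.mpr ⟨(mem_outW.mp hz).1, hL₂z z hz⟩
    have hcL₂ : j + 3 ≤ (inW Z L₂).card := hR₂.trans (Finset.card_le_card hsub₂)
    have hskew : L ⊓ L₂ = ⊥ := by
      by_contra hne
      have h1 := Submodule.finrank_sup_add_finrank_inf_eq L L₂
      have h2 : 1 ≤ Module.finrank k ↥(L ⊓ L₂) := Submodule.one_le_finrank_iff.mpr hne
      obtain ⟨h3, h4⟩ := hle (L ⊔ L₂) (by omega)
      classical
      have h5 : inW Z L ∪ outW Z H₂ ⊆ inW Z (L ⊔ L₂) := by
        intro z hz
        rcases Finset.mem_union.mp hz with hz | hz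
        · exact mem_inW.mpr ⟨(mem_inW.mp hz).1, Submodule.mem_sup_left (mem_inW.mp hz).2⟩
        · exact mem_inW.mpr ⟨(mem_outW.mp hz).1, Submodule.mem_sup_right (hL₂z z hz)⟩
      have h6 := Finset.card_le_card h5
      have h7 : Disjoint (inW Z L) (outW Z H₂) := Finset.disjoint_left.mpr fun z hz1 hz2 =>
        (mem_outW.mp hz2).2 (Submodule.mem_sup_left (mem_inW.mp hz1).2)
      rw [Finset.card_union_of_disjoint h7] at h6
      omega
    refine ⟨L, L₂, hL, hL₂, hskew, fun z hz => ?_, by omega, by omega⟩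
    by_contra hzz
    simp only [not_or] at hzz
    have h1 := card_ge (cb_out (cb_out h L) L₂)
      ⟨z, mem_outW.mpr ⟨mem_outW.mpr ⟨hz, hzz.1⟩, hzz.2⟩⟩
    have h2 := card_in_out Z L
    have h3 := card_in_out (outW Z L) L₂
    have h4 : inW Z L₂ ⊆ inW (outW Z L) L₂ := fun w hw => by
      obtain ⟨hwZ, hw2⟩ := mem_inW.mp hw
      refine mem_inW.mpr ⟨mem_outW.mpr ⟨hwZ, fun hwL => ?_⟩, hw2⟩
      have h0 : w.rep ∈ L ⊓ L₂ := ⟨hwL, hw2⟩
      rw [hskew, Submodule.mem_bot] at h0
      exact w.rep_nonzero h0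
    have h5 := Finset.card_le_card h4
    omega

end Groth.Agent.H95.CBPoints
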