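import Groth.Agent.H95.CanonicalIndep
import Groth.Agent.H26.H1BaseChange
import Groth.Agent.H26.RegKinds

/-!
# Base change of the canonical sheaf
-/

set_option autoImplicit false
set_option linter.style.haveILetI false
universe u

open CategoryTheory CategoryTheory.Limits AlgebraicGeometry Opposite OmegaSh
open Groth.Agent.Lib

namespace Groth.Agent.H95.CanonicalBC

/-- The coefficients of a relation modulo the square of the ideal of an `H₁`-regular sequence lie in
the ideal. -/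
theorem coeff_mem {R : Type u} [CommRing R] {c : ℕ} {f : Fin c → R} (hf : CAlgX.IsH1Regular f)
    (a : Fin c → R) (h : ∑ l, a l * f l ∈ Ideal.span (Set.range f) ^ 2) (l : Fin c) :
    a l ∈ Ideal.span (Set.range f) := by
  classical
  set J := Ideal.span (Set.range f) with hJ
  have hf' : ∀ l, f l ∈ J := fun l => Ideal.subset_span ⟨l, rfl⟩
  rw [pow_two, ← smul_eq_mul] at h
  obtain ⟨e, he, hsum⟩ := (Submodule.mem_ideal_smul_span_iff_exists_sum J f _).1 h
  rw [Finsupp.sum_fintype e (fun i c => c • f i) (fun i => zero_smul _ _)] at hsum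
  have hrel : ∑ l, (a l - e l) * f l = 0 := by
    simp only [sub_mul, Finset.sum_sub_distrib]
    rw [← hsum]
    simp [smul_eq_mul]
  have key : Submodule.span R {v : Fin c → R | ∃ i j : Fin c, v = Pi.single i (f j) - Pi.single j (f i)} ≤
      Submodule.pi Set.univ fun _ => J := by
    refine Submodule.span_le.2 ?_
    rintro _ ⟨i, j, rfl⟩ k -
    refine J.sub_mem ?_ ?_
    · rcases eq_or_ne k i with rfl | hk
      · rw [Pi.single_eq_same]; exact hf' j
      · rw [Pi.single_eq_of_ne hk]; exact J.zero_mem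
    · rcases eq_or_ne k j with rfl | hk
      · rw [Pi.single_eq_same]; exact hf' i
      · rw [Pi.single_eq_of_ne hk]; exact J.zero_mem
  have h1 : a l - e l ∈ J := key (hf _ hrel) l trivial
  simpa using J.add_mem h1 (he l)

variable {Z X Z' X' : Scheme.{u}} {i : Z ⟶ X} {i' : Z' ⟶ X'} {g : X ⟶ X'} {gZ : Z ⟶ Z'}
  {φ : (Scheme.Modules.pullback gZ).obj (Omega.conormal i') ⟶ Omega.conormal i}

/-- The map of conormal sheaves is injective on a chart on which the generators stay `H₁`-regular. -/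
theorem injective_app [QuasiCompact i] [QuasiCompact i'] (hsq : IsPullback i gZ g i')
    (hφ : IsConormalMap i i' g gZ φ) {V' : X'.Opens} (hV' : IsAffineOpen V')
    (hc : IsClosedImmersion (i' ∣_ V')) {V : X.Opens} (hV : IsAffineOpen V) (eV : V ≤ g ⁻¹ᵁ V')
    {c : ℕ} (f : Fin c → Γ(X', V')) (hker' : RingHom.ker (i'.app V').hom = Ideal.span (Set.range f))
    (hker : RingHom.ker (i.app V).hom = Ideal.span (Set.range fun l => g.appLE V' V eV (f l)))
    (hreg : CAlgX.IsH1Regular fun l => g.appLE V' V eV (f l)) :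
    Function.Injective (φ.app (i ⁻¹ᵁ V)) := by
  obtain ⟨hcV, -⟩ := Synt92.KRDescentScheme.ker_baseChange i' g i gZ hsq.flip hV' hc hV eV
  obtain ⟨hW', hs'⟩ := Synt92.KRImm.isAffine_preimage i' hV' hc
  obtain ⟨hW, hs⟩ := Synt92.KRImm.isAffine_preimage i hV hcV
  have hch' : Conormal92.Affine.IsChart i' V' := ⟨hV', hW', hs'⟩
  have hch : Conormal92.Affine.IsChart i V := ⟨hV, hW, hs⟩
  have eW : i ⁻¹ᵁ V ≤ gZ ⁻¹ᵁ (i' ⁻¹ᵁ V') := by
    refine (i.preimage_mono eV).trans (le_of_eq ?_)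
    rw [← Scheme.Hom.comp_preimage, hsq.w, Scheme.Hom.comp_preimage]
  haveI := Conormal92.Affine.isQCoh_conormal i'
  let N := (Scheme.Modules.pullback gZ).obj (Omega.conormal i')
  let C' := Omega.conormal i'
  let μ := CechRes.PullSec.mu gZ C' eW
  choose k' hk' using fun l => (Conormal92.Affine.exists_idealSect_iff hV' (f l)).2
    (hker'.ge (Ideal.subset_span ⟨l, rfl⟩))
  choose k hk using fun l => (Conormal92.Affine.exists_idealSect_iff hV (g.appLE V' V eV (f l))).2
    (hker.ge (Ideal.subset_span ⟨l, rfl⟩))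
  have hspan : ∀ m : Γ(C', i' ⁻¹ᵁ V'), ∃ b : Fin c → Γ(Z', i' ⁻¹ᵁ V'),
      m = ∑ l, b l • conormalSect i' V' (k' l) := by
    intro m
    obtain ⟨t, rfl⟩ := (Conormal92.Affine.conormalSect_spec hch').1 m
    obtain ⟨a, ha⟩ := Ideal.mem_span_range_iff_exists_fun.1
      (hker'.le ((Conormal92.Affine.exists_idealSect_iff hV' _).1 ⟨t, rfl⟩))
    refine ⟨fun l => i'.app V' (a l), ?_⟩
    have ht : t = ∑ l, a l • k' l := Kaehler.Conormal.idealSect_injective i' V' <| by
      rw [map_sum]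
      refine ha.symm.trans (Finset.sum_congr rfl fun l _ => ?_)
      rw [Kaehler.Conormal.idealSect_smul, hk']
    rw [ht, map_sum]
    exact Finset.sum_congr rfl fun l _ => Kaehler.Conormal.conormalSect_smul i' V' _ _
  have hgen : ∀ y : Γ(N, i ⁻¹ᵁ V), ∃ b : Fin c → Γ(Z, i ⁻¹ᵁ V),
      y = ∑ l, b l • μ (conormalSect i' V' (k' l)) := by
    letI : Algebra Γ(Z', i' ⁻¹ᵁ V') Γ(Z, i ⁻¹ᵁ V) := (gZ.appLE _ _ eW).hom.toAlgebra
    letI : Module Γ(Z', i' ⁻¹ᵁ V') Γ(N, i ⁻¹ᵁ V) := Module.compHom _ (gZ.appLE _ _ eW).hom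
    haveI : IsScalarTower Γ(Z', i' ⁻¹ᵁ V') Γ(Z, i ⁻¹ᵁ V) Γ(N, i ⁻¹ᵁ V) :=
      IsScalarTower.of_algebraMap_smul fun _ _ => rfl
    have hb := CechRes.PullSec.isBaseChange_mu gZ C' hW' hW eW
    intro y
    obtain ⟨z, hz⟩ := hb.equiv.surjective y
    suffices h : ∀ z, ∃ b : Fin c → Γ(Z, i ⁻¹ᵁ V), hb.equiv z = ∑ l, b l • μ (conormalSect i' V' (k' l)) by
      exact (h z).imp fun b hb' => hz.symm.trans hb'
    intro z
    induction z using TensorProduct.induction_on with
    | zero => exact ⟨0, by simp⟩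
    | tmul r m =>
      obtain ⟨b, rfl⟩ := hspan m
      refine ⟨fun l => r * gZ.appLE _ _ eW (b l), ?_⟩
      rw [hb.equiv_tmul, map_sum, Finset.smul_sum]
      refine Finset.sum_congr rfl fun l _ => ?_
      rw [map_smul, mul_smul]
      rfl
    | add p q hp hq =>
      obtain ⟨a, ha⟩ := hp
      obtain ⟨b, hb'⟩ := hq
      exact ⟨a + b, by rw [map_add, ha, hb']; simp [add_smul, Finset.sum_add_distrib]⟩
  rw [injective_iff_map_eq_zero]
  intro y hy
  obtain ⟨b, rfl⟩ := hgen y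
  choose a ha using fun l => hs (b l)
  have hval : φ.app (i ⁻¹ᵁ V) (∑ l, b l • μ (conormalSect i' V' (k' l))) =
      conormalSect i V (∑ l, a l • k l) := by
    rw [map_sum, map_sum]
    refine Finset.sum_congr rfl fun l _ => ?_
    rw [Scheme.Modules.Hom.app_smul, Kaehler.Conormal.conormalSect_smul, ← ha l]
    refine congrArg (i.app V (a l) • ·) ?_
    refine Conormal92.MapApp.app_mu hφ eV eW (k' l) (k l) ?_
    rw [hk' l, hk l]
  rw [hval, (Conormal92.Affine.conormalSect_spec hch).2, map_sum, hker] at hy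
  have hy' : ∑ l, a l * g.appLE V' V eV (f l) ∈
      Ideal.span (Set.range fun l => g.appLE V' V eV (f l)) ^ 2 := by
    convert hy using 2 with l
    rw [Kaehler.Conormal.idealSect_smul, hk]
  refine Finset.sum_eq_zero fun l _ => ?_
  have h0 : i.app V (a l) = 0 := RingHom.mem_ker.1 (hker.ge (coeff_mem hreg a hy' l))
  rw [← ha l]
  exact (congrArg (· • μ (conormalSect i' V' (k' l))) h0).trans (zero_smul _ _)

/-- The conormal sheaf of a regular immersion commutes with base change when the immersed scheme is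
flat over the base or the base change is flat. -/
theorem isIso_conormalMap {X Y Z Y' X' Z' : Scheme.{u}} (i : X ⟶ Z) (g : Z ⟶ Y) (u : Y' ⟶ Y) {c : ℕ}
    (hi : RegImm.IsRegularImmersionOfCodim .regular c i) [QuasiCompact i] {q : Z' ⟶ Z} {g' : Z' ⟶ Y'}
    (hZ : IsPullback q g' g u) {p : X' ⟶ X} {i' : X' ⟶ Z'} (hsq : IsPullback p i' i q) [IsImmersion i']
    [QuasiCompact i'] (hfl : Flat (i ≫ g) ∨ Flat u)
    (φ : (Scheme.Modules.pullback p).obj (Omega.conormal i) ⟶ Omega.conormal i')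
    (hφ : IsConormalMap i' i q p φ) : IsIso φ := by
  haveI : IsImmersion i := hi.1
  obtain ⟨hepi, hflat⟩ := S9372.result i' i q p hsq.flip φ hφ
  rcases hfl with hf | hu
  · haveI : Mono φ := by
      haveI := Conormal92.Affine.isQCoh_conormal i'
      haveI := Conormal92.Affine.isQCoh_conormal i
      haveI : ((Scheme.Modules.pullback p).obj (Omega.conormal i)).IsQuasicoherent :=
        QCoh.Pullback.isQCoh_pullback p _
      refine QCohChart.Basic.mono_of_charts φ fun z => ?_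
      obtain ⟨V, hV, hxV, -⟩ :=
        exists_isAffineOpen_mem_and_subset (X := Y) (x := g (i (p z))) (U := ⊤) trivial
      obtain ⟨D, hD, hxD, hDV, hcl, n, gs, hgs, hker⟩ := H26.H1BaseChange.exists_small g i hxV (by
        obtain ⟨U, hz, hclU, rs, -, hseq, hkU⟩ := hi.2 (p z)
        exact ⟨U, hz, hclU, rs, H26.RegKinds.h1_of_koszul rs (H26.RegKinds.koszul_of_regular rs hseq), hkU⟩)
      have hgz : q (i' z) = i (p z) := by
        rw [← Scheme.Hom.comp_apply, ← hsq.w, Scheme.Hom.comp_apply]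
      have hzV' : u (g' (i' z)) ∈ V := by
        rw [← Scheme.Hom.comp_apply, ← hZ.w, Scheme.Hom.comp_apply, hgz]
        exact hxV
      obtain ⟨V', hV', hzV'', hle⟩ := exists_isAffineOpen_mem_and_subset (x := g' (i' z)) (U := u ⁻¹ᵁ V) hzV'
      have hgle : V' ≤ u ⁻¹ᵁ V := fun x hx => hle hx
      let D' := q ⁻¹ᵁ D ⊓ g' ⁻¹ᵁ V'
      have hzD' : i' z ∈ D' := ⟨by show q (i' z) ∈ D; rw [hgz]; exact hxD, hzV''⟩
      haveI : IsAffine (D : Scheme.{u}) := hD
      haveI : IsAffine (V : Scheme.{u}) := hV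
      haveI : IsAffine (V' : Scheme.{u}) := hV'
      have hD' : IsAffineOpen D' :=
        .of_isIso (Scheme.Hom.isPullback_resLE hZ hgle hDV (rfl : D' = _)).isoPullback.hom
      have hpo := (isIso_pushoutSection_iff hZ hgle hDV (rfl : D' = _)).1
        (isIso_pushoutSection_of_isAffineOpen hZ hgle hDV rfl hV hV' hD)
      obtain ⟨hcl', hker'⟩ := H26.RelQuasiScheme.ker_app_baseChange hsq hD hcl hD' (inf_le_left : D' ≤ q ⁻¹ᵁ D)
      obtain ⟨hWa, hsurj⟩ := Synt92.KRImm.isAffine_preimage i hD hcl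
      letI : Algebra Γ(Y, V) Γ(Z, D) := (g.appLE V D hDV).hom.toAlgebra
      haveI hflat : Module.Flat Γ(Y, V) (Γ(Z, D) ⧸ Ideal.span (Set.range gs)) := by
        rw [← RingHom.flat_algebraMap_iff, ← hker]
        let e := RingHom.quotientKerEquivOfSurjective hsurj
        refine (RingHom.Flat.comp_iff_of_bijective_left (g := e.toRingHom) e.bijective).1 ?_
        have h2 := (i ≫ g).flat_appLE hV hWa (show i ⁻¹ᵁ D ≤ (i ≫ g) ⁻¹ᵁ V from fun x hx => hDV hx)
        rw [show e.toRingHom.comp (algebraMap Γ(Y, V) (Γ(Z, D) ⧸ RingHom.ker (i.app D).hom)) =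
          ((i ≫ g).appLE V (i ⁻¹ᵁ D) (fun x hx => hDV hx)).hom from ?_]
        · exact h2
        · rw [← Scheme.Hom.appLE_comp_appLE i g V D (i ⁻¹ᵁ D) hDV le_rfl, ← Scheme.Hom.app_eq_appLE]
          exact RingHom.ext fun r => rfl
      letI : Algebra Γ(Y, V) Γ(Y', V') := (u.appLE V V' hgle).hom.toAlgebra
      have hb := H26.H1Quasi.baseChange Γ(Y, V) Γ(Z, D) Γ(Y', V') gs hgs
      letI : Algebra Γ(Z, D) Γ(Z', D') := (q.appLE D D' inf_le_left).hom.toAlgebra
      letI : Algebra Γ(Y', V') Γ(Z', D') := (g'.appLE V' D' inf_le_right).hom.toAlgebra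
      letI : Algebra Γ(Y, V) Γ(Z', D') :=
        ((algebraMap Γ(Z, D) Γ(Z', D')).comp (algebraMap Γ(Y, V) Γ(Z, D))).toAlgebra
      haveI : IsScalarTower Γ(Y, V) Γ(Z, D) Γ(Z', D') := .of_algebraMap_eq fun _ => rfl
      haveI : IsScalarTower Γ(Y, V) Γ(Y', V') Γ(Z', D') :=
        .of_algebraMap_eq' (congrArg CommRingCat.Hom.hom hpo.w)
      haveI : Algebra.IsPushout Γ(Y, V) Γ(Y', V') Γ(Z, D) Γ(Z', D') :=
        CommRingCat.isPushout_iff_isPushout.mp hpo.flip
      let e := (Algebra.IsPushout.equiv Γ(Y, V) Γ(Y', V') Γ(Z, D) Γ(Z', D')).toRingEquiv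
      have hq' := H26.H1BaseChange.h1_ringEquiv e hb
      have he : ∀ x, e ((1 : Γ(Y', V')) ⊗ₜ[Γ(Y, V)] x) = algebraMap Γ(Z, D) Γ(Z', D') x := fun x => by
        show Algebra.IsPushout.equiv Γ(Y, V) Γ(Y', V') Γ(Z, D) Γ(Z', D') _ = _
        rw [Algebra.IsPushout.equiv_tmul, map_one, one_mul]
      simp only [he] at hq'
      obtain ⟨hWz, -⟩ := Synt92.KRImm.isAffine_preimage i' hD' hcl'
      refine ⟨i' ⁻¹ᵁ D', hWz, hzD', injective_app hsq.flip hφ hD hcl hD' inf_le_left gs hker ?_ hq'⟩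
      rw [hker', hker, Ideal.map_span, ← Set.range_comp]
      rfl
    haveI := hepi
    exact isIso_of_mono_of_epi φ
  · haveI : Flat q := MorphismProperty.of_isPullback (P := @Flat) hZ.flip hu
    exact hflat inferInstance

/-- Canonical sheaves commute with base change. -/
theorem nonempty_iso {X Y Y' : Scheme.{u}} (f : X ⟶ Y) (u : Y' ⟶ Y) (hfl : Flat f ∨ Flat u)
    (ω : X.Modules) (hω : Canon.IsCanonical f ω)
    (ω' : (pullback f u).Modules) (hω' : Canon.IsCanonical (pullback.snd f u) ω') :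
    Nonempty (ω' ≅ (Scheme.Modules.pullback (pullback.fst f u)).obj ω) := by
  obtain ⟨Z, i, g, c, n, rfl, hi, hg, hqc, hqs, DC, DΩ, hDC, hDΩ, ⟨e⟩⟩ := hω
  obtain ⟨Z₁, i₁, g₁, c₁, n₁, hf₁, hi₁, hg₁, hqc₁, hqs₁, hvia⟩ := hω'
  haveI : IsImmersion i := hi.1
  haveI : IsImmersion i₁ := hi₁.1
  haveI := hg
  haveI := hg₁
  haveI : Smooth g := SmoothOfRelativeDimension.smooth n g
  let p := pullback.fst (i ≫ g) u
  let q := pullback.fst g u
  let g' := pullback.snd g u
  let i' : pullback (i ≫ g) u ⟶ pullback g u :=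
    pullback.lift (p ≫ i) (pullback.snd (i ≫ g) u) (by rw [Category.assoc]; exact pullback.condition)
  have hi'g : i' ≫ g' = pullback.snd (i ≫ g) u := pullback.lift_snd _ _ _
  have hi'q : i' ≫ q = p ≫ i := pullback.lift_fst _ _ _
  have hZ : IsPullback q g' g u := IsPullback.of_hasPullback g u
  have hsq : IsPullback p i' i q := by
    refine IsPullback.of_bot ?_ hi'q.symm hZ
    rw [hi'g]
    exact IsPullback.of_hasPullback (i ≫ g) u
  haveI : IsImmersion i' := MorphismProperty.of_isPullback (P := @IsImmersion) hsq inferInstance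
  haveI : QuasiCompact i' := MorphismProperty.of_isPullback (P := @QuasiCompact) hsq inferInstance
  haveI : QuasiSeparated g' := MorphismProperty.of_isPullback (P := @QuasiSeparated) hZ inferInstance
  haveI : SmoothOfRelativeDimension n g' :=
    (smoothOfRelativeDimension_isStableUnderBaseChange n).of_isPullback hZ hg
  obtain ⟨φ, hφ, -⟩ := Kaehler.Conormal.existsUnique_conormalMap (i := i') (i' := i) (g := q) (gZ := p)
    hsq.w
  haveI := isIso_conormalMap i g u hi hZ hsq hfl φ hφ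
  haveI := Conormal92.Affine.isQCoh_conormal i
  have hC' : FlatMod.IsFinLocFreeOfRank c (Omega.conormal i') := fun y => by
    obtain ⟨U, hU, ⟨ε⟩⟩ := CanonicalIndep.isFinLocFreeOfRank_conormal i hi (p y)
    obtain ⟨δ⟩ := TensorMod.LocFree.pullback_iso_of_restrict_iso p ε
    exact ⟨p ⁻¹ᵁ U, hU, ⟨(Scheme.Modules.restrictFunctor _).mapIso (asIso φ).symm ≪≫ δ⟩⟩
  obtain ⟨α, hα, -⟩ := Kaehler.Basic.existsUnique_diffCompat (h := q) (b := u) (hsq := hZ.w.symm)
    (Kaehler.DOmega.isUniversal_dOmega g) (OmegaSh.dOmega g')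
  haveI := Kaehler.BaseChange.isIso_of_isPullback hZ
    (Kaehler.DOmega.isUniversal_dOmega g) (Kaehler.DOmega.isUniversal_dOmega g') α hα
  haveI : (Omega.sheaf g).IsQuasicoherent :=
    Kaehler.Finite.isQuasicoherent (Kaehler.DOmega.isUniversal_dOmega g)
  have hvia' : Canon.IsCanonicalVia i' g' c n ((Scheme.Modules.pullback p).obj ω) :=
    ⟨_, _, ExtPowPullQ.isExtPow_pullback p hDC (asIso φ), ExtPowPullQ.isExtPow_pullback q hDΩ (asIso α),
      ⟨(TensorMod.Pullback.pullbackTensorIso p ω DC).symm ≪≫ (Scheme.Modules.pullback p).mapIso e ≪≫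
        (Scheme.Modules.pullbackComp p i).app DΩ ≪≫ (Scheme.Modules.pullbackCongr hi'q.symm).app DΩ ≪≫
        ((Scheme.Modules.pullbackComp i' q).app DΩ).symm⟩⟩
  exact CanonicalIndep.nonempty_iso_of_rank i₁ g₁ i' g' hf₁ hi'g
    (CanonicalIndep.isFinLocFreeOfRank_conormal i₁ hi₁) hC' hvia hvia'

end Groth.Agent.H95.CanonicalBC
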