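import Groth.Agent.H95.CanonicalIndep
import Groth.Agent.Lib.Conormal92.SmoothRank
import Groth.Agent.S8656
import Groth.Agent.S8679
import Groth.Agent.Lib.Synt92.KRBase

/-!
# The canonical sheaf of a composite
-/

set_option autoImplicit false
set_option linter.style.haveILetI false
universe u

open CategoryTheory CategoryTheory.Limits AlgebraicGeometry Opposite
open Groth.Agent.Lib
open Groth.Agent.Lib.TensorMod.Basic (assoc comm tensorIso)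

namespace Groth.Agent.H95.CanonicalComp

variable {X Y Z : Scheme.{u}}

/-- A regular immersion is Koszul regular. -/
theorem koszul_of_regular (i : X ⟶ Z) {c : ℕ} (hi : RegImm.IsRegularImmersionOfCodim .regular c i) :
    RegImm.IsRegularImmersion .koszul i :=
  ⟨hi.1, fun z => by
    obtain ⟨U, hz, hcl, rs, -, ⟨hreg, -⟩, hker⟩ := hi.2 z
    exact ⟨U, hz, hcl, rs, (Groth.Agent.S15821.result _ _ hreg).1, hker⟩⟩

/-- A regular immersion followed by a smooth morphism is a local complete intersection. -/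
theorem isKoszulAt (i : X ⟶ Z) (g : Z ⟶ Y) [Smooth g] [IsImmersion i]
    (hi : RegImm.IsRegularImmersion .koszul i) (x : X) : Synt.IsKoszulAt (i ≫ g) x := by
  haveI : IsIso (⊤ : X.Opens).ι := X.topIso.isIso_hom
  have hsq : IsPullback (⊤ : X.Opens).ι ((⊤ : X.Opens).ι ≫ i) i (𝟙 Z) :=
    IsPullback.of_horiz_isIso ⟨by rw [Category.comp_id]⟩
  exact ⟨⊤, Z, (⊤ : X.Opens).ι ≫ i, g, trivial, inferInstance,
    Synt92.KRBase.isRegularImmersion_baseChange i (𝟙 Z) _ _ hsq hi, inferInstance, Category.assoc _ _ _⟩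

/-- Ranks add, the middle one read off determinant charts. -/
theorem rank_of_atlas (S : ShortComplex X.Modules) (hS : S.ShortExact) {a r c : ℕ} {L : X.Modules}
    (A : Cyc.CH.DetAtlas r S.X₂ L) {U₁ U₃ : X.Opens}
    (i₁ : S.X₁.restrict U₁.ι ≅ FlatMod.freeMod (↑U₁) a)
    (i₃ : S.X₃.restrict U₃.ι ≅ FlatMod.freeMod (↑U₃) c) {x : X} (h₁ : x ∈ U₁) (h₃ : x ∈ U₃) :
    r = a + c := by
  obtain ⟨s₁, hs₁⟩ := CurveBundle.Coherent.exists_basis_sections i₁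
  obtain ⟨s₃, hs₃⟩ := CurveBundle.Coherent.exists_basis_sections i₃
  have hx := (Modules.Stalk.shortExact_iff_stalk S).1 hS x
  refine Conormal92.SmoothRank.rank_add (Module.Basis.mk (hs₁ x h₁).1 (hs₁ x h₁).2.ge)
    (A.b x x (A.mem x)) (Module.Basis.mk (hs₃ x h₃).1 (hs₃ x h₃).2.ge)
    (Modules.StalkModule.stalkMapₗ S.f x) (Modules.StalkModule.stalkMapₗ S.g x) hx.ab_injective_f
    hx.ab_surjective_g (fun y hy => (ShortComplex.ab_exact_iff _).1 hx.exact y hy) fun z => ?_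
  have h := congrArg (fun q => (Modules.Stalk.stalkFunctor X x).map q z) S.zero
  simp only [Functor.map_comp, Functor.map_zero] at h
  exact h

/-- The conormal sequence of a factorisation through a smooth morphism. -/
theorem exists_seq_half {W Z' : Scheme.{u}} (p : W ⟶ Z) [Smooth p] [QuasiSeparated p] (q : W ⟶ Z')
    (i : X ⟶ Z) (i' : X ⟶ Z') (j : X ⟶ W) [IsImmersion i] [IsImmersion j] [QuasiCompact i] [QuasiCompact j]
    (hp : j ≫ p = i) (hq : j ≫ q = i') (g' : Z' ⟶ Y)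
    (e : (Scheme.Modules.pullback q).obj (Omega.sheaf g') ≅ Omega.sheaf p) :
    ∃ (φ : Omega.conormal i ⟶ Omega.conormal j)
      (ψ : Omega.conormal j ⟶ (Scheme.Modules.pullback i').obj (Omega.sheaf g')) (w : φ ≫ ψ = 0),
      (ShortComplex.mk φ ψ w).ShortExact := by
  obtain ⟨S, hS, ⟨a⟩, ⟨b⟩, ⟨c'⟩⟩ := Conormal92.ThirdFact.exists_extension p i j hp
    (Kaehler.DOmega.isUniversal_dOmega p)
  let γ : S.X₃ ≅ (Scheme.Modules.pullback i').obj (Omega.sheaf g') :=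
    c' ≪≫ (Scheme.Modules.pullback j).mapIso e.symm ≪≫ (Scheme.Modules.pullbackComp j q).app _ ≪≫
      (Scheme.Modules.pullbackCongr hq).app _
  let T := ShortComplex.mk (a.inv ≫ S.f ≫ b.hom) (b.inv ≫ S.g ≫ γ.hom) (by simp)
  exact ⟨_, _, T.zero,
    ShortComplex.shortExact_of_iso (ShortComplex.isoMk a b γ (by simp [T]) (by simp [T]) : S ≅ T) hS⟩

/-- The differentials of an open piece of a base change. -/
theorem nonempty_omega_iso {Z₃ Z₂ : Scheme.{u}} (g₃ : Z₃ ⟶ Z) (g₂ : Z₂ ⟶ Z) [Smooth g₂] [QuasiSeparated g₂]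
    (M : (pullback g₃ g₂).Opens) :
    Nonempty ((Scheme.Modules.pullback (M.ι ≫ pullback.snd g₃ g₂)).obj (Omega.sheaf g₂) ≅
      Omega.sheaf (M.ι ≫ pullback.fst g₃ g₂)) := by
  have h0 := Kaehler.DOmega.isUniversal_dOmega (pullback.fst g₃ g₂)
  obtain ⟨c, hc, -⟩ := Kaehler.Basic.existsUnique_diffCompat (h := pullback.snd g₃ g₂) (b := g₃)
    (hsq := pullback.condition) (Kaehler.DOmega.isUniversal_dOmega g₂) (OmegaSh.dOmega (pullback.fst g₃ g₂))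
  haveI := Kaehler.BaseChange.isIso_of_isPullback (IsPullback.of_hasPullback g₃ g₂).flip
    (Kaehler.DOmega.isUniversal_dOmega g₂) h0 c hc
  obtain ⟨α, hα, -⟩ := Kaehler.Basic.existsUnique_diffCompat (h := M.ι) (b := 𝟙 Z₃)
    (Category.comp_id (M.ι ≫ pullback.fst g₃ g₂)) h0 (OmegaSh.dOmega (M.ι ≫ pullback.fst g₃ g₂))
  haveI : IsIso α := Kaehler.BaseChange.isIso_of_etale (Category.comp_id (M.ι ≫ pullback.fst g₃ g₂)) h0
    (Kaehler.DOmega.isUniversal_dOmega (M.ι ≫ pullback.fst g₃ g₂)) α hα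
  exact ⟨((Scheme.Modules.pullbackComp M.ι (pullback.snd g₃ g₂)).symm.app _) ≪≫
    (Scheme.Modules.pullback M.ι).mapIso (asIso c) ≪≫ asIso α⟩

/-- The same on the other side. -/
theorem nonempty_omega_iso' {Z₃ Y' : Scheme.{u}} (g₃ : Z₃ ⟶ Z) (g : Y' ⟶ Z) [Smooth g₃] [QuasiSeparated g₃]
    (W : (pullback g₃ g).Opens) :
    Nonempty ((Scheme.Modules.pullback (W.ι ≫ pullback.fst g₃ g)).obj (Omega.sheaf g₃) ≅
      Omega.sheaf (W.ι ≫ pullback.snd g₃ g)) := by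
  have h0 := Kaehler.DOmega.isUniversal_dOmega (pullback.snd g₃ g)
  obtain ⟨c, hc, -⟩ := Kaehler.Basic.existsUnique_diffCompat (h := pullback.fst g₃ g) (b := g)
    (hsq := pullback.condition.symm) (Kaehler.DOmega.isUniversal_dOmega g₃) (OmegaSh.dOmega (pullback.snd g₃ g))
  haveI := Kaehler.BaseChange.isIso_of_isPullback (IsPullback.of_hasPullback g₃ g)
    (Kaehler.DOmega.isUniversal_dOmega g₃) h0 c hc
  obtain ⟨α, hα, -⟩ := Kaehler.Basic.existsUnique_diffCompat (h := W.ι) (b := 𝟙 Y')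
    (Category.comp_id (W.ι ≫ pullback.snd g₃ g)) h0 (OmegaSh.dOmega (W.ι ≫ pullback.snd g₃ g))
  haveI : IsIso α := Kaehler.BaseChange.isIso_of_etale (Category.comp_id (W.ι ≫ pullback.snd g₃ g)) h0
    (Kaehler.DOmega.isUniversal_dOmega (W.ι ≫ pullback.snd g₃ g)) α hα
  exact ⟨((Scheme.Modules.pullbackComp W.ι (pullback.fst g₃ g)).symm.app _) ≪≫
    (Scheme.Modules.pullback W.ι).mapIso (asIso c) ≪≫ asIso α⟩

/-- `(A ⊗ B) ⊗ (C ⊗ D) ≅ (A ⊗ C) ⊗ (B ⊗ D)`. -/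
noncomputable def mid (A B C D : X.Modules) :
    CohB1.tensorMod (CohB1.tensorMod A B) (CohB1.tensorMod C D) ≅
      CohB1.tensorMod (CohB1.tensorMod A C) (CohB1.tensorMod B D) :=
  assoc A B _ ≪≫ tensorIso (Iso.refl A) ((assoc B C D).symm ≪≫ tensorIso (comm B C) (Iso.refl D) ≪≫
    assoc C B D) ≪≫ (assoc A C _).symm

set_option maxHeartbeats 1000000 in
/-- The canonical sheaf of a composite, the factorisation of the composite only of constant rank. -/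
theorem nonempty_iso_of_rank (f : X ⟶ Y) (g : Y ⟶ Z) (ω₁ : X.Modules) (ω₂ : Y.Modules) (ω₃ : X.Modules)
    (h₁ : Canon.IsCanonical f ω₁) (h₂ : Canon.IsCanonical g ω₂) {Z₃ : Scheme.{u}} (i₃ : X ⟶ Z₃) (g₃ : Z₃ ⟶ Z)
    {c₃ n₃ : ℕ} (h : i₃ ≫ g₃ = f ≫ g) [IsImmersion i₃] [QuasiCompact i₃] [QuasiSeparated g₃]
    (hi₃ : FlatMod.IsFinLocFreeOfRank c₃ (Omega.conormal i₃)) (hg₃ : SmoothOfRelativeDimension n₃ g₃)
    (h₃ : Canon.IsCanonicalVia i₃ g₃ c₃ n₃ ω₃) :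
    Nonempty (ω₃ ≅ CohB1.tensorMod ω₁ ((Scheme.Modules.pullback f).obj ω₂)) := by
  obtain ⟨Z₁, i, g₁, c, n₁, rfl, hi, hg₁, hqc₁, hqs₁, DC₁, DΩ₁, hDC₁, hDΩ₁, ⟨a₁⟩⟩ := h₁
  obtain ⟨Z₂, i₂, g₂, c₂, n₂, rfl, hi₂, hg₂, hqc₂, hqs₂, DC₂, DΩ₂, hDC₂, hDΩ₂, ⟨a₂⟩⟩ := h₂
  obtain ⟨DC₃, DΩ₃, hDC₃, hDΩ₃, ⟨a₃⟩⟩ := h₃
  have hqs₃ : QuasiSeparated g₃ := inferInstance
  haveI : IsImmersion i := hi.1
  haveI : IsImmersion i₂ := hi₂.1
  haveI := hg₁
  haveI := hg₂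
  haveI := hg₃
  haveI : Smooth g₁ := SmoothOfRelativeDimension.smooth n₁ g₁
  haveI : Smooth g₂ := SmoothOfRelativeDimension.smooth n₂ g₂
  haveI : Smooth g₃ := SmoothOfRelativeDimension.smooth n₃ g₃
  let sW := pullback.snd g₃ (i₂ ≫ g₂)
  let fW := pullback.fst g₃ (i₂ ≫ g₂)
  let sM := pullback.snd g₃ g₂
  let fM := pullback.fst g₃ g₂
  let b : pullback g₃ (i₂ ≫ g₂) ⟶ pullback g₃ g₂ :=
    pullback.lift fW (sW ≫ i₂) (by rw [Category.assoc]; exact pullback.condition)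
  have hbf : b ≫ fM = fW := pullback.lift_fst _ _ _
  have hbs : b ≫ sM = sW ≫ i₂ := pullback.lift_snd _ _ _
  have hbsq : IsPullback sW b i₂ sM := by
    refine IsPullback.of_bot ?_ hbs.symm (IsPullback.of_hasPullback g₃ g₂).flip
    rw [hbf]
    exact (IsPullback.of_hasPullback g₃ (i₂ ≫ g₂)).flip
  haveI : IsImmersion b := MorphismProperty.of_isPullback (P := @IsImmersion) hbsq inferInstance
  let k := pullback.lift i₃ (i ≫ g₁) h
  have hkf : k ≫ fW = i₃ := pullback.lift_fst _ _ _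
  have hks : k ≫ sW = i ≫ g₁ := pullback.lift_snd _ _ _
  haveI : IsImmersion (k ≫ fW) := by rw [hkf]; infer_instance
  haveI : IsImmersion k := IsImmersion.of_comp k fW
  obtain ⟨O, hO, hOU⟩ := b.isEmbedding.isInducing.isOpen_iff.1 k.coborderRange.isOpen
  let M : (pullback g₃ g₂).Opens := ⟨O, hO⟩ ⊓ b.coborderRange
  have hW : b ⁻¹ᵁ M = k.coborderRange := TopologicalSpace.Opens.ext (Set.ext fun x => by
    refine ⟨fun hx => ?_, fun hx => ⟨(Set.ext_iff.1 hOU x).2 hx, subset_coborder ⟨x, rfl⟩⟩⟩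
    exact (Set.ext_iff.1 hOU x).1 hx.1)
  let b' := b ∣_ M
  haveI : IsClosedImmersion b' := Synt92.KRImm.closed_of_le b inf_le_right
    (TopDiffOpen.closed_restrict_coborderRange b)
  obtain ⟨k', hk', hk'cl⟩ : ∃ k' : X ⟶ (b ⁻¹ᵁ M).toScheme, k' ≫ (b ⁻¹ᵁ M).ι = k ∧ IsClosedImmersion k' :=
    ⟨k.liftCoborder ≫ (Scheme.isoOfEq _ hW).inv,
      by rw [Category.assoc, Scheme.isoOfEq_inv_ι, k.liftCoborder_ι], inferInstance⟩
  let pW := (b ⁻¹ᵁ M).ι ≫ sW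
  let qW := (b ⁻¹ᵁ M).ι ≫ fW
  let pM := M.ι ≫ fM
  let qM := M.ι ≫ sM
  have hkp : k' ≫ pW = i ≫ g₁ := by rw [← hks, ← hk', Category.assoc]
  have hkq : k' ≫ qW = i₃ := by rw [← hkf, ← hk', Category.assoc]
  haveI : SmoothOfRelativeDimension n₃ sW :=
    (smoothOfRelativeDimension_isStableUnderBaseChange n₃).of_isPullback
      (IsPullback.of_hasPullback g₃ (i₂ ≫ g₂)) hg₃
  haveI : SmoothOfRelativeDimension n₂ fM :=
    (smoothOfRelativeDimension_isStableUnderBaseChange n₂).of_isPullback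
      (IsPullback.of_hasPullback g₃ g₂).flip hg₂
  haveI : QuasiSeparated sW := MorphismProperty.of_isPullback (P := @QuasiSeparated)
    (IsPullback.of_hasPullback g₃ (i₂ ≫ g₂)) hqs₃
  haveI : QuasiSeparated fM := MorphismProperty.of_isPullback (P := @QuasiSeparated)
    (IsPullback.of_hasPullback g₃ g₂).flip hqs₂
  haveI : SmoothOfRelativeDimension n₃ pW := by
    have h : SmoothOfRelativeDimension (0 + n₃) pW := inferInstance
    rwa [zero_add] at h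
  haveI : Smooth pW := SmoothOfRelativeDimension.smooth n₃ pW
  haveI : Smooth pM := inferInstance
  haveI : Smooth sM := MorphismProperty.of_isPullback (P := @Smooth) (IsPullback.of_hasPullback g₃ g₂) ‹_›
  have hsqb : IsPullback pW b' i₂ qM :=
    ((isPullback_morphismRestrict b M).flip).paste_horiz hbsq
  haveI : Flat qM := inferInstance
  have hb' : RegImm.IsRegularImmersion .koszul b' :=
    Synt92.KRBase.isRegularImmersion_baseChange i₂ qM b' pW hsqb (koszul_of_regular i₂ hi₂)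
  have hk'r : RegImm.IsRegularImmersion .koszul k' :=
    S8656.result (i ≫ g₁) (isKoszulAt i g₁ (koszul_of_regular i hi)) pW k' hkp
  -- the conormal sheaf of `b'`
  obtain ⟨ψ, hψ, -⟩ := Kaehler.Conormal.existsUnique_conormalMap (i := b') (i' := i₂) (g := qM)
    (gZ := pW) hsqb.w
  haveI : IsIso ψ := (S9372.result b' i₂ qM pW hsqb.flip ψ hψ).2 inferInstance
  haveI := Conormal92.Affine.isQCoh_conormal i₂
  let eb : (Scheme.Modules.pullback (i ≫ g₁)).obj (Omega.conormal i₂) ≅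
      (Scheme.Modules.pullback k').obj (Omega.conormal b') :=
    (Scheme.Modules.pullbackCongr hkp.symm).app _ ≪≫ ((Scheme.Modules.pullbackComp k' pW).symm.app _) ≪≫
      (Scheme.Modules.pullback k').mapIso (asIso ψ)
  have hDb := ExtPowPullQ.isExtPow_pullback (i ≫ g₁) hDC₂ eb
  have hCb : FlatMod.IsFinLocFreeOfRank c₂ ((Scheme.Modules.pullback k').obj (Omega.conormal b')) := fun y => by
    obtain ⟨U, hU, ⟨ε⟩⟩ := CanonicalIndep.isFinLocFreeOfRank_conormal i₂ hi₂ ((i ≫ g₁) y)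
    obtain ⟨δ⟩ := TensorMod.LocFree.pullback_iso_of_restrict_iso (i ≫ g₁) ε
    exact ⟨_, hU, ⟨(Scheme.Modules.restrictFunctor _).mapIso eb.symm ≪≫ δ⟩⟩
  -- the differentials of `pW` and `pM`
  obtain ⟨eW⟩ := nonempty_omega_iso' g₃ (i₂ ≫ g₂) (b ⁻¹ᵁ M)
  obtain ⟨eM⟩ := nonempty_omega_iso g₃ g₂ M
  haveI : (Omega.sheaf g₃).IsQuasicoherent :=
    Kaehler.Finite.isQuasicoherent (Kaehler.DOmega.isUniversal_dOmega g₃)
  have hDW := ExtPowPullQ.isExtPow_pullback qW hDΩ₃ eW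
  -- the common factorisation of `f`
  let m : X ⟶ pullback g₁ pW := pullback.lift i k' hkp.symm
  have hm1 : m ≫ pullback.fst g₁ pW = i := pullback.lift_fst _ _ _
  have hm2 : m ≫ pullback.snd g₁ pW = k' := pullback.lift_snd _ _ _
  haveI : IsImmersion (m ≫ pullback.fst g₁ pW) := by rw [hm1]; infer_instance
  haveI : IsImmersion m := IsImmersion.of_comp m (pullback.fst g₁ pW)
  haveI : QuasiCompact (m ≫ pullback.fst g₁ pW) := by rw [hm1]; infer_instance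
  haveI : QuasiCompact m := QuasiCompact.of_comp m (pullback.fst g₁ pW)
  obtain ⟨⟨ε'⟩, ⟨ε⟩⟩ := CanonicalIndep.nonempty_proj_iso g₁ pW
  have hC := CanonicalIndep.isFinLocFreeOfRank_conormal i hi
  obtain ⟨A₁⟩ := CanonicalIndep.nonempty_detAtlas_half (pullback.fst g₁ pW) (pullback.snd g₁ pW) i k' m
    hm1 hm2 pW ε' hC hDC₁ hDW
  obtain ⟨φ, χ, w, hT⟩ := exists_seq_half (pullback.snd g₁ pW) (pullback.fst g₁ pW) k' i m hm2 hm1 g₁ ε
  have hΩ₁ : FlatMod.IsFinLocFreeOfRank n₁ ((Scheme.Modules.pullback i).obj (Omega.sheaf g₁)) := fun y => by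
    obtain ⟨U, hU, ⟨δ⟩⟩ := FundLocal.Rank.isFinLocFreeOfRank_omega g₁ n₁ (i y)
    exact ⟨i ⁻¹ᵁ U, hU, TensorMod.LocFree.pullback_iso_of_restrict_iso i δ⟩
  have hCk : FlatMod.IsFinLocFreeOfRank (c + n₃ - n₁) (Omega.conormal k') := fun y => by
    obtain ⟨U, a, hU, ⟨δ⟩⟩ := Conormal92.Koszul.isFinLocFree hk'r y
    obtain ⟨U₃, hU₃, ⟨δ₃⟩⟩ := hΩ₁ y
    have := rank_of_atlas (ShortComplex.mk φ χ w) hT A₁ δ δ₃ hU hU₃
    obtain rfl : a = c + n₃ - n₁ := by omega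
    exact ⟨U, hU, ⟨δ⟩⟩
  haveI := Conormal92.Affine.isQCoh_conormal k'
  obtain ⟨Dk, hDk⟩ := FundLocal.ExtPowExists.exists_isExtPow (E := Omega.conormal k') (c + n₃ - n₁)
  obtain ⟨B₁⟩ := CanonicalIndep.nonempty_detAtlas_half (pullback.snd g₁ pW) (pullback.fst g₁ pW) k' i m
    hm2 hm1 g₁ ε hCk hDk hDΩ₁
  obtain ⟨A₁'⟩ := CanonicalIndep.nonempty_detAtlas_congr A₁ B₁
  obtain ⟨eA⟩ := A₁'.nonempty_iso B₁
  -- the composite
  obtain ⟨φ₁, hφ₁, -⟩ := Kaehler.Conormal.existsUnique_conormalMap (i := k' ≫ b') (i' := b') (g := 𝟙 M.toScheme)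
    (gZ := k') (Category.comp_id _).symm
  obtain ⟨φ₂, hφ₂, -⟩ := Kaehler.Conormal.existsUnique_conormalMap (i := k') (i' := k' ≫ b') (g := b')
    (gZ := 𝟙 X) (Category.id_comp _)
  obtain ⟨w', hS⟩ := S8679.result b' k' hb' hk'r φ₁ hφ₁ φ₂ hφ₂
  obtain ⟨Ab⟩ := Cyc.CH.nonempty_detAtlas_of_isExtPow hCb hDb
  obtain ⟨Ak⟩ := Cyc.CH.nonempty_detAtlas_of_isExtPow hCk hDk
  haveI : IsIso ((Scheme.Modules.pullbackId X).inv.app (Omega.conormal (k' ≫ b'))) := inferInstance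
  obtain ⟨Al⟩ : Nonempty (Cyc.CH.DetAtlas (c₂ + (c + n₃ - n₁)) (Omega.conormal (k' ≫ b'))
      (CohB1.tensorMod ((Scheme.Modules.pullback (i ≫ g₁)).obj DC₂) Dk)) :=
    FundLocal.DetSES.nonempty_detAtlas hS rfl Ab Ak
  have hlp : (k' ≫ b') ≫ pM = i₃ := by
    show (k' ≫ b') ≫ M.ι ≫ fM = i₃
    rw [Category.assoc, ← Category.assoc b', morphismRestrict_ι, Category.assoc, hbf]
    exact hkq
  have hlq : (k' ≫ b') ≫ qM = (i ≫ g₁) ≫ i₂ := by
    rw [Category.assoc, ← hsqb.w, ← Category.assoc, hkp]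
  haveI : QuasiSeparated pM := inferInstance
  obtain ⟨Al'⟩ := CanonicalIndep.nonempty_detAtlas_half pM qM i₃ ((i ≫ g₁) ≫ i₂) (k' ≫ b') hlp hlq g₂ eM
    hi₃ hDC₃ hDΩ₂
  obtain ⟨Al''⟩ := CanonicalIndep.nonempty_detAtlas_congr Al' Al
  obtain ⟨eB⟩ := Al''.nonempty_iso Al
  obtain ⟨AΩ⟩ := Cyc.CH.nonempty_detAtlas_of_isExtPow (FundLocal.Rank.isFinLocFreeOfRank_omega g₁ n₁) hDΩ₁
  have hinv := TensorMod.Invertible.isInvertible_tensorMod Al'.isInvertible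
    (PicLoc.isInvertible_pullback i AΩ.isInvertible)
  refine ⟨TensorMod.Invertible.cancelRight hinv ?_⟩
  let P₂ := (Scheme.Modules.pullback ((i ≫ g₁) ≫ i₂)).obj DΩ₂
  let e₂ : CohB1.tensorMod ((Scheme.Modules.pullback (i ≫ g₁)).obj ω₂)
      ((Scheme.Modules.pullback (i ≫ g₁)).obj DC₂) ≅ P₂ :=
    (TensorMod.Pullback.pullbackTensorIso (i ≫ g₁) ω₂ DC₂).symm ≪≫
      (Scheme.Modules.pullback (i ≫ g₁)).mapIso a₂ ≪≫ (Scheme.Modules.pullbackComp (i ≫ g₁) i₂).app DΩ₂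
  let e₃ : CohB1.tensorMod ω₃ DC₃ ≅ (Scheme.Modules.pullback k').obj ((Scheme.Modules.pullback qW).obj DΩ₃) :=
    a₃ ≪≫ (Scheme.Modules.pullbackCongr hkq.symm).app DΩ₃ ≪≫ ((Scheme.Modules.pullbackComp k' qW).app DΩ₃).symm
  let L := (assoc ω₃ _ _).symm ≪≫ tensorIso ((assoc ω₃ _ _).symm ≪≫ tensorIso e₃ (Iso.refl P₂) ≪≫ comm _ _)
    (Iso.refl ((Scheme.Modules.pullback i).obj DΩ₁)) ≪≫ assoc _ _ _ ≪≫ tensorIso (Iso.refl P₂) (comm _ _)
  let R := tensorIso (comm ω₁ ((Scheme.Modules.pullback (i ≫ g₁)).obj ω₂))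
      (tensorIso eB (Iso.refl ((Scheme.Modules.pullback i).obj DΩ₁)) ≪≫ assoc _ _ _) ≪≫ mid _ _ _ _ ≪≫
    tensorIso e₂ (tensorIso (Iso.refl ω₁) eA.symm ≪≫ (assoc ω₁ DC₁ _).symm ≪≫ tensorIso a₁ (Iso.refl _))
  exact L ≪≫ R.symm

/-- The canonical sheaf of a composite. -/
theorem nonempty_iso (f : X ⟶ Y) (g : Y ⟶ Z) (ω₁ : X.Modules) (ω₂ : Y.Modules) (ω₃ : X.Modules)
    (h₁ : Canon.IsCanonical f ω₁) (h₂ : Canon.IsCanonical g ω₂) (h₃ : Canon.IsCanonical (f ≫ g) ω₃) :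
    Nonempty (ω₃ ≅ CohB1.tensorMod ω₁ ((Scheme.Modules.pullback f).obj ω₂)) := by
  obtain ⟨Z₃, i₃, g₃, c₃, n₃, h, hi₃, hg₃, hqc₃, hqs₃, hvia⟩ := h₃
  haveI : IsImmersion i₃ := hi₃.1
  exact nonempty_iso_of_rank f g ω₁ ω₂ ω₃ h₁ h₂ i₃ g₃ h (CanonicalIndep.isFinLocFreeOfRank_conormal i₃ hi₃) hg₃ hvia

end Groth.Agent.H95.CanonicalComp
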