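import Groth.Agent.Lib.FundLocal.ExtPowExists
import Groth.Agent.Lib.CechRes.PullSec
import Groth.Agent.Lib.ClSub.Basis
import Groth.Agent.Lib.Modules.AffineHom

/-!
# Exterior powers of quasi-coherent modules commute with pullback
-/

set_option autoImplicit false
set_option linter.style.haveILetI false
universe u

open CategoryTheory CategoryTheory.Limits AlgebraicGeometry Opposite TopologicalSpace exteriorPower

namespace Groth.Agent.H95.ExtPowPullQ

open Groth.Agent.Lib Groth.Agent.Lib.QCoh.Localizing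
open Groth.Agent.Lib.CechRes.PullSec (mu mu_res isBaseChange_mu)

noncomputable section

variable {X T : Scheme.{u}}

theorem res_app {M N : X.Modules} (φ : M ⟶ N) {U V : X.Opens} (h : V ≤ U) (x : Γ(M, U)) :
    φ.app V (res M h x) = res N h (φ.app U x) :=
  ClSub.Basis.map_app φ h x

/-- A linear map carrying one base change to another is bijective. -/
theorem bijective_of_isBaseChange {R S M P Q : Type u} [CommRing R] [CommRing S] [Algebra R S]
    [AddCommGroup M] [Module R M] [AddCommGroup P] [Module R P] [Module S P] [IsScalarTower R S P]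
    [AddCommGroup Q] [Module R Q] [Module S Q] [IsScalarTower R S Q]
    {f : M →ₗ[R] P} (hf : IsBaseChange S f) {c : M →ₗ[R] Q} (hc : IsBaseChange S c) (ψ : P →ₗ[S] Q)
    (h : ∀ m, ψ (f m) = c m) : Function.Bijective ψ := by
  have : ψ = (hf.equiv.symm.trans hc.equiv).toLinearMap := by
    refine hf.algHom_ext _ _ fun l => (h l).trans ?_
    show c l = hc.equiv (hf.equiv.symm _)
    rw [hf.equiv_symm_apply, hc.equiv_tmul, one_smul]
  rw [this]
  exact LinearEquiv.bijective _

/-- The sum of a base change and two linear equivalences is a base change. -/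
theorem isBaseChange_congr {R S M M' P Q : Type u} [CommRing R] [CommRing S] [Algebra R S]
    [AddCommGroup M] [Module R M] [AddCommGroup M'] [Module R M']
    [AddCommGroup P] [Module R P] [Module S P] [IsScalarTower R S P]
    [AddCommGroup Q] [Module R Q] [Module S Q] [IsScalarTower R S Q]
    {f : M →ₗ[R] P} (hf : IsBaseChange S f) (e : M' ≃ₗ[R] M) (e' : P ≃ₗ[S] Q) :
    IsBaseChange S ((e'.toLinearMap.restrictScalars R).comp (f.comp e.toLinearMap)) :=
  ((IsBaseChange.ofEquiv e).comp (R := R) (S := R) (T := S) hf).comp (IsBaseChange.ofEquiv e')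

set_option maxHeartbeats 1000000 in
/-- The pullback of an exterior power of a quasi-coherent module is an exterior power of the pullback. -/
theorem isExtPow_pullback (g : T ⟶ X) {E L : X.Modules} [E.IsQuasicoherent] {i : ℕ}
    (hL : ExtPow.IsExtPow i E L) {E' : T.Modules} (e : (Scheme.Modules.pullback g).obj E ≅ E') :
    ExtPow.IsExtPow i E' ((Scheme.Modules.pullback g).obj L) := by
  classical
  obtain ⟨φ, hφ⟩ : ∃ φ : ∀ U : X.affineOpens, Γ(L, U.1) ≃ₗ[Γ(X, U.1)] ↥(⋀[Γ(X, U.1)]^i Γ(E, U.1)),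
      ∀ (U V : X.affineOpens) (h : V.1 ≤ U.1) (v : Fin i → Γ(E, U.1)),
        res L h ((φ U).symm (ιMulti _ i v)) = (φ V).symm (ιMulti _ i fun j => res E h (v j)) := hL
  haveI : E'.IsQuasicoherent := by
    have h := QCoh.Pullback.isQCoh_pullback g E
    exact (SheafOfModules.isQuasicoherent (R := T.ringCatSheaf)).prop_of_iso e h
  haveI : L.IsQuasicoherent :=
    H95.ExtPowQCoh.isQuasicoherent_of_loc (Ω := E) i φ (fun U V h v => hφ U V h v)
  let hu := FundLocal.ExtPowExists.isUnit E' i
  let M := FundLocal.ExtPowExists.ext E' i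
  let u := FundLocal.ExtPowExists.unit E' i
  have hnat : ∀ {W W' : T.Opens} (h : W' ≤ W) (v : Fin i → Γ(E', W)),
      res M h (u W (ιMulti _ i v)) = u W' (ιMulti _ i fun j => res E' h (v j)) := fun h v =>
    (hu.nat h _).trans (congrArg _ (FundLocal.ExtPowExists.pr_ιMulti E' i h v))
  let ν : ∀ {U : X.Opens} {W : T.Opens} (_ : W ≤ g ⁻¹ᵁ U), Γ(E, U) →ₛₗ[(g.appLE U W ‹_›).hom] Γ(E', W) :=
    fun {U W} hW =>
      { toFun := fun x => e.hom.app W (mu g E hW x)
        map_add' := fun a b => by rw [map_add, map_add]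
        map_smul' := fun r a => (congrArg (e.hom.app W) ((mu g E hW).map_smulₛₗ r a)).trans
          (Scheme.Modules.Hom.app_smul e.hom _ _) }
  have hν : ∀ {U U' : X.Opens} {W W' : T.Opens} (hU : U' ≤ U) (hW : W' ≤ W) (a : W ≤ g ⁻¹ᵁ U)
      (a' : W' ≤ g ⁻¹ᵁ U') (x : Γ(E, U)), ν a' (res E hU x) = res E' hW (ν a x) :=
    fun hU hW a a' x => (congrArg (e.hom.app _) (mu_res g E hU hW a a' x)).trans (res_app e.hom hW _)
  let N := (Scheme.Modules.pushforward g).obj M
  let D : ∀ U : X.affineOpens, Γ(E, U.1) [⋀^Fin i]→ₗ[Γ(X, U.1)] Γ(N, U.1) := fun U =>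
    { toFun := fun v => u (g ⁻¹ᵁ U.1) (ιMulti _ i fun k => ν (le_refl (g ⁻¹ᵁ U.1)) (v k))
      map_update_add' := fun {dec} v j a b => by
        obtain rfl : dec = instDecidableEqFin i := Subsingleton.elim _ _
        have h : ∀ a, (fun k => ν (le_refl (g ⁻¹ᵁ U.1)) (Function.update v j a k)) =
            Function.update (fun k => ν (le_refl (g ⁻¹ᵁ U.1)) (v k)) j (ν (le_refl (g ⁻¹ᵁ U.1)) a) := fun a => funext fun k => by
          rcases eq_or_ne k j with rfl | hk
          · simp
          · simp [Function.update_of_ne hk]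
        show u _ _ = u _ _ + u _ _
        rw [h, h, h, map_add (ν (le_refl (g ⁻¹ᵁ U.1))), AlternatingMap.map_update_add, map_add]
        rfl
      map_update_smul' := fun {dec} v j r a => by
        obtain rfl : dec = instDecidableEqFin i := Subsingleton.elim _ _
        have h : ∀ a, (fun k => ν (le_refl (g ⁻¹ᵁ U.1)) (Function.update v j a k)) =
            Function.update (fun k => ν (le_refl (g ⁻¹ᵁ U.1)) (v k)) j (ν (le_refl (g ⁻¹ᵁ U.1)) a) := fun a => funext fun k => by
          rcases eq_or_ne k j with rfl | hk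
          · simp
          · simp [Function.update_of_ne hk]
        show u (g ⁻¹ᵁ U.1) _ = g.app U.1 r • u (g ⁻¹ᵁ U.1) _
        rw [h, h, LinearMap.map_smulₛₗ (ν (le_refl (g ⁻¹ᵁ U.1))), AlternatingMap.map_update_smul, map_smul,
          Scheme.Hom.app_eq_appLE]
      map_eq_zero_of_eq' := fun v k l h hkl => by
        show u (g ⁻¹ᵁ U.1) _ = 0
        rw [(ιMulti Γ(T, g ⁻¹ᵁ U.1) i).map_eq_zero_of_eq _
          (congrArg (ν (le_refl (g ⁻¹ᵁ U.1))) h) hkl, map_zero] }
  let F : ∀ U : X.affineOpens, Γ(L, U.1) →ₗ[Γ(X, U.1)] Γ(N, U.1) := fun U =>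
    exteriorPower.alternatingMapLinearEquiv (D U) ∘ₗ (φ U).toLinearMap
  have hF : ∀ (U : X.affineOpens) (v : Fin i → Γ(E, U.1)), F U ((φ U).symm (ιMulti _ i v)) = D U v := fun U v => by
    refine (congrArg (exteriorPower.alternatingMapLinearEquiv (D U)) ((φ U).apply_symm_apply _)).trans ?_
    exact exteriorPower.alternatingMapLinearEquiv_apply_ιMulti _ _
  have hc : ∀ (U V : X.affineOpens) (h : V.1 ≤ U.1) (l : Γ(L, U.1)), res N h (F U l) = F V (res L h l) := by
    intro U V h l
    obtain ⟨t, rfl⟩ := (φ U).symm.surjective l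
    induction t using FundLocal.ExtPowExists.gen_induction with
    | gen v =>
      refine (congrArg (res N h) (hF U v)).trans
        (Eq.trans ?_ ((congrArg (F V) (hφ U V h v)).trans (hF V _)).symm)
      exact (hnat (g.preimage_mono h) _).trans
        (congrArg (u (g ⁻¹ᵁ V.1)) (congrArg _ (funext fun k => (hν h (g.preimage_mono h) _ _ (v k)).symm)))
    | zero => simp only [map_zero]
    | add a b ha hb => simp only [map_add, ha, hb]
    | smul r b hb =>
      rw [map_smul (φ U).symm]
      exact ((congrArg (res N h) ((F U).map_smul r _)).trans (res_smul h r _)).trans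
        ((congrArg (resR h r • ·) hb).trans
          ((congrArg (F V) (res_smul h r _)).trans ((F V).map_smul _ _)).symm)
  obtain ⟨ψ₀, hψ₀⟩ := Modules.AffineHom.exists_hom_of_affine F hc
  let ψ := ((Scheme.Modules.pullbackPushforwardAdjunction g).homEquiv _ _).symm ψ₀
  have hψ : ∀ (U : X.affineOpens) (v : Fin i → Γ(E, U.1)) (W : T.Opens) (hW : W ≤ g ⁻¹ᵁ U.1),
      ψ.app W (mu g L hW ((φ U).symm (ιMulti _ i v))) = u W (ιMulti _ i fun k => ν hW (v k)) := by
    intro U v W hW
    have h1 : ((Scheme.Modules.pullbackPushforwardAdjunction g).homEquiv _ _ ψ).app U.1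
        ((φ U).symm (ιMulti _ i v)) = D U v := by
      rw [Equiv.apply_symm_apply, hψ₀, hF]
    rw [Adjunction.homEquiv_unit] at h1
    have h2 : ψ.app W (mu g L hW ((φ U).symm (ιMulti _ i v))) = res M hW (D U v) :=
      (res_app ψ hW _).trans (congrArg (res M hW) h1)
    refine h2.trans ((hnat hW _).trans (congrArg (u W) (congrArg _ (funext fun k => ?_))))
    exact (hν (le_refl U.1) hW (le_refl (g ⁻¹ᵁ U.1)) hW (v k)).symm.trans (congrArg (ν hW) (res_self _ _))
  have hbij : ∀ (A : X.affineOpens) (W : T.affineOpens) (hW : W.1 ≤ g ⁻¹ᵁ A.1),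
      Function.Bijective (ψ.app W.1) := by
    intro A W hW
    letI : Algebra Γ(X, A.1) Γ(T, W.1) := (g.appLE A.1 W.1 hW).hom.toAlgebra
    letI (P : T.Modules) : Module Γ(X, A.1) Γ(P, W.1) := Module.compHom _ (g.appLE A.1 W.1 hW).hom
    haveI (P : T.Modules) : IsScalarTower Γ(X, A.1) Γ(T, W.1) Γ(P, W.1) :=
      IsScalarTower.of_algebraMap_smul fun _ _ => rfl
    let eW : Γ((Scheme.Modules.pullback g).obj E, W.1) ≃ₗ[Γ(T, W.1)] Γ(E', W.1) :=
      { toFun := fun x => e.hom.app W.1 x
        invFun := fun x => e.inv.app W.1 x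
        map_add' := fun a b => map_add _ _ _
        map_smul' := fun r a => Scheme.Modules.Hom.app_smul e.hom r a
        left_inv := fun x => by
          show (e.hom ≫ e.inv).app W.1 x = x
          rw [e.hom_inv_id]; rfl
        right_inv := fun x => by
          show (e.inv ≫ e.hom).app W.1 x = x
          rw [e.inv_hom_id]; rfl }
    let lE : Γ(E, A.1) →ₗ[Γ(X, A.1)] Γ(E', W.1) :=
      { toFun := ν hW, map_add' := map_add _, map_smul' := fun r a => (ν hW).map_smulₛₗ r a }
    have hlE : IsBaseChange Γ(T, W.1) lE :=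
      (isBaseChange_mu g E A.2 W.2 hW).comp (IsBaseChange.ofEquiv eW)
    let eM := LinearEquiv.ofBijective (u W.1) (FundLocal.ShAffine.bijective hu W.2)
    have hbL := isBaseChange_mu g L A.2 W.2 hW
    have hc' := isBaseChange_congr (DeRhamAlg.BaseChange.isBaseChange_semimap lE hlE i) (φ A) eM
    let ψW : Γ((Scheme.Modules.pullback g).obj L, W.1) →ₗ[Γ(T, W.1)] Γ(M, W.1) :=
      { toFun := ψ.app W.1, map_add' := map_add _, map_smul' := Scheme.Modules.Hom.app_smul ψ }
    refine bijective_of_isBaseChange hbL hc' ψW fun l => ?_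
    obtain ⟨t, rfl⟩ := (φ A).symm.surjective l
    induction t using FundLocal.ExtPowExists.gen_induction with
    | gen v =>
      refine (hψ A v W.1 hW).trans ?_
      show _ = eM (DeRhamAlg.Basic.semimap (B := Γ(T, W.1)) lE i ((φ A) ((φ A).symm _)))
      rw [LinearEquiv.apply_symm_apply, DeRhamAlg.Basic.semimap_ιMulti]
      rfl
    | zero => simp only [map_zero]
    | add a b ha hb => simp only [map_add, ha, hb]
    | smul r b hb =>
      rw [map_smul (φ A).symm, LinearMap.map_smul, LinearMap.map_smul, ← hb]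
      exact LinearMap.map_smul_of_tower ψW r _
  have key : ∀ x : T, ∀ U : T.Opens, x ∈ U → ∃ V ≤ U, x ∈ V ∧ Function.Bijective (ψ.app V) := by
    intro x U hx
    obtain ⟨A, -, hA⟩ := ClSub.Basis.exists_affine_le (X := X) (U := ⊤) (x := g.base x) trivial
    obtain ⟨W, hW, hxW⟩ := ClSub.Basis.exists_affine_le (X := T) (U := U ⊓ g ⁻¹ᵁ A.1) (x := x) ⟨hx, hA⟩
    exact ⟨W.1, hW.trans inf_le_left, hxW, hbij A W (hW.trans inf_le_right)⟩
  haveI : Epi ψ := (Modules.Stalk.epi_iff_stalk_surjective _).mpr fun x =>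
    ClSub.Basis.stalk_surjective_of_basis ψ x fun U hx => (key x U hx).imp fun V h => ⟨h.1, h.2.1, h.2.2.2⟩
  haveI : Mono ψ := (Modules.Stalk.mono_iff_stalk_injective _).mpr fun x =>
    ClSub.Basis.stalk_injective_of_basis ψ x fun U hx => (key x U hx).imp fun V h => ⟨h.1, h.2.1, h.2.2.1⟩
  haveI : IsIso ψ := isIso_of_mono_of_epi ψ
  let eψ : ∀ V : T.affineOpens, Γ((Scheme.Modules.pullback g).obj L, V.1) ≃ₗ[Γ(T, V.1)] Γ(M, V.1) := fun V =>
    { toFun := fun x => ψ.app V.1 x
      invFun := fun x => (inv ψ).app V.1 x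
      map_add' := fun a b => map_add _ _ _
      map_smul' := fun r a => Scheme.Modules.Hom.app_smul ψ r a
      left_inv := fun x => by
        show (ψ ≫ inv ψ).app V.1 x = x
        rw [IsIso.hom_inv_id]; rfl
      right_inv := fun x => by
        show (inv ψ ≫ ψ).app V.1 x = x
        rw [IsIso.inv_hom_id]; rfl }
  refine ⟨fun V => eψ V ≪≫ₗ (LinearEquiv.ofBijective (u V.1) (FundLocal.ShAffine.bijective hu V.2)).symm,
    fun U V h v => ?_⟩
  exact (res_app (inv ψ) h _).symm.trans (congrArg ((inv ψ).app V.1) (hnat h v))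

end

end Groth.Agent.H95.ExtPowPullQ
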