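import Groth.Prelude.Def_Canon
import Groth.Agent.S7772
import Groth.Agent.S9372
import Groth.Agent.H95.ExtPowPullQ
import Groth.Agent.Lib.FundLocal.ExtPowExists
import Groth.Agent.Lib.Kaehler.BaseChange
import Groth.Agent.Lib.TensorMod.Invertible

/-!
# The canonical sheaf on the smooth locus
-/

set_option autoImplicit false
universe u

open CategoryTheory CategoryTheory.Limits AlgebraicGeometry Opposite
open Groth.Agent.Lib

namespace Groth.Agent.H95.TopDiffOpen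

/-- Being an exterior power only depends on the isomorphism class. -/
theorem isExtPow_of_iso {X : Scheme.{u}} {i : ℕ} {E L L' : X.Modules} (hL : ExtPow.IsExtPow i E L)
    (e : L' ≅ L) : ExtPow.IsExtPow i E L' := by
  obtain ⟨φ, hφ⟩ := hL
  haveI : ∀ U, IsIso (e.hom.app U) := fun U =>
    ⟨e.inv.app U, by rw [← Scheme.Modules.Hom.comp_app, e.hom_inv_id]; rfl,
      by rw [← Scheme.Modules.Hom.comp_app, e.inv_hom_id]; rfl⟩
  let ε : ∀ U : X.Opens, Γ(L', U) ≃ₗ[Γ(X, U)] Γ(L, U) := fun U => LinearEquiv.ofBijective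
    ({ toFun := fun x => e.hom.app U x
       map_add' := fun a b => map_add (e.hom.app U).hom a b
       map_smul' := fun a x => Scheme.Modules.Hom.app_smul e.hom a x } : Γ(L', U) →ₗ[Γ(X, U)] Γ(L, U))
    (ConcreteCategory.bijective_of_isIso (e.hom.app U))
  refine ⟨fun U => (ε U.1).trans (φ U), fun U V h v => ?_⟩
  apply (ε V.1).injective
  refine Eq.trans ?_ ((ε V.1).apply_symm_apply _).symm
  refine Eq.trans ?_ (hφ U V h v)
  refine Eq.trans (ClSub.Basis.map_app e.hom h _) ?_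
  exact congrArg (L.val.map (homOfLE h).op) ((ε U.1).apply_symm_apply _)

/-- On the empty scheme everything is an exterior power of everything. -/
theorem isExtPow_of_isEmpty {X : Scheme.{u}} [IsEmpty X] (i : ℕ) (E L : X.Modules) :
    ExtPow.IsExtPow i E L := by
  haveI : ∀ U : X.Opens, Subsingleton Γ(X, U) := fun U => by
    obtain rfl : U = ⊥ := TopologicalSpace.Opens.ext (Set.ext fun x => isEmptyElim x)
    exact CommRingCat.subsingleton_of_isTerminal X.sheaf.isTerminalOfEmpty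
  haveI : ∀ U : X.Opens, Subsingleton (L.val.obj (op U)) := fun U =>
    show Subsingleton Γ(L, U) from Module.subsingleton Γ(X, U) _
  haveI : ∀ U : X.Opens, Subsingleton ↥(⋀[Γ(X, U)]^i (E.val.obj (op U))) :=
    fun U => Module.subsingleton Γ(X, U) _
  exact ⟨fun U => LinearEquiv.ofSubsingleton _ _, fun U V h v => (inferInstance : Subsingleton (L.val.obj (op V.1))).elim _ _⟩

variable {X Y Z : Scheme.{u}}

/-- An immersion is closed over its coborder. -/
theorem closed_restrict_coborderRange (i : X ⟶ Z) [IsImmersion i] :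
    IsClosedImmersion (i ∣_ i.coborderRange) := by
  have h1 : IsPullback (𝟙 X) i.liftCoborder i i.coborderRange.ι :=
    ⟨⟨by rw [Category.id_comp, i.liftCoborder_ι]⟩, ⟨Limits.PullbackCone.IsLimit.mk _
      (fun s => s.fst) (fun s => Category.comp_id _)
      (fun s => (cancel_mono i.coborderRange.ι).1 (by
        rw [Category.assoc, i.liftCoborder_ι, s.condition]))
      (fun s m hm _ => by simpa using hm)⟩⟩
  let e := IsPullback.isoIsPullback _ _ (isPullback_morphismRestrict i i.coborderRange).flip h1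
  have he : i ∣_ i.coborderRange = e.hom ≫ i.liftCoborder :=
    (IsPullback.isoIsPullback_hom_snd _ _ (isPullback_morphismRestrict i i.coborderRange).flip h1).symm
  rw [he]
  exact (MorphismProperty.cancel_left_of_respectsIso @IsClosedImmersion e.hom i.liftCoborder).2 inferInstance

/-- The codimension is the rank of the conormal sheaf of the restriction. -/
theorem codim_eq (i : X ⟶ Z) {c a : ℕ} (hi : RegImm.IsRegularImmersionOfCodim .regular c i) (W : Z.Opens)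
    [IsClosedImmersion (i ∣_ W)] (hC : FlatMod.IsFinLocFreeOfRank a (Omega.conormal (i ∣_ W)))
    (v : ↥(i ⁻¹ᵁ W)) : c = a := by
  obtain ⟨⟨U₀, hU₀⟩, hz, hcl, rs, hlen, ⟨hreg, -⟩, hker⟩ := hi.2 v.1
  subst hlen
  obtain ⟨g, hgW, hzg⟩ := hU₀.exists_basicOpen_le (V := W) ⟨i v.1, v.2⟩ hz
  haveI := hU₀.isLocalization_basicOpen g
  haveI : Module.Flat Γ(Z, U₀) Γ(Z, Z.basicOpen g) := IsLocalization.flat _ (Submonoid.powers g)
  let D := Z.basicOpen g
  let r : Γ(Z, U₀) →+* Γ(Z, D) := algebraMap Γ(Z, U₀) Γ(Z, Z.basicOpen g)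
  have hkerD : RingHom.ker (i.app D).hom = Ideal.span (Set.range (r ∘ rs.get)) := by
    rw [Synt92.KRImm.ker_app_basicOpen i hU₀ hcl g, hker, Ideal.ofList, Ideal.map_span, Set.range_comp,
      Set.range_list_get]
    rfl
  have hregD : RingTheory.Sequence.IsWeaklyRegular Γ(Z, D) (List.ofFn (r ∘ rs.get)) := by
    rw [← List.map_ofFn, List.ofFn_get]
    exact RingTheory.Sequence.IsWeaklyRegular.of_flat hreg
  haveI hiso : IsIso (W.ι.app D) := Scheme.Hom.isIso_app W.ι D (by rwa [W.opensRange_ι])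
  haveI : IsIso ((i ⁻¹ᵁ W).ι.app (i ⁻¹ᵁ D)) :=
    Scheme.Hom.isIso_app _ _ (by rw [Scheme.Opens.opensRange_ι]; exact i.preimage_mono hgW)
  let τ : Γ(Z, D) ≃+* Γ(W, W.ι ⁻¹ᵁ D) := (asIso (W.ι.app D)).commRingCatIsoToRingEquiv
  have hτ : ∀ x, τ x = W.ι.app D x := fun x => rfl
  have hD' : IsAffineOpen (W.ι ⁻¹ᵁ D) :=
    (hU₀.basicOpen g).preimage_of_isOpenImmersion W.ι (by rwa [W.opensRange_ι])
  have hspan : RingHom.ker ((i ∣_ W).app (W.ι ⁻¹ᵁ D)).hom =
      Ideal.span (Set.range fun k => τ (r (rs.get k))) := by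
    rw [show (fun k => τ (r (rs.get k))) = τ.toRingHom ∘ (r ∘ rs.get) from rfl, Set.range_comp,
      ← Ideal.map_span, ← hkerD]
    have hw : (i ∣_ W) ≫ W.ι = (i ⁻¹ᵁ W).ι ≫ i := (isPullback_morphismRestrict i W).w
    have key : ∀ x, (i ∣_ W).app (W.ι ⁻¹ᵁ D) (W.ι.app D x) = 0 ↔ i.app D x = 0 := fun x => by
      have h := congr($(Scheme.Hom.congr_app hw D) x)
      rw [Scheme.Hom.comp_app, Scheme.Hom.comp_app] at h
      erw [CategoryTheory.comp_apply, CategoryTheory.comp_apply, CategoryTheory.comp_apply] at h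
      rw [show ((i ∣_ W).app (W.ι ⁻¹ᵁ D)) (W.ι.app D x) = _ from h]
      have hinj : Function.Injective ((i ⁻¹ᵁ W).toScheme.presheaf.map
          (eqToHom (by rw [← Scheme.Hom.comp_preimage, ← Scheme.Hom.comp_preimage, hw])).op :
          Γ((i ⁻¹ᵁ W).toScheme, (i ⁻¹ᵁ W).ι ⁻¹ᵁ i ⁻¹ᵁ D) ⟶ Γ((i ⁻¹ᵁ W).toScheme, (i ∣_ W) ⁻¹ᵁ W.ι ⁻¹ᵁ D)) :=
        (ConcreteCategory.bijective_of_isIso _).1
      erw [CategoryTheory.comp_apply, CategoryTheory.comp_apply]
      exact (map_eq_zero_iff _ hinj).trans (map_eq_zero_iff _ (ConcreteCategory.bijective_of_isIso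
        ((i ⁻¹ᵁ W).ι.app (i ⁻¹ᵁ D))).1)
    ext y
    obtain ⟨x, rfl⟩ := τ.surjective y
    rw [RingHom.mem_ker, hτ]
    refine Iff.trans (key x) ⟨fun h => Ideal.mem_map_of_mem _ (RingHom.mem_ker.2 h), fun h => ?_⟩
    obtain ⟨x', hx', he⟩ := (Ideal.mem_map_iff_of_surjective τ.toRingHom τ.surjective).1 h
    obtain rfl : x' = x := τ.injective he
    exact hx'
  have hreg' : RingTheory.Sequence.IsWeaklyRegular Γ(W, W.ι ⁻¹ᵁ D) (List.ofFn fun k => τ (r (rs.get k))) := by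
    refine (τ.toAddEquiv.isWeaklyRegular_congr ?_).1 hregD
    rw [show (List.ofFn fun k => τ (r (rs.get k))) = (List.ofFn (r ∘ rs.get)).map τ from
      (List.map_ofFn ..).symm, List.forall₂_map_right_iff, List.forall₂_same]
    intro a _ x
    change τ (a * x) = τ a * τ x
    exact map_mul τ a x
  obtain ⟨U₁, hv₁, ⟨i₁⟩⟩ := hC v
  refine FundLocal.Rank.length_eq (i ∣_ W) hD' _ hreg' hspan ?_ i₁ hv₁
  show W.ι ((i ∣_ W) v) ∈ D
  have h := morphismRestrict_base_coe i W v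
  show ((i ∣_ W) v).1 ∈ D
  rw [h]
  exact hzg

/-- The canonical sheaf of a factorisation restricts to the top differentials on the smooth locus. -/
theorem isTopDiff_restrict (i : X ⟶ Z) (g : Z ⟶ Y) (c n : ℕ)
    (hi : RegImm.IsRegularImmersionOfCodim .regular c i) [SmoothOfRelativeDimension n g]
    [QuasiCompact i] [QuasiSeparated g] (ω : X.Modules) (hω : Canon.IsCanonicalVia i g c n ω)
    (W : Z.Opens) [IsClosedImmersion (i ∣_ W)] (d : ℕ)
    [SmoothOfRelativeDimension d ((i ∣_ W) ≫ W.ι ≫ g)] [QuasiSeparated ((i ∣_ W) ≫ W.ι ≫ g)] :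
    Canon.IsTopDiff ((i ∣_ W) ≫ W.ι ≫ g) d ((Scheme.Modules.pullback (i ⁻¹ᵁ W).ι).obj ω) := by
  rcases isEmpty_or_nonempty ↥(i ⁻¹ᵁ W).toScheme with hV | ⟨⟨v⟩⟩
  · exact isExtPow_of_isEmpty _ _ _
  obtain ⟨DC, DΩ, hDC, hDΩ, ⟨e⟩⟩ := hω
  haveI : IsImmersion i := hi.1
  haveI : SmoothOfRelativeDimension n (W.ι ≫ g) := by
    have h : SmoothOfRelativeDimension (0 + n) (W.ι ≫ g) := inferInstance
    rwa [zero_add] at h
  haveI : Smooth (W.ι ≫ g) := SmoothOfRelativeDimension.smooth n (W.ι ≫ g)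
  set j := i ∣_ W with hj
  obtain ⟨φ, cc, w, hT, hC, h2⟩ := S7772.exists_seq (W.ι ≫ g) j n d
  have hdn : d ≤ n := by
    obtain ⟨U₁, hy₁, ⟨i₁⟩⟩ := hC v
    obtain ⟨U₂, hy₂, ⟨i₂⟩⟩ := h2 v
    obtain ⟨U₃, hy₃, ⟨i₃⟩⟩ := FundLocal.Rank.isFinLocFreeOfRank_omega (j ≫ W.ι ≫ g) d v
    have := Conormal92.SmoothRank.rank_eq_add (ShortComplex.mk φ cc w) hT i₁ i₂ i₃ hy₁ hy₂ hy₃
    omega
  obtain rfl : c = n - d := codim_eq i hi W hC v
  have hG := Kaehler.DOmega.isUniversal_dOmega g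
  obtain ⟨α, hα, -⟩ := Kaehler.Basic.existsUnique_diffCompat (h := W.ι) (b := 𝟙 Y)
    (Category.comp_id (W.ι ≫ g)) hG (OmegaSh.dOmega (W.ι ≫ g))
  haveI : IsIso α := Kaehler.BaseChange.isIso_of_etale (Category.comp_id (W.ι ≫ g)) hG
    (Kaehler.DOmega.isUniversal_dOmega (W.ι ≫ g)) α hα
  haveI : (Omega.sheaf g).IsQuasicoherent := Kaehler.Finite.isQuasicoherent hG
  have hΩW := ExtPowPullQ.isExtPow_pullback W.ι hDΩ (asIso α)
  have hsq : IsPullback j (i ⁻¹ᵁ W).ι W.ι i := isPullback_morphismRestrict i W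
  obtain ⟨ψ, hψ, -⟩ := Kaehler.Conormal.existsUnique_conormalMap (i := j) (i' := i) (g := W.ι)
    (gZ := (i ⁻¹ᵁ W).ι) hsq.w.symm
  haveI : IsIso ψ := (S9372.result j i W.ι (i ⁻¹ᵁ W).ι hsq ψ hψ).2 inferInstance
  haveI := Conormal92.Affine.isQCoh_conormal i
  have hCV := ExtPowPullQ.isExtPow_pullback (i ⁻¹ᵁ W).ι hDC (asIso ψ)
  haveI : (Omega.sheaf (j ≫ W.ι ≫ g)).IsQuasicoherent :=
    Kaehler.Finite.isQuasicoherent (Kaehler.DOmega.isUniversal_dOmega (j ≫ W.ι ≫ g))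
  obtain ⟨ωV, hωV⟩ := FundLocal.ExtPowExists.exists_isExtPow (E := Omega.sheaf (j ≫ W.ι ≫ g)) d
  obtain ⟨-, ⟨e'⟩⟩ := S7772.result Y W (i ⁻¹ᵁ W).toScheme (W.ι ≫ g) (j ≫ W.ι ≫ g) n d hdn j rfl
    _ hΩW ωV hωV _ hCV
  obtain ⟨A⟩ := Cyc.CH.nonempty_detAtlas_of_isExtPow hC hCV
  have hinv := A.isInvertible
  refine isExtPow_of_iso hωV (TensorMod.Invertible.cancelRight hinv ?_)
  exact (TensorMod.Pullback.pullbackTensorIso (i ⁻¹ᵁ W).ι ω DC).symm ≪≫
    (Scheme.Modules.pullback (i ⁻¹ᵁ W).ι).mapIso e ≪≫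
    (Scheme.Modules.pullbackComp (i ⁻¹ᵁ W).ι i).app DΩ ≪≫
    (Scheme.Modules.pullbackCongr hsq.w.symm).app DΩ ≪≫
    ((Scheme.Modules.pullbackComp j W.ι).app DΩ).symm ≪≫ e'

end Groth.Agent.H95.TopDiffOpen
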