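import Groth.Prelude.Def_Canon
import Groth.Agent.H95.TopDiffOpen
import Groth.Agent.Lib.Conormal92.ThirdFact
import Groth.Agent.Lib.Conormal92.Koszul
import Groth.Agent.S15821

/-!
# Independence of the canonical sheaf of the factorisation
-/

set_option autoImplicit false
set_option linter.style.haveILetI false
universe u

open CategoryTheory CategoryTheory.Limits AlgebraicGeometry Opposite
open Groth.Agent.Lib

namespace Groth.Agent.H95.CanonicalIndep

variable {X Y Z Z' : Scheme.{u}}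

/-- The conormal sheaf of a regular immersion of codimension `c` is locally free of rank `c`. -/
theorem isFinLocFreeOfRank_conormal (i : X ⟶ Z) [QuasiCompact i] {c : ℕ}
    (hi : RegImm.IsRegularImmersionOfCodim .regular c i) :
    FlatMod.IsFinLocFreeOfRank c (Omega.conormal i) := by
  haveI : IsImmersion i := hi.1
  have hk : RegImm.IsRegularImmersion .koszul i := ⟨hi.1, fun z => by
    obtain ⟨U, hz, hcl, rs, -, ⟨hreg, -⟩, hker⟩ := hi.2 z
    exact ⟨U, hz, hcl, rs, (Groth.Agent.S15821.result _ _ hreg).1, hker⟩⟩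
  intro x
  obtain ⟨U₁, a, hxU, ⟨i₁⟩⟩ := Conormal92.Koszul.isFinLocFree hk x
  obtain ⟨O, hO, hOU⟩ := i.isEmbedding.isInducing.isOpen_iff.1 U₁.isOpen
  let W : Z.Opens := ⟨O, hO⟩ ⊓ i.coborderRange
  haveI : IsClosedImmersion (i ∣_ W) := Synt92.KRImm.closed_of_le i inf_le_right
    (TopDiffOpen.closed_restrict_coborderRange i)
  have hxW : x ∈ i ⁻¹ᵁ W := ⟨(Set.ext_iff.1 hOU x).2 hxU, subset_coborder ⟨x, rfl⟩⟩
  have hsq : IsPullback (i ∣_ W) (i ⁻¹ᵁ W).ι W.ι i := isPullback_morphismRestrict i W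
  obtain ⟨ψ, hψ, -⟩ := Kaehler.Conormal.existsUnique_conormalMap (i := i ∣_ W) (i' := i) (g := W.ι)
    (gZ := (i ⁻¹ᵁ W).ι) hsq.w.symm
  haveI : IsIso ψ := (S9372.result (i ∣_ W) i W.ι (i ⁻¹ᵁ W).ι hsq ψ hψ).2 inferInstance
  have hrank : FlatMod.IsFinLocFreeOfRank a (Omega.conormal (i ∣_ W)) := fun v => by
    obtain ⟨e⟩ : Nonempty (((Scheme.Modules.pullback (i ⁻¹ᵁ W).ι).obj (Omega.conormal i)).restrict
        ((i ⁻¹ᵁ W).ι ⁻¹ᵁ U₁).ι ≅ FlatMod.freeMod (↑((i ⁻¹ᵁ W).ι ⁻¹ᵁ U₁)) a) :=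
      ⟨(TensorMod.LocFree.pullback_iso_of_restrict_iso (i ⁻¹ᵁ W).ι i₁).some⟩
    exact ⟨(i ⁻¹ᵁ W).ι ⁻¹ᵁ U₁, show v.1 ∈ U₁ from (Set.ext_iff.1 hOU v.1).1 v.2.1,
      ⟨(Scheme.Modules.restrictFunctor _).mapIso (asIso ψ).symm ≪≫ e⟩⟩
  obtain rfl : c = a := TopDiffOpen.codim_eq i hi W hrank ⟨x, hxW⟩
  exact ⟨U₁, hxU, ⟨i₁⟩⟩

/-- The differentials of the first projection are those of the second factor. -/
theorem nonempty_proj_iso (g : Z ⟶ Y) (g' : Z' ⟶ Y) [Smooth g] [Smooth g'] [QuasiSeparated g]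
    [QuasiSeparated g'] :
    Nonempty ((Scheme.Modules.pullback (pullback.snd g g')).obj (Omega.sheaf g') ≅
        Omega.sheaf (pullback.fst g g')) ∧
      Nonempty ((Scheme.Modules.pullback (pullback.fst g g')).obj (Omega.sheaf g) ≅
        Omega.sheaf (pullback.snd g g')) := by
  constructor
  · obtain ⟨c, hc, -⟩ := Kaehler.Basic.existsUnique_diffCompat (h := pullback.snd g g') (b := g)
      (hsq := pullback.condition) (Kaehler.DOmega.isUniversal_dOmega g') (OmegaSh.dOmega (pullback.fst g g'))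
    haveI := Kaehler.BaseChange.isIso_of_isPullback (IsPullback.of_hasPullback g g').flip
      (Kaehler.DOmega.isUniversal_dOmega g') (Kaehler.DOmega.isUniversal_dOmega (pullback.fst g g')) c hc
    exact ⟨asIso c⟩
  · obtain ⟨c, hc, -⟩ := Kaehler.Basic.existsUnique_diffCompat (h := pullback.fst g g') (b := g')
      (hsq := pullback.condition.symm) (Kaehler.DOmega.isUniversal_dOmega g) (OmegaSh.dOmega (pullback.snd g g'))
    haveI := Kaehler.BaseChange.isIso_of_isPullback (IsPullback.of_hasPullback g g')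
      (Kaehler.DOmega.isUniversal_dOmega g) (Kaehler.DOmega.isUniversal_dOmega (pullback.snd g g')) c hc
    exact ⟨asIso c⟩

/-- One half of the comparison: the determinant of the conormal sheaf of the common factorisation. -/
theorem nonempty_detAtlas_half {W : Scheme.{u}} (p : W ⟶ Z) [Smooth p] [QuasiSeparated p] (q : W ⟶ Z')
    (i : X ⟶ Z) (i' : X ⟶ Z') (j : X ⟶ W) [IsImmersion i] [IsImmersion j] [QuasiCompact i] [QuasiCompact j]
    (hp : j ≫ p = i) (hq : j ≫ q = i') (g' : Z' ⟶ Y) {c m : ℕ} [SmoothOfRelativeDimension m g']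
    [QuasiSeparated g'] (e : (Scheme.Modules.pullback q).obj (Omega.sheaf g') ≅ Omega.sheaf p)
    (hC : FlatMod.IsFinLocFreeOfRank c (Omega.conormal i)) {DC : X.Modules} {DΩ : Z'.Modules}
    (hDC : ExtPow.IsExtPow c (Omega.conormal i) DC) (hDΩ : ExtPow.IsExtPow m (Omega.sheaf g') DΩ) :
    Nonempty (Cyc.CH.DetAtlas (c + m) (Omega.conormal j)
      (CohB1.tensorMod DC ((Scheme.Modules.pullback i').obj DΩ))) := by
  obtain ⟨S, hS, ⟨a⟩, ⟨b⟩, ⟨c'⟩⟩ := Conormal92.ThirdFact.exists_extension p i j hp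
    (Kaehler.DOmega.isUniversal_dOmega p)
  let γ : S.X₃ ≅ (Scheme.Modules.pullback i').obj (Omega.sheaf g') :=
    c' ≪≫ (Scheme.Modules.pullback j).mapIso e.symm ≪≫ (Scheme.Modules.pullbackComp j q).app _ ≪≫
      (Scheme.Modules.pullbackCongr hq).app _
  let T := ShortComplex.mk (a.inv ≫ S.f ≫ b.hom) (b.inv ≫ S.g ≫ γ.hom) (by simp)
  have hT : T.ShortExact :=
    ShortComplex.shortExact_of_iso (ShortComplex.isoMk a b γ (by simp [T]) (by simp [T]) : S ≅ T) hS
  haveI : Smooth g' := SmoothOfRelativeDimension.smooth m g'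
  haveI : (Omega.sheaf g').IsQuasicoherent :=
    Kaehler.Finite.isQuasicoherent (Kaehler.DOmega.isUniversal_dOmega g')
  have h3 : FlatMod.IsFinLocFreeOfRank m ((Scheme.Modules.pullback i').obj (Omega.sheaf g')) := fun y => by
    obtain ⟨U, hU, ⟨ε⟩⟩ := FundLocal.Rank.isFinLocFreeOfRank_omega g' m (i' y)
    exact ⟨i' ⁻¹ᵁ U, hU, TensorMod.LocFree.pullback_iso_of_restrict_iso i' ε⟩
  obtain ⟨A⟩ := Cyc.CH.nonempty_detAtlas_of_isExtPow hC hDC
  obtain ⟨B⟩ := Cyc.CH.nonempty_detAtlas_of_isExtPow h3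
    (ExtPowPullQ.isExtPow_pullback i' hDΩ (Iso.refl _))
  exact FundLocal.DetSES.nonempty_detAtlas hT rfl A B

/-- The rank of determinant charts is unique. -/
theorem nonempty_detAtlas_congr {r r' : ℕ} {M L L' : X.Modules} (A : Cyc.CH.DetAtlas r M L)
    (B : Cyc.CH.DetAtlas r' M L') : Nonempty (Cyc.CH.DetAtlas r' M L) := by
  rcases isEmpty_or_nonempty X with hX | ⟨⟨x⟩⟩
  · exact ⟨{ U := fun x => isEmptyElim x, mem := fun x => isEmptyElim x, e := fun x => isEmptyElim x,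
             g := fun x => isEmptyElim x, b := fun x => isEmptyElim x, hb := fun x => isEmptyElim x,
             gen := fun x => isEmptyElim x, trans := fun x => isEmptyElim x }⟩
  · have h1 := Module.finrank_eq_card_basis (A.b x x (A.mem x))
    have h2 := Module.finrank_eq_card_basis (B.b x x (B.mem x))
    rw [h1, Fintype.card_fin, Fintype.card_fin] at h2
    exact h2 ▸ ⟨A⟩

/-- The canonical sheaves computed through two factorisations are isomorphic. -/
theorem nonempty_iso_of_rank {f : X ⟶ Y} (i : X ⟶ Z) (g : Z ⟶ Y) (i' : X ⟶ Z') (g' : Z' ⟶ Y)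
    [QuasiCompact i] [QuasiCompact i'] [QuasiSeparated g] [QuasiSeparated g'] (h : i ≫ g = f)
    (h' : i' ≫ g' = f) [IsImmersion i] [IsImmersion i'] {c n c' n' : ℕ}
    (hi : FlatMod.IsFinLocFreeOfRank c (Omega.conormal i))
    [SmoothOfRelativeDimension n g] (hi' : FlatMod.IsFinLocFreeOfRank c' (Omega.conormal i'))
    [SmoothOfRelativeDimension n' g'] {ω ω' : X.Modules} (hω : Canon.IsCanonicalVia i g c n ω)
    (hω' : Canon.IsCanonicalVia i' g' c' n' ω') : Nonempty (ω ≅ ω') := by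
  obtain ⟨DC, DΩ, hDC, hDΩ, ⟨e⟩⟩ := hω
  obtain ⟨DC', DΩ', hDC', hDΩ', ⟨e'⟩⟩ := hω'
  haveI : Smooth g := SmoothOfRelativeDimension.smooth n g
  haveI : Smooth g' := SmoothOfRelativeDimension.smooth n' g'
  let j : X ⟶ pullback g g' := pullback.lift i i' (h.trans h'.symm)
  have hp : j ≫ pullback.fst g g' = i := pullback.lift_fst _ _ _
  have hq : j ≫ pullback.snd g g' = i' := pullback.lift_snd _ _ _
  haveI : IsImmersion (j ≫ pullback.fst g g') := by rw [hp]; infer_instance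
  haveI : IsImmersion j := IsImmersion.of_comp j (pullback.fst g g')
  haveI : QuasiCompact (j ≫ pullback.fst g g') := by rw [hp]; infer_instance
  haveI : QuasiCompact j := QuasiCompact.of_comp j (pullback.fst g g')
  obtain ⟨⟨ε'⟩, ⟨ε⟩⟩ := nonempty_proj_iso g g'
  obtain ⟨A₀⟩ := nonempty_detAtlas_half (pullback.fst g g') (pullback.snd g g') i i' j hp hq g' ε'
    hi hDC hDΩ'
  obtain ⟨B⟩ := nonempty_detAtlas_half (pullback.snd g g') (pullback.fst g g') i' i j hq hp g ε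
    hi' hDC' hDΩ
  obtain ⟨A⟩ := nonempty_detAtlas_congr A₀ B
  obtain ⟨eD⟩ := A.nonempty_iso B
  refine ⟨TensorMod.Invertible.cancelRight A.isInvertible ?_⟩
  exact (TensorMod.Basic.assoc ω DC _).symm ≪≫ TensorMod.Basic.tensorIso e (Iso.refl _) ≪≫
    TensorMod.Basic.comm _ _ ≪≫ TensorMod.Basic.tensorIso e'.symm (Iso.refl _) ≪≫
    TensorMod.Basic.assoc ω' DC' _ ≪≫ TensorMod.Basic.tensorIso (Iso.refl _) eD.symm

/-- For regular immersions the rank hypothesis holds. -/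
theorem nonempty_iso {f : X ⟶ Y} (i : X ⟶ Z) (g : Z ⟶ Y) (i' : X ⟶ Z') (g' : Z' ⟶ Y)
    [QuasiCompact i] [QuasiCompact i'] [QuasiSeparated g] [QuasiSeparated g'] (h : i ≫ g = f)
    (h' : i' ≫ g' = f) {c n c' n' : ℕ} (hi : RegImm.IsRegularImmersionOfCodim .regular c i)
    [SmoothOfRelativeDimension n g] (hi' : RegImm.IsRegularImmersionOfCodim .regular c' i')
    [SmoothOfRelativeDimension n' g'] {ω ω' : X.Modules} (hω : Canon.IsCanonicalVia i g c n ω)
    (hω' : Canon.IsCanonicalVia i' g' c' n' ω') : Nonempty (ω ≅ ω') :=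
  haveI : IsImmersion i := hi.1
  haveI : IsImmersion i' := hi'.1
  nonempty_iso_of_rank i g i' g' h h' (isFinLocFreeOfRank_conormal i hi) (isFinLocFreeOfRank_conormal i' hi')
    hω hω'

end Groth.Agent.H95.CanonicalIndep
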