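import Groth.Agent.Lib.DerCat.Ghost
import Mathlib.CategoryTheory.ComposableArrows.Basic

/-!
# A chain of maps killing the lower cohomology factors through the top one
-/

universe w v u

open CategoryTheory CategoryTheory.Limits CategoryTheory.Pretriangulated DerivedCategory
open DerivedCategory.TStructure

namespace Groth.Agent.H95.ChainTop

open Groth.Agent.Lib.DerCat

variable {A : Type u} [Category.{v} A] [Abelian A] [HasDerivedCategory.{w} A]

/-- Each map killing the cohomology in the top degree lowers the truncation by one, so after `k`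
steps the composite from `τ_{<k}` into an object `≥ 0` vanishes. -/
lemma truncLT_comp_eq_zero (k : ℕ) {n : ℕ} (hn : k ≤ n)
    (K : ComposableArrows (DerivedCategory A) n)
    (hge : (K.obj' k).IsGE 0)
    (hf : ∀ (i : ℕ) (hi : i < n) (p : ℤ), p < (k : ℤ) →
      (homologyFunctor A p).map (K.map' i (i + 1)) = 0) :
    (t.truncLTι (k : ℤ)).app (K.obj' 0) ≫ K.map' 0 k = 0 := by
  suffices key : ∀ j (hj : j ≤ k), ∃ (T : DerivedCategory A) (_ : T.IsLE ((k : ℤ) - 1 - j))
      (a : (t.truncLT (k : ℤ)).obj (K.obj' 0) ⟶ T) (b : T ⟶ K.obj' j),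
      a ≫ b = (t.truncLTι (k : ℤ)).app (K.obj' 0) ≫ K.map' 0 j by
    obtain ⟨T, hT, a, b, hab⟩ := key k le_rfl
    rw [← hab, t.zero_of_isLE_of_isGE b ((k : ℤ) - 1 - k) 0 (by omega) hT hge, comp_zero]
  intro j
  induction j with
  | zero =>
    intro _
    refine ⟨_, ?_, 𝟙 _, (t.truncLTι (k : ℤ)).app (K.obj' 0), ?_⟩
    · simpa using (inferInstance : t.IsLE ((t.truncLT (k : ℤ)).obj (K.obj' 0)) ((k : ℤ) - 1))
    · rw [Category.id_comp, show K.map' 0 0 = 𝟙 _ from K.map'_self 0]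
      exact (Category.comp_id _).symm
  | succ j ih =>
    intro hj
    obtain ⟨T, hT, a, b, hab⟩ := ih (by omega)
    have := hT
    obtain ⟨g', hg'⟩ := Ghost.exists_lift_step (b ≫ K.map' j (j + 1)) ((k : ℤ) - 1 - j)
      (by rw [Functor.map_comp, hf j (by omega) _ (by omega), comp_zero])
    refine ⟨_, ?_, a ≫ g', (t.truncLTι ((k : ℤ) - 1 - j)).app _, ?_⟩
    · exact t.isLE_truncLT_obj _ _ _ (by omega)
    · rw [Category.assoc, hg', ← Category.assoc, hab, Category.assoc,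
        ← K.map'_comp 0 j (j + 1)]

theorem main (k : ℕ)
    (K : ComposableArrows (DerivedCategory A) (2 * k))
    (hK : ∀ (i : ℕ) (hi : i ≤ 2 * k) (p : ℤ), p < 0 ∨ (k : ℤ) < p →
      IsZero ((homologyFunctor A p).obj (K.obj' i)))
    (hf : ∀ (i : ℕ) (hi : i < 2 * k) (p : ℤ), p < (k : ℤ) →
      (homologyFunctor A p).map (K.map' i (i + 1)) = 0)
    (π : K.obj' 0 ⟶ (singleFunctor A (k : ℤ)).obj ((homologyFunctor A (k : ℤ)).obj (K.obj' 0)))
    (hπ : (homologyFunctor A (k : ℤ)).map π ≫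
      (singleFunctorCompHomologyFunctorIso A (k : ℤ)).hom.app
        ((homologyFunctor A (k : ℤ)).obj (K.obj' 0)) = 𝟙 _) :
    ∃ φ : (singleFunctor A (k : ℤ)).obj ((homologyFunctor A (k : ℤ)).obj (K.obj' 0)) ⟶
        K.obj' (2 * k),
      K.map' 0 (2 * k) = π ≫ φ := by
  have hge : (K.obj' k).IsGE 0 :=
    (isGE_iff _ _).2 fun p hp => hK k (by omega) p (Or.inl hp)
  have hle : (K.obj' 0).IsLE (k : ℤ) :=
    (isLE_iff _ _).2 fun p hp => hK 0 (by omega) p (Or.inr hp)
  have h0 := truncLT_comp_eq_zero k (by omega) K hge hf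
  obtain ⟨g, hg⟩ := Triangle.yoneda_exact₂ _ (t.triangleLTGE_distinguished (k : ℤ) (K.obj' 0))
    (K.map' 0 k) h0
  let e := t.descTruncGE π (k : ℤ)
  have he : (t.truncGEπ (k : ℤ)).app (K.obj' 0) ≫ e = π := t.π_descTruncGE π _
  have h1 : IsIso ((homologyFunctor A (k : ℤ)).map ((t.truncGEπ (k : ℤ)).app (K.obj' 0))) :=
    @TStruct.isIso_homologyMap_mor₂ _ _ _ _ _ (t.triangleLTGE_distinguished (k : ℤ) (K.obj' 0))
      ((k : ℤ) - 1) (inferInstance : t.IsLE ((t.truncLT (k : ℤ)).obj (K.obj' 0)) ((k : ℤ) - 1))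
      k (by omega)
  have h2 : IsIso ((homologyFunctor A (k : ℤ)).map π) :=
    IsIso.of_isIso_fac_right (h := 𝟙 _) hπ
  have h3 : IsIso ((homologyFunctor A (k : ℤ)).map e) := by
    rw [← he, Functor.map_comp] at h2
    exact IsIso.of_isIso_comp_left ((homologyFunctor A (k : ℤ)).map
      ((t.truncGEπ (k : ℤ)).app (K.obj' 0 (Nat.zero_le _)))) _
  have := Ghost.isLE_truncGE (X := K.obj' 0 (Nat.zero_le _)) (k : ℤ)
  have : IsIso e := by
    rw [DerivedCategory.isIso_iff]
    intro p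
    rcases lt_trichotomy p (k : ℤ) with hp | rfl | hp
    · exact IsZero.isIso (isZero_of_isGE _ (k : ℤ) p hp) (isZero_of_isGE _ (k : ℤ) p hp) _
    · exact h3
    · exact IsZero.isIso (isZero_of_isLE _ (k : ℤ) p hp) (isZero_of_isLE _ (k : ℤ) p hp) _
  refine ⟨inv e ≫ g ≫ K.map' k (2 * k), ?_⟩
  rw [← he, Category.assoc, IsIso.hom_inv_id_assoc]
  exact ((K.map'_comp 0 k (2 * k)).trans (congrArg (· ≫ _) hg)).trans (Category.assoc _ _ _)

end Groth.Agent.H95.ChainTop
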