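import Groth.Prelude.Def_DeRham2
import Groth.Agent.Lib.Kaehler.Finite
import Groth.Agent.Lib.Kaehler.DOmega
import Groth.Agent.Lib.Dim.Basic
import Groth.Agent.Lib.TensorMod.Gen
import Mathlib.RingTheory.Smooth.StandardSmoothCotangent
import Mathlib.RingTheory.RingHom.StandardSmooth
import Mathlib.RingTheory.Ideal.GoingDown
import Mathlib.AlgebraicGeometry.Morphisms.Smooth

/-!
For a smooth scheme of dimension `≤ n` over a field, `Ω^p = 0` for `p > n`.
-/

set_option autoImplicit false
universe u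
open CategoryTheory CategoryTheory.Limits AlgebraicGeometry TopologicalSpace Opposite
open Groth.Agent.Lib.TensorMod.Gen Groth.Agent.Lib.TensorMod.Dual

namespace Groth.Agent.H95.OmegaVanish

section Algebra

variable (K B : Type u) [Field K] [CommRing B] [Algebra K B]

/-- the relative dimension of a standard smooth algebra over a field is at most its dimension -/
theorem relDim_le [Nontrivial B] (m n : ℕ) [Algebra.IsStandardSmoothOfRelativeDimension m K B]
    (hd : ringKrullDim B ≤ n) : m ≤ n := by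
  obtain ⟨g, hg⟩ := Algebra.IsStandardSmoothOfRelativeDimension.exists_etale_mvPolynomial
    (n := m) K B
  haveI : Algebra.IsStandardSmooth K B :=
    Algebra.IsStandardSmoothOfRelativeDimension.isStandardSmooth m
  haveI : Algebra.FinitePresentation K B := inferInstance
  letI := g.toRingHom.toAlgebra
  haveI : Algebra.Etale (MvPolynomial (Fin m) K) B := hg
  haveI : Module.Flat (MvPolynomial (Fin m) K) B := inferInstance
  obtain ⟨p, hp⟩ := Ideal.nonempty_minimalPrimes (I := (⊥ : Ideal B)) bot_ne_top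
  haveI : p.IsPrime := hp.1.1
  have hu : p.under (MvPolynomial (Fin m) K) = ⊥ := by
    by_contra hne
    obtain ⟨P, hPle, hP, hPo⟩ := Algebra.HasGoingDown.exists_ideal_le_liesOver_of_lt
      (p := (⊥ : Ideal (MvPolynomial (Fin m) K))) p (bot_lt_iff_ne_bot.mpr hne)
    have heq : P = p := le_antisymm hPle (hp.2 ⟨hP, bot_le⟩ hPle)
    subst heq
    exact hne hPo.over.symm
  have hinj : Function.Injective ((Ideal.Quotient.mkₐ K p).comp g) := by
    rw [injective_iff_map_eq_zero]
    intro x hx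
    have h0 : Ideal.Quotient.mk p (g x) = 0 := hx
    have h1 : g x ∈ p := Ideal.Quotient.eq_zero_iff_mem.mp h0
    have : x ∈ p.under (MvPolynomial (Fin m) K) := h1
    rwa [hu, Ideal.mem_bot] at this
  have h1 := Lib.Dim.Basic.ringKrullDim_eq_trdegNat K (B ⧸ p)
  have h2 : m ≤ Lib.Dim.Basic.trdegNat K (B ⧸ p) := by
    have h3 := ((MvPolynomial.algebraicIndependent_X (Fin m) K).map' hinj).lift_cardinalMk_le_trdeg
    rw [Lib.Dim.Basic.trdeg_eq_trdegNat K] at h3
    simpa using h3
  have h4 : ringKrullDim (B ⧸ p) ≤ ringKrullDim B := ringKrullDim_quotient_le p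
  rw [h1] at h4
  exact h2.trans (by exact_mod_cast h4.trans hd)

/-- `Ω[B/K]` is spanned by `n` elements -/
theorem exists_span [Nontrivial B] [Algebra.IsStandardSmooth K B] (n : ℕ) (hd : ringKrullDim B ≤ n) :
    ∃ w : Fin n → Ω[B⁄K], Submodule.span B (Set.range w) = ⊤ := by
  obtain ⟨ι, σ, _, _, ⟨P⟩⟩ := ‹Algebra.IsStandardSmooth K B›.out
  haveI : Algebra.IsStandardSmoothOfRelativeDimension P.dimension K B :=
    P.isStandardSmoothOfRelativeDimension rfl
  have hle := relDim_le K B P.dimension n hd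
  have hr := Algebra.IsStandardSmoothOfRelativeDimension.rank_kaehlerDifferential
    (R := K) (S := B) P.dimension
  have hf : Module.finrank B (Ω[B⁄K]) = P.dimension := Module.finrank_eq_of_rank_eq hr
  let b : Module.Basis (Fin P.dimension) B (Ω[B⁄K]) := Module.finBasisOfFinrankEq B _ hf
  refine ⟨fun i => if h : i.1 < P.dimension then b ⟨i, h⟩ else 0, eq_top_iff.mpr ?_⟩
  rw [← b.span_eq]
  refine Submodule.span_mono ?_
  rintro _ ⟨j, rfl⟩
  exact ⟨⟨j, j.2.trans_le hle⟩, by simp⟩

end Algebra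

lemma subsingleton_extPower {R M : Type u} [CommRing R] [AddCommGroup M] [Module R M] {n p : ℕ}
    (w : Fin n → M) (hw : Submodule.span R (Set.range w) = ⊤) (hp : n < p) :
    Subsingleton (⋀[R]^p M) := by
  haveI : IsEmpty (Set.powersetCard (Fin n) p) := ⟨fun s => by
    have := s.1.card_le_univ
    rw [s.2, Fintype.card_fin] at this
    omega⟩
  refine (Submodule.subsingleton_iff R).mp (subsingleton_of_bot_eq_top ?_)
  rw [← exteriorPower.ιMulti_family_span_of_span R hw, Set.range_eq_empty, Submodule.span_empty]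

section Geometry

variable {X : Scheme.{u}} {k : Type u} [Field k] (f : X ⟶ Spec (CommRingCat.of k))

/-- generators of the sheaf from generators on a chart -/
lemma exists_span_of_iso {B : CommRingCat.{u}} {M : ModuleCat.{u} B} (Ω : X.Modules) (W : X.Opens)
    (j : Spec B ⟶ X) [IsOpenImmersion j] (hj : j ''ᵁ ⊤ = W)
    (i : Ω.restrict j ≅ tilde M) {n : ℕ} (w : Fin n → M) (hw : Submodule.span B (Set.range w) = ⊤) :
    ∃ e : Fin n → Γ(Ω, W), Submodule.span Γ(X, W) (Set.range e) = ⊤ := by
  subst hj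
  let t : M → Γ(Ω, j ''ᵁ ⊤) := fun x =>
    (Ω.restrictAppIso j ⊤).hom (i.inv.app ⊤ ((tilde.isoTop M).hom x))
  refine ⟨fun a => t (w a), eq_top_iff.mpr fun y _ => ?_⟩
  have ht : Function.Surjective t :=
    (ConcreteCategory.bijective_of_isIso (Ω.restrictAppIso j ⊤).hom).2.comp
      ((ConcreteCategory.bijective_of_isIso (i.inv.app ⊤)).2.comp
        (ConcreteCategory.bijective_of_isIso (tilde.isoTop M).hom).2)
  have hadd : ∀ x x', t (x + x') = t x + t x' := fun x x' => by
    simp only [t]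
    erw [map_add, map_add, map_add]
  have hzero : t 0 = 0 := by
    have := hadd 0 0
    rw [add_zero] at this
    exact left_eq_add.mp this
  have hsmul : ∀ (b : B) x, t (b • x) =
      (j.appIso ⊤).inv ((Scheme.ΓSpecIso B).inv b) • t x := fun b x => by
    let z : Γ(tilde M, ⊤) := (tilde.isoTop M).hom x
    have h1 : ((tilde.isoTop M).hom (b • x) : Γ(tilde M, ⊤)) = (Scheme.ΓSpecIso B).inv b • z := by
      refine ((tilde.isoTop M).hom.hom.map_smul b x).trans ?_
      rw [Lib.Kaehler.AffineUniv.top_smul, Iso.inv_hom_id_apply]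
      rfl
    exact ((congrArg (fun y => (Ω.restrictAppIso j ⊤).hom (i.inv.app ⊤ y)) h1).trans
      (congrArg (Ω.restrictAppIso j ⊤).hom (i.inv.app_smul _ z))).trans
      (restrict_smul j Ω _ _)
  obtain ⟨x, rfl⟩ := ht y
  have hx : x ∈ Submodule.span B (Set.range w) := hw ▸ Submodule.mem_top
  refine Submodule.span_induction ?_ ?_ ?_ ?_ hx
  · rintro _ ⟨a, rfl⟩
    exact Submodule.subset_span ⟨a, rfl⟩
  · rw [hzero]; exact Submodule.zero_mem _
  · intro a b _ _ ha hb
    rw [hadd]; exact Submodule.add_mem _ ha hb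
  · intro a b _ hb
    rw [hsmul]; exact Submodule.smul_mem _ _ hb

variable [Smooth f] (n : ℕ) (hn : topologicalKrullDim ↥X ≤ n)

include hn in
/-- small affine opens on which the differentials are spanned by `n` sections -/
lemma exists_chart_span [QuasiSeparated f] {x : X} {U₀ : X.Opens} (hx : x ∈ U₀) :
    ∃ (W : X.affineOpens) (e : Fin n → Γ(Omega.sheaf f, W.1)), x ∈ W.1 ∧ W.1 ≤ U₀ ∧
      Submodule.span Γ(X, W.1) (Set.range e) = ⊤ := by
  obtain ⟨U, hU, V, hV, hxV, e, hf⟩ := Smooth.exists_isStandardSmooth f x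
  obtain rfl : U = ⊤ := top_unique fun y _ => by
    haveI : Subsingleton (PrimeSpectrum k) := inferInstance
    exact (Subsingleton.elim (α := PrimeSpectrum k) y (f x)) ▸ e hxV
  obtain ⟨g, hgle, hxg⟩ := hV.exists_basicOpen_le ⟨x, hx⟩ hxV
  haveI := hV.isLocalization_basicOpen g
  have hW : IsAffineOpen (X.basicOpen g) := hV.basicOpen g
  have eW : X.basicOpen g ≤ f ⁻¹ᵁ ⊤ := le_top
  have hfW : (f.appLE ⊤ (X.basicOpen g) eW).hom.IsStandardSmooth := by
    rw [← Scheme.Hom.appLE_map f e (homOfLE (X.basicOpen_le g)).op, CommRingCat.hom_comp]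
    exact RingHom.isStandardSmooth_stableUnderComposition _ _ hf
      (RingHom.isStandardSmooth_holdsForLocalizationAway Γ(X, X.basicOpen g) g)
  haveI : Nonempty (X.basicOpen g : Scheme.{u}) := ⟨⟨x, hxg⟩⟩
  have hdim : ringKrullDim Γ(X, X.basicOpen g) ≤ n := by
    rw [← PrimeSpectrum.topologicalKrullDim_eq_ringKrullDim]
    exact (hW.fromSpec.isOpenEmbedding.isInducing.topologicalKrullDim_le).trans hn
  obtain ⟨i⟩ := Lib.Kaehler.Chart.nonempty_restrict_iso f hW (isAffineOpen_top _) eW
    (Lib.Kaehler.DOmega.isUniversal_dOmega f)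
  have hA : IsField Γ(Spec (CommRingCat.of k), ⊤) :=
    (Scheme.ΓSpecIso (CommRingCat.of k)).commRingCatIsoToRingEquiv.toMulEquiv.isField
      (Field.toIsField k)
  haveI : Nontrivial Γ(X, X.basicOpen g) := X.component_nontrivial (X.basicOpen g)
  letI := hA.toField
  letI := (f.appLE ⊤ (X.basicOpen g) eW).hom.toAlgebra
  haveI : Algebra.IsStandardSmooth Γ(Spec (CommRingCat.of k), ⊤) Γ(X, X.basicOpen g) := hfW
  obtain ⟨w, hw⟩ := exists_span Γ(Spec (CommRingCat.of k), ⊤) Γ(X, X.basicOpen g) n hdim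
  obtain ⟨e', he'⟩ := exists_span_of_iso (Omega.sheaf f) (X.basicOpen g) hW.fromSpec
    (by simp) i w hw
  exact ⟨⟨X.basicOpen g, hW⟩, e', hxg, hgle, he'⟩

include hn in
/-- `Ω^p = 0` above the dimension -/
theorem term_subsingleton [QuasiSeparated f] (D : DeRhamSh.OmegaCx f) {p : ℕ} (hp : n < p) (U : X.Opens) :
    Subsingleton Γ(D.term p, U) := by
  refine ⟨fun a b => TopCat.Presheaf.IsSheaf.section_ext (D.term p).isSheaf fun x hx => ?_⟩
  obtain ⟨W, e, hxW, hW, he⟩ := exists_chart_span f n hn hx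
  haveI := subsingleton_extPower e he hp
  haveI : Subsingleton Γ(D.term p, W.1) := (D.loc p W).toEquiv.subsingleton
  exact ⟨W.1, hW, hxW, Subsingleton.elim _ _⟩

end Geometry

end Groth.Agent.H95.OmegaVanish
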