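import Groth.Agent.H95.HyperVanish
import Groth.Agent.H95.ExtPowQCoh
import Groth.Agent.H95.OmegaVanish
import Groth.Agent.Lib.ZarCoh.Compare

/-!
Vanishing of de Rham cohomology above `n + r`.
-/

set_option autoImplicit false
universe u
open CategoryTheory CategoryTheory.Limits AlgebraicGeometry TopologicalSpace Opposite

namespace Groth.Agent.H95.DRVanish

variable {k : Type u} [Field k] {X : Scheme.{u}} (f : X ⟶ Spec (CommRingCat.of k))
  [QuasiSeparated f] [Smooth f]

lemma toAb_isZero (M : X.Modules) (h : ∀ U : X.Opens, Subsingleton Γ(M, U)) :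
    IsZero (Coh.toAb M) := by
  rw [IsZero.iff_id_eq_zero]
  ext U x
  exact @Subsingleton.elim _ (h U.unop) _ _

theorem hdR_subsingleton (n : ℕ) (hn : topologicalKrullDim ↥X ≤ n) (r : ℕ)
    (hcd : ∀ (F : X.Modules), Coh.IsQCoh F → ∀ q : ℕ, r ≤ q → Subsingleton (Coh.HH X F q))
    (D : DeRhamSh.OmegaCx f)
    [HasDerivedCategory.{u} (Sheaf (Opens.grothendieckTopology ↥X) AddCommGrpCat.{u})]
    (i : ℤ) (hi : (n : ℤ) + r ≤ i) :
    Subsingleton (DeRhamSh.HdR D i) := by
  haveI : (Omega.sheaf f).IsQuasicoherent :=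
    Lib.Kaehler.Finite.isQuasicoherent (Lib.Kaehler.DOmega.isUniversal_dOmega f)
  have hterm : ∀ p, (D.term p).IsQuasicoherent := fun p =>
    ExtPowQCoh.isQuasicoherent_of_loc p (D.loc p) (D.loc_res p)
  have hzero : ∀ j : ℤ, j < 0 ∨ 0 + ((n + 1 : ℕ) : ℤ) ≤ j → IsZero (D.KZ.X j) := by
    intro j hj
    by_cases h0 : j < 0
    · exact D.K.isZero_extend_X _ j fun p hp => by simp at hp; omega
    · obtain ⟨p, rfl⟩ : ∃ p : ℕ, (p : ℤ) = j := ⟨j.toNat, by omega⟩
      refine IsZero.of_iso ?_ (D.K.extendXIso ComplexShape.embeddingUpNat (i := p) rfl ≪≫ D.iso p)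
      exact toAb_isZero _ fun U => OmegaVanish.term_subsingleton f n hn D (by omega) U
  have hvan := HyperVanish.van_Q_of_bounded (A := CohCx.freeSheaf (Opens.grothendieckTopology X) ⊤)
    (i := i) (n + 1) 0 D.KZ hzero fun j q hj hj' hq => by
      obtain ⟨p, rfl⟩ : ∃ p : ℕ, (p : ℤ) = j := ⟨j.toNat, by omega⟩
      have h1 : Subsingleton (Coh.HH X (D.term p) q) := hcd _ (hterm p) q (by omega)
      have h2 : Subsingleton (Abelian.Ext.{u} (CohCx.freeSheaf (Opens.grothendieckTopology X) (⊤ : X.Opens))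
          (Coh.toAb (D.term p)) q) :=
        (Lib.ZarCoh.Compare.hTop (Coh.toAb (D.term p)) q).symm.toEquiv.subsingleton
      exact (HyperVanish.extEquivOfIso
        (D.K.extendXIso ComplexShape.embeddingUpNat (i := p) rfl ≪≫ D.iso p)).subsingleton
  exact ⟨fun a b => (hvan a).trans (hvan b).symm⟩

end Groth.Agent.H95.DRVanish
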