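import Groth.Agent.Lib.Flat55.FibreAffine
import Mathlib.AlgebraicGeometry.Morphisms.Flat
import Mathlib.AlgebraicGeometry.Morphisms.Proper
import Mathlib.AlgebraicGeometry.Noetherian
import Mathlib.RingTheory.DiscreteValuationRing.Basic
import Mathlib.RingTheory.Flat.TorsionFree

/-!
# Flat schemes over a discrete valuation ring with reduced closed fibre
-/

set_option autoImplicit false

universe u

open CategoryTheory Limits AlgebraicGeometry TensorProduct

namespace Groth.Agent.H95.DVRFibre

variable {R : Type u} [CommRing R] [IsDomain R] [IsDiscreteValuationRing R]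

/-- If `κ ⊗ S` is reduced then `S/πS` is. -/
lemma mem_span_of_sq_mem {S : Type u} [CommRing S] [Algebra R S] {π : R} (hπ : Irreducible π)
    (h : _root_.IsReduced ((IsLocalRing.maximalIdeal R).Fiber S)) {a : S}
    (ha : algebraMap R S π ∣ a ^ 2) : algebraMap R S π ∣ a := by
  classical
  set m := IsLocalRing.maximalIdeal R
  have hm : m = Ideal.span {π} := (IsDiscreteValuationRing.irreducible_iff_uniformizer π).1 hπ
  let F := Algebra.TensorProduct.includeRight (R := R) (A := m.ResidueField) (B := S)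
  have hF : F (algebraMap R S π) = 0 := by
    rw [F.commutes, IsScalarTower.algebraMap_apply R m.ResidueField, 
      Ideal.algebraMap_residueField_eq_zero.2 (hm ▸ Ideal.mem_span_singleton_self π), map_zero]
  have h2 : F a = 0 := by
    obtain ⟨b, hb⟩ := ha
    have h3 : IsNilpotent (F a) := ⟨2, by rw [← map_pow, hb, map_mul, hF, zero_mul]⟩
    exact @IsReduced.eq_zero _ _ _ h _ h3
  let I : Ideal S := Ideal.span {algebraMap R S π}
  have hI : ∀ r ∈ m, algebraMap R (S ⧸ I) r = 0 := by
    intro r hr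
    rw [hm, Ideal.mem_span_singleton] at hr
    obtain ⟨c, rfl⟩ := hr
    rw [map_mul, IsScalarTower.algebraMap_apply R S (S ⧸ I) π, Ideal.Quotient.algebraMap_eq,
      Ideal.Quotient.eq_zero_iff_mem.2 (Ideal.mem_span_singleton_self _), zero_mul]
  let e : (R ⧸ m) ≃ₐ[R] m.ResidueField :=
    AlgEquiv.ofBijective (IsScalarTower.toAlgHom R (R ⧸ m) m.ResidueField)
      (Ideal.bijective_algebraMap_quotient_residueField m)
  let G : m.ResidueField ⊗[R] S →ₐ[R] S ⧸ I :=
    Algebra.TensorProduct.lift ((Ideal.Quotient.liftₐ m (Algebra.ofId R (S ⧸ I)) hI).comp 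
      e.symm.toAlgHom) (Ideal.Quotient.mkₐ R I) (fun _ _ => Commute.all _ _)
  have h4 := congrArg G h2
  rw [map_zero] at h4
  simp only [F, Algebra.TensorProduct.includeRight_apply, G, Algebra.TensorProduct.lift_tmul,
    map_one, one_mul] at h4
  exact Ideal.mem_span_singleton.1 (Ideal.Quotient.eq_zero_iff_mem.1 h4)

variable {X : Scheme.{u}} (f : X ⟶ Spec (CommRingCat.of R))

/-- The pullback of an element of the base. -/
noncomputable def res (V : X.Opens) : R →+* Γ(X, V) :=
  ((Scheme.ΓSpecIso (.of R)).inv ≫ f.appLE ⊤ V le_top).hom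

omit [IsDomain R] [IsDiscreteValuationRing R] in
lemma fromSpec_comp {V : X.Opens} (hV : IsAffineOpen V) :
    hV.fromSpec ≫ f = Spec.map (CommRingCat.ofHom (res f V)) := by
  rw [res, CommRingCat.ofHom_hom, Spec.map_comp, ← (isAffineOpen_top _).SpecMap_appLE_fromSpec f hV le_top]
  congr 1
  simp [IsAffineOpen.fromSpec_top, Scheme.isoSpec_Spec_inv]

lemma res_flat [Flat f] {V : X.Opens} (hV : IsAffineOpen V) :
    (res f V).Flat := by
  have : Flat (Spec.map (CommRingCat.ofHom (res f V))) := by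
    rw [← fromSpec_comp f hV]; infer_instance
  exact (HasRingHomProperty.Spec_iff (P := @Flat)).1 this

lemma isRegular_res [Flat f] {V : X.Opens} (hV : IsAffineOpen V) {π : R} (hπ : π ≠ 0) :
    ∀ a, res f V π * a = 0 → a = 0 := by
  let _ : Algebra R Γ(X, V) := (res f V).toAlgebra
  have : Module.Flat R Γ(X, V) := res_flat f hV
  intro a ha
  rw [← RingHom.algebraMap_toAlgebra (res f V), ← Algebra.smul_def] at ha
  exact (smul_eq_zero.1 ha).resolve_left hπ

lemma dvd_of_dvd_sq {V : X.Opens} (hV : IsAffineOpen V) {π : R} (hπ : Irreducible π)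
    (hred : IsReduced (f.fiber (IsLocalRing.closedPoint R))) {a : Γ(X, V)}
    (ha : res f V π ∣ a ^ 2) : res f V π ∣ a := by
  let _ : Algebra R Γ(X, V) := (res f V).toAlgebra
  refine mem_span_of_sq_mem hπ ?_ ha
  have : IsReduced (f.fiber ((𝟙 (Spec (.of R)) : Spec (.of R) ⟶ Spec (.of R)) (IsLocalRing.closedPoint R))) :=
    hred
  exact Groth.Agent.Lib.Flat55.FibreAffine.isReduced_fiber f R Γ(X, V) (𝟙 _) hV.fromSpec
    (by rw [fromSpec_comp f hV, Category.comp_id]) (IsLocalRing.closedPoint R)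

lemma mem_basicOpen_iff' {V : X.Opens} (hV : IsAffineOpen V) (r : Γ(X, V)) (x : X) (hx : x ∈ V) :
    x ∈ X.basicOpen r ↔ r ∉ (hV.primeIdealOf ⟨x, hx⟩).asIdeal := by
  let _ : Algebra Γ(X, V) (X.presheaf.stalk x) := TopCat.Presheaf.algebra_section_stalk X.presheaf ⟨x, hx⟩
  have := hV.isLocalization_stalk ⟨x, hx⟩
  rw [X.mem_basicOpen r x hx]
  exact IsLocalization.AtPrime.isUnit_to_map_iff (X.presheaf.stalk x) (hV.primeIdealOf ⟨x, hx⟩).asIdeal r

omit [IsDomain R] [IsDiscreteValuationRing R] in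
lemma mem_basicOpen_res {V : X.Opens} (r : R) (x : X) (hx : x ∈ V) :
    x ∈ X.basicOpen (res f V r) ↔ r ∉ (f x).asIdeal := by
  have h1 : X.basicOpen (res f V r) = V ⊓ f ⁻¹ᵁ (PrimeSpectrum.basicOpen r) := by
    refine (Scheme.basicOpen_appLE f V ⊤ le_top _).trans ?_
    exact congrArg (fun U => V ⊓ f ⁻¹ᵁ U) (basicOpen_eq_of_affine (R := CommRingCat.of R) r)
  rw [h1]
  exact ⟨fun h => h.2, fun h => ⟨hx, h⟩⟩

/-- A DVR has two points. -/
lemma notMem_iff_eq_bot {π : R} (hπ : Irreducible π) (p : PrimeSpectrum R) :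
    π ∉ p.asIdeal ↔ p = ⟨⊥, Ideal.isPrime_bot⟩ := by
  constructor
  · intro h
    by_contra hne
    have hb : p.asIdeal ≠ ⊥ := fun h' => hne (PrimeSpectrum.ext h')
    have := Ideal.IsPrime.isMaximal p.2 hb
    rw [IsLocalRing.eq_maximalIdeal this, (IsDiscreteValuationRing.irreducible_iff_uniformizer π).1 hπ] at h
    exact h (Ideal.mem_span_singleton_self π)
  · rintro rfl h
    exact hπ.ne_zero ((Ideal.mem_bot).1 h)

theorem isReduced_total [IsProper f] [Flat f]
    (hred : IsReduced (f.fiber (IsLocalRing.closedPoint R))) : IsReduced X := by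
  obtain ⟨π, hπ⟩ := IsDiscreteValuationRing.exists_irreducible R
  have : IsLocallyNoetherian X := LocallyOfFiniteType.isLocallyNoetherian f
  suffices h : ∀ x : X, _root_.IsReduced (X.presheaf.stalk x) from isReduced_of_isReduced_stalk X
  intro x
  have hcl : IsClosed (f '' closure {x}) := f.isClosedMap _ isClosed_closure
  have hmem : IsLocalRing.closedPoint R ∈ f '' closure {x} := by
    refine Specializes.mem_closed ?_ hcl ⟨x, subset_closure rfl, rfl⟩
    exact IsLocalRing.specializes_closedPoint _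
  obtain ⟨x₀, hx₀, hfx₀⟩ := hmem
  obtain ⟨V, hV, hxV, -⟩ := exists_isAffineOpen_mem_and_subset (x := x₀) (U := ⊤) trivial
  have hxV' : x ∈ V := (specializes_iff_mem_closure.2 hx₀).mem_open V.2 hxV
  let _ : Algebra Γ(X, V) (X.presheaf.stalk x) := TopCat.Presheaf.algebra_section_stalk X.presheaf ⟨x, hxV'⟩
  have := hV.isLocalization_stalk ⟨x, hxV'⟩
  set q := (hV.primeIdealOf ⟨x, hxV'⟩).asIdeal
  set q₀ := (hV.primeIdealOf ⟨x₀, hxV⟩).asIdeal
  have hN : nilradical Γ(X, V) ≤ Ideal.span {res f V π} • nilradical Γ(X, V) := by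
    intro a ha
    have h2 : ∀ n, res f V π ∣ a ^ (2 ^ n) → res f V π ∣ a := by
      intro n
      induction n with
      | zero => simp
      | succ n ih => exact fun h => ih (dvd_of_dvd_sq f hV hπ hred (by rwa [← pow_mul, ← pow_succ]))
    obtain ⟨k, hk⟩ := mem_nilradical.1 ha
    obtain ⟨b, rfl⟩ := h2 k (by rw [pow_eq_zero_of_le (Nat.lt_two_pow_self).le hk]; exact dvd_zero _)
    have hb : b ∈ nilradical Γ(X, V) := by
      refine mem_nilradical.2 ⟨k, ?_⟩
      rw [mul_pow] at hk
      clear ha h2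
      induction k generalizing b with
      | zero => simpa using hk
      | succ k ih =>
        have h3 := isRegular_res f hV hπ.ne_zero (res f V π ^ k * b ^ (k + 1)) (by rw [← mul_assoc, ← pow_succ', hk])
        have h4 : ∀ j, res f V π ^ j * b ^ (k + 1) = 0 → b ^ (k + 1) = 0 := by
          intro j
          induction j with
          | zero => simp
          | succ j ihj => exact fun h => ihj (isRegular_res f hV hπ.ne_zero _ (by rwa [← mul_assoc, ← pow_succ']))
        exact h4 k h3
    exact Submodule.smul_mem_smul (Ideal.mem_span_singleton_self _) hb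
  have : IsNoetherianRing Γ(X, V) := IsLocallyNoetherian.component_noetherian ⟨V, hV⟩
  obtain ⟨r, hr1, hr0⟩ := Submodule.exists_sub_one_mem_and_smul_eq_zero_of_fg_of_le_smul _ _
    (IsNoetherian.noetherian _) hN
  have hπ₀ : res f V π ∈ q₀ := by
    by_contra h
    have h5 : x₀ ∈ X.basicOpen (res f V π) := by
      exact (mem_basicOpen_iff' hV _ x₀ hxV).2 h
    rw [mem_basicOpen_res f π x₀ hxV, hfx₀] at h5
    exact h5 (show π ∈ IsLocalRing.maximalIdeal R from hπ.not_isUnit)
  have hr : r ∉ q₀ := by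
    intro h
    have h6 : r - 1 ∈ q₀ := (Ideal.span_le.2 (Set.singleton_subset_iff.2 hπ₀)) hr1
    exact (hV.primeIdealOf ⟨x₀, hxV⟩).2.ne_top ((Ideal.eq_top_iff_one _).2 (by simpa using sub_mem h h6))
  have hrx : x ∈ X.basicOpen r := by
    refine (specializes_iff_mem_closure.2 hx₀).mem_open (X.basicOpen r).2 ?_
    exact (mem_basicOpen_iff' hV _ x₀ hxV).2 hr
  refine ⟨fun y hy => ?_⟩
  obtain ⟨a, s, rfl⟩ := IsLocalization.exists_mk'_eq q.primeCompl y
  obtain ⟨k, hk⟩ := hy
  rw [← IsLocalization.mk'_pow, IsLocalization.mk'_eq_zero_iff] at hk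
  obtain ⟨c, hc⟩ := hk
  have hca : (c : Γ(X, V)) * a ∈ nilradical Γ(X, V) := mem_nilradical.2 ⟨k + 1, by
    rw [mul_pow, pow_succ' (c : Γ(X, V)), pow_succ (a : Γ(X, V))]
    linear_combination ((c : Γ(X, V)) ^ k * a) * hc⟩
  have hrq : r ∈ q.primeCompl := by
    exact (mem_basicOpen_iff' hV _ x hxV').1 hrx
  rw [IsLocalization.mk'_eq_zero_iff]
  refine ⟨⟨r, hrq⟩ * c, ?_⟩
  rw [Submonoid.coe_mul, mul_assoc]
  exact hr0 _ hca

/-- The generic point of the base is an open subscheme. -/
lemma isOpenImmersion_generic :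
    IsOpenImmersion ((Spec (CommRingCat.of R)).fromSpecResidueField (⟨⊥, Ideal.isPrime_bot⟩ : PrimeSpectrum R)) := by
  obtain ⟨π, hπ⟩ := IsDiscreteValuationRing.exists_irreducible R
  set p : PrimeSpectrum R := ⟨⊥, Ideal.isPrime_bot⟩
  have : IsFractionRing R p.asIdeal.ResidueField :=
    inferInstanceAs (IsFractionRing R (⊥ : Ideal R).ResidueField)
  have hu : IsUnit (algebraMap R p.asIdeal.ResidueField π) :=
    (map_ne_zero_of_mem_nonZeroDivisors _ (IsFractionRing.injective R _) (mem_nonZeroDivisors_of_ne_zero hπ.ne_zero)).isUnit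
  have : IsLocalization.Away π p.asIdeal.ResidueField := by
    refine IsLocalization.Away.mk π hu (fun z => ?_) fun a b h => ⟨0, by rw [IsFractionRing.injective R _ h]⟩
    obtain ⟨a, b, hb, rfl⟩ := IsFractionRing.div_surjective (A := R) z
    obtain ⟨n, v, rfl⟩ := IsDiscreteValuationRing.eq_unit_mul_pow_irreducible (nonZeroDivisors.ne_zero hb) hπ
    refine ⟨n, (↑v⁻¹ : R) * a, ?_⟩
    have hv : (algebraMap R p.asIdeal.ResidueField v) ≠ 0 := (v.isUnit.map _).ne_zero
    have hinv : algebraMap R p.asIdeal.ResidueField ↑v⁻¹ * algebraMap R p.asIdeal.ResidueField v = 1 := by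
      rw [← map_mul, Units.inv_mul, map_one]
    have hπ' : algebraMap R p.asIdeal.ResidueField π ≠ 0 := hu.ne_zero
    rw [map_mul, map_mul, map_pow, div_mul_eq_mul_div, div_eq_iff (mul_ne_zero hv (pow_ne_zero _ hπ'))]
    linear_combination -(algebraMap R p.asIdeal.ResidueField a * algebraMap R p.asIdeal.ResidueField π ^ n) * hinv
  have := IsOpenImmersion.of_isLocalization (S := p.asIdeal.ResidueField) π
  rw [← Scheme.Spec.map_residueFieldIso_inv_eq_fromSpecResidueField (.of R) p]
  infer_instance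

theorem isReduced_generic [IsReduced X] :
    IsReduced (f.fiber (⟨⊥, Ideal.isPrime_bot⟩ : PrimeSpectrum R)) := by
  have := isOpenImmersion_generic (R := R)
  have : IsOpenImmersion (f.fiberι (⟨⊥, Ideal.isPrime_bot⟩ : PrimeSpectrum R)) := by
    exact MorphismProperty.pullback_fst (P := @IsOpenImmersion) f _ ‹_›
  exact isReduced_of_isOpenImmersion (f.fiberι (⟨⊥, Ideal.isPrime_bot⟩ : PrimeSpectrum R))

/-- An idempotent of `S[1/π]` comes from `S` if `S/πS` is reduced and `π` is regular. -/
lemma exists_idem_lift {S : Type u} [CommRing S] {p : S} (hreg : ∀ a, p * a = 0 → a = 0)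
    (hsq : ∀ a, p ∣ a ^ 2 → p ∣ a) (e : Localization.Away p) (he : IsIdempotentElem e) :
    ∃ E : S, IsIdempotentElem E ∧ algebraMap S (Localization.Away p) E = e := by
  have hpow : ∀ n a, p ^ n * a = 0 → a = 0 := by
    intro n
    induction n with
    | zero => simp
    | succ n ih => exact fun a h => ih a (hreg _ (by rwa [← mul_assoc, ← pow_succ']))
  have key : ∀ n a, a ^ 2 = p ^ n * a → ∃ E, IsIdempotentElem E ∧ a = p ^ n * E := by
    intro n
    induction n with
    | zero =>
      intro a h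
      exact ⟨a, by unfold IsIdempotentElem; linear_combination h, by simp⟩
    | succ n ih =>
      intro a h
      obtain ⟨b, rfl⟩ := hsq a ⟨p ^ n * a, by rw [h]; ring⟩
      obtain ⟨E, hE, rfl⟩ := ih b (sub_eq_zero.1 (hreg _ (hreg _ (by linear_combination h))))
      exact ⟨E, hE, by ring⟩
  obtain ⟨⟨a, _, n, rfl⟩, rfl⟩ := IsLocalization.mk'_surjective (Submonoid.powers p) e
  have h := he
  rw [IsIdempotentElem, ← IsLocalization.mk'_mul, IsLocalization.mk'_eq_iff_eq] at h
  obtain ⟨⟨_, j, rfl⟩, hj⟩ := (IsLocalization.eq_iff_exists (Submonoid.powers p) _).1 h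
  have ha : a ^ 2 = p ^ n * a :=
    sub_eq_zero.1 (hpow (n + j) _ (by simp only [Submonoid.coe_mul] at hj; linear_combination hj))
  obtain ⟨E, hE, rfl⟩ := key n a ha
  refine ⟨E, hE, ?_⟩
  rw [IsLocalization.eq_mk'_iff_mul_eq, ← map_mul]
  exact congrArg _ (mul_comm _ _)

theorem connectedSpace_generic [Flat f] [ConnectedSpace X]
    (hred : IsReduced (f.fiber (IsLocalRing.closedPoint R))) :
    ConnectedSpace (f.fiber (⟨⊥, Ideal.isPrime_bot⟩ : PrimeSpectrum R)) := by
  obtain ⟨π, hπ⟩ := IsDiscreteValuationRing.exists_irreducible R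
  set η : PrimeSpectrum R := ⟨⊥, Ideal.isPrime_bot⟩
  set W : Set X := f ⁻¹' {(η : Spec (.of R))}
  have hW : ∀ (V : X.Opens), IsAffineOpen V → ∀ x ∈ V, x ∈ W ↔ x ∈ X.basicOpen (res f V π) := by
    intro V hV x hx
    rw [mem_basicOpen_res f π x hx]
    exact (notMem_iff_eq_bot hπ (f x)).symm
  have hdense : Dense W := by
    rw [dense_iff_inter_open]
    rintro U hU ⟨x, hx⟩
    obtain ⟨V, hV, hxV, hVU⟩ := exists_isAffineOpen_mem_and_subset (x := x) (U := ⟨U, hU⟩) hx
    by_contra hne
    have h1 : X.basicOpen (res f V π) = ⊥ := by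
      rw [eq_bot_iff]
      intro y hy
      exact hne ⟨y, hVU (X.basicOpen_le _ hy), (hW V hV y (X.basicOpen_le _ hy)).2 hy⟩
    obtain ⟨n, hn⟩ : IsNilpotent (res f V π) := by
      rw [← mem_nilradical, nilradical_eq_sInf, Ideal.mem_sInf]
      intro P hP
      by_contra hn
      have hy : hV.fromSpec ⟨P, hP⟩ ∈ (⊥ : X.Opens) := by
        rw [← h1]
        have hn' : (⟨P, hP⟩ : PrimeSpectrum Γ(X, V)) ∈ PrimeSpectrum.basicOpen (res f V π) := hn
        rw [← hV.fromSpec_preimage_basicOpen (res f V π)] at hn'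
        exact hn'
      exact hy
    have : (1 : Γ(X, V)) = 0 := by
      clear h1
      induction n with
      | zero => simpa using hn
      | succ n ih => exact ih (isRegular_res f hV hπ.ne_zero _ (by rw [← pow_succ', hn]))
    have : x ∈ X.basicOpen (1 : Γ(X, V)) := by
      rw [X.basicOpen_of_isUnit isUnit_one]; exact hxV
    rw [show (1 : Γ(X, V)) = 0 from ‹_›, X.basicOpen_zero] at this
    exact this
  have hW' : _root_.IsPreconnected W := by
    intro O₁ O₂ hO₁ hO₂ hcov h₁ h₂
    by_contra hne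
    rw [Set.not_nonempty_iff_eq_empty] at hne
    have hdis : ∀ x, x ∈ closure (W ∩ O₁) → x ∈ closure (W ∩ O₂) → False := by
      intro x hx₁ hx₂
      obtain ⟨V, hV, hxV, -⟩ := exists_isAffineOpen_mem_and_subset (x := x) (U := ⊤) trivial
      set p := res f V π
      let g : PrimeSpectrum (Localization.Away p) → X :=
        fun q => hV.fromSpec (PrimeSpectrum.comap (algebraMap Γ(X, V) (Localization.Away p)) q)
      have hgc : Continuous g := hV.fromSpec.continuous.comp (PrimeSpectrum.continuous_comap _)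
      have hgW : ∀ q, g q ∈ W := by
        intro q
        have hmem : g q ∈ X.basicOpen p := by
          have : PrimeSpectrum.comap (algebraMap Γ(X, V) (Localization.Away p)) q ∈
              (PrimeSpectrum.basicOpen p : Set (PrimeSpectrum Γ(X, V))) := by
            rw [← PrimeSpectrum.localization_away_comap_range (Localization.Away p) p]
            exact ⟨q, rfl⟩
          exact ((hV.fromSpec_preimage_basicOpen p).symm ▸ this :)
        exact (hW V hV _ (X.basicOpen_le _ hmem)).2 hmem
      have hclopen : IsClopen (g ⁻¹' O₁) := by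
        refine ⟨?_, hO₁.preimage hgc⟩
        rw [← isOpen_compl_iff]
        convert hO₂.preimage hgc using 1
        ext q
        exact ⟨fun h => (hcov (hgW q)).resolve_left h,
          fun h h' => (Set.eq_empty_iff_forall_notMem.1 hne (g q)) ⟨hgW q, h', h⟩⟩
      obtain ⟨e, he, hO⟩ := PrimeSpectrum.isClopen_iff.1 hclopen
      obtain ⟨E, hE, rfl⟩ := exists_idem_lift (isRegular_res f hV hπ.ne_zero)
        (fun a => dvd_of_dvd_sq f hV hπ hred) e he
      have hside : ∀ y ∈ V, y ∈ W → (y ∈ O₁ ↔ y ∈ X.basicOpen E) := by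
        intro y hy hyW
        have hyp : hV.primeIdealOf ⟨y, hy⟩ ∈ (PrimeSpectrum.basicOpen p : Set (PrimeSpectrum Γ(X, V))) :=
          (mem_basicOpen_iff' hV p y hy).1 ((hW V hV y hy).1 hyW)
        rw [← PrimeSpectrum.localization_away_comap_range (Localization.Away p) p] at hyp
        obtain ⟨q, hq⟩ := hyp
        have hgq : g q = y := (congrArg (fun z => hV.fromSpec z) hq).trans (hV.fromSpec_primeIdealOf ⟨y, hy⟩)
        rw [mem_basicOpen_iff' hV E y hy, ← hq]
        rw [show (y ∈ O₁) = (q ∈ g ⁻¹' O₁) from by rw [Set.mem_preimage, hgq], hO]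
        exact Iff.rfl
      by_cases hxE : x ∈ X.basicOpen E
      · obtain ⟨y, hy, hyW, hyO⟩ := mem_closure_iff.1 hx₂ _ (X.basicOpen E).2 hxE
        have hy' := (hside y (X.basicOpen_le _ hy) hyW).2 hy
        exact Set.eq_empty_iff_forall_notMem.1 hne y ⟨hyW, hy', hyO⟩
      · have hxE' : x ∈ X.basicOpen (1 - E) := by
          rw [mem_basicOpen_iff' hV _ x hxV] at hxE ⊢
          intro h
          apply (hV.primeIdealOf ⟨x, hxV⟩).2.ne_top
          rw [Ideal.eq_top_iff_one]
          simpa using add_mem h (not_not.1 hxE)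
        obtain ⟨y, hy, hyW, hyO⟩ := mem_closure_iff.1 hx₁ _ (X.basicOpen (1 - E)).2 hxE'
        have hyV := X.basicOpen_le _ hy
        have hy' := (hside y hyV hyW).1 hyO
        replace hy := (mem_basicOpen_iff' hV _ y hyV).1 hy
        rw [mem_basicOpen_iff' hV _ y hyV] at hy'
        rcases (hV.primeIdealOf ⟨y, hyV⟩).2.mem_or_mem (x := E) (y := 1 - E)
          (by rw [hE.mul_one_sub_self]; exact zero_mem _) with h | h
        · exact hy' h
        · exact hy h
    have hclopen : IsClopen (closure (W ∩ O₁)) := by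
      refine ⟨isClosed_closure, ?_⟩
      have : closure (W ∩ O₁) = (closure (W ∩ O₂))ᶜ := by
        refine Set.Subset.antisymm (fun x hx hx' => hdis x hx hx') fun x hx => ?_
        have hWu : W = (W ∩ O₁) ∪ (W ∩ O₂) := by
          rw [← Set.inter_union_distrib_left]; exact (Set.inter_eq_left.2 hcov).symm
        have := hdense x
        rw [hWu, closure_union] at this
        exact this.resolve_right hx
      rw [this]
      exact isClosed_closure.isOpen_compl
    obtain ⟨y, hy⟩ := h₂
    exact hdis y (hclopen.eq_univ (h₁.mono subset_closure) ▸ Set.mem_univ y) (subset_closure hy)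
  have hne : W.Nonempty := hdense.nonempty
  have : ConnectedSpace W := isConnected_iff_connectedSpace.1 ⟨hne, hW'⟩
  exact (f.fiberHomeo (η : Spec (.of R))).symm.surjective.connectedSpace
    (f.fiberHomeo (η : Spec (.of R))).symm.continuous

end Groth.Agent.H95.DVRFibre
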