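import Mathlib.RingTheory.Derivation.Basic
import Mathlib.Algebra.DualNumber
import Mathlib.RingTheory.IntegralClosure.IsIntegralClosure.Basic
import Mathlib.RingTheory.Localization.FractionRing
import Mathlib.RingTheory.PowerSeries.Derivative
import Mathlib.RingTheory.Localization.Integral
import Mathlib.Algebra.CharZero.Defs
import Mathlib.FieldTheory.Minpoly.Basic
import Mathlib.Tactic.FieldSimp
import Mathlib.Tactic.LinearCombination

/-!
# Derivations extend to the normalisation in characteristic zero
-/

universe u

namespace Groth.Agent.H95.DerivNorm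

open PowerSeries

variable (k : Type u) [Field k] [CharZero k] (A : Type u) [CommRing A] [Algebra k A]

local notation "K" => FractionRing A

omit [CharZero k] in
lemma exists_extend (D : Derivation k A A) :
    ∃ D' : Derivation k K K, ∀ a, D' (algebraMap A K a) = algebraMap A K (D a) := by
  let φ : A →+* DualNumber K :=
    { toFun := fun a => TrivSqZeroExt.inl (algebraMap A K a) + TrivSqZeroExt.inr (algebraMap A K (D a))
      map_one' := by ext <;> simp
      map_mul' := fun a b => by
        ext
        · simp
        · simp only [TrivSqZeroExt.snd_add, TrivSqZeroExt.snd_inl, TrivSqZeroExt.snd_inr, TrivSqZeroExt.snd_mul, TrivSqZeroExt.fst_add, TrivSqZeroExt.fst_inl, TrivSqZeroExt.fst_inr, zero_add, add_zero, smul_eq_mul, MulOpposite.smul_eq_mul_unop, MulOpposite.unop_op, D.leibniz, map_add, map_mul]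
          ring
      map_zero' := by ext <;> simp
      map_add' := fun a b => by
        ext
        · simp
        · simp only [TrivSqZeroExt.snd_add, TrivSqZeroExt.snd_inl, TrivSqZeroExt.snd_inr, TrivSqZeroExt.snd_mul, TrivSqZeroExt.fst_add, TrivSqZeroExt.fst_inl, TrivSqZeroExt.fst_inr, zero_add, add_zero, smul_eq_mul, MulOpposite.smul_eq_mul_unop, MulOpposite.unop_op, map_add] }
  have hu : ∀ y : nonZeroDivisors A, IsUnit (φ y) := fun y =>
    TrivSqZeroExt.isUnit_iff_isUnit_fst.2 (by simpa [φ] using IsLocalization.map_units K y)
  let L : K →+* DualNumber K := IsLocalization.lift hu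
  have hfst : (TrivSqZeroExt.fstHom K K K).toRingHom.comp L = RingHom.id K :=
    IsLocalization.ringHom_ext (nonZeroDivisors A) (RingHom.ext fun a => by simp [L, φ])
  have hf : ∀ x, (L x).fst = x := fun x => RingHom.congr_fun hfst x
  have hk : ∀ c : k, (L (algebraMap k K c)).snd = 0 := by
    intro c
    rw [IsScalarTower.algebraMap_apply k A K]
    simp [L, φ]
  refine ⟨Derivation.mk' { toFun := fun x => (L x).snd, map_add' := fun x y => by simp, map_smul' := fun c x => ?_ } ?_,
    fun a => ?_⟩
  · rw [Algebra.smul_def, map_mul, TrivSqZeroExt.snd_mul, hk, RingHom.id_apply, hf]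
    simp [Algebra.smul_def]
  · intro x y
    simp [hf]
    ring
  · change (L (algebraMap A K a)).snd = _
    rw [IsLocalization.lift_eq]
    simp only [φ, RingHom.coe_mk, MonoidHom.coe_mk, OneHom.coe_mk, TrivSqZeroExt.snd_add, TrivSqZeroExt.snd_inl, TrivSqZeroExt.snd_inr, TrivSqZeroExt.snd_mul, TrivSqZeroExt.fst_add, TrivSqZeroExt.fst_inl, TrivSqZeroExt.fst_inr, zero_add, add_zero, smul_eq_mul, MulOpposite.smul_eq_mul_unop, MulOpposite.unop_op]

variable {k A}

/-- The Taylor map of a derivation. -/
noncomputable def expD {L : Type u} [CommRing L] [Algebra k L] (D : Derivation k L L) (x : L) : PowerSeries L :=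
  PowerSeries.mk fun n => algebraMap k L (n.factorial : k)⁻¹ * (⇑D)^[n] x

lemma expD_succ {L : Type u} [CommRing L] [Algebra k L] (D : Derivation k L L) (x : L) (n : ℕ) :
    (coeff (n + 1) (expD D x)) * (n + 1) = D (coeff n (expD D x)) := by
  simp only [expD, coeff_mk]
  rw [← Algebra.smul_def (n.factorial : k)⁻¹, D.map_smul, Algebra.smul_def, Function.iterate_succ_apply',
    mul_right_comm, show ((n : L) + 1) = algebraMap k L (n + 1 : k) by simp, ← map_mul]
  congr 2
  rw [Nat.factorial_succ]
  push_cast
  have h : (n : k) + 1 ≠ 0 := Nat.cast_add_one_ne_zero n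
  field_simp

lemma expD_zero {L : Type u} [CommRing L] [Algebra k L] (D : Derivation k L L) (x : L) :
    coeff 0 (expD D x) = x := by simp [expD]

lemma expD_mul {L : Type u} [CommRing L] [Algebra k L] (D : Derivation k L L) (x y : L) :
    expD D (x * y) = expD D x * expD D y := by
  classical
  ext n
  induction n with
  | zero => simp [PowerSeries.coeff_mul, expD_zero]
  | succ n ih =>
    have hu : IsUnit ((n : L) + 1) := by
      rw [show ((n : L) + 1) = algebraMap k L (n + 1 : k) by simp]
      exact (IsUnit.mk0 _ (Nat.cast_add_one_ne_zero n)).map _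
    apply hu.mul_right_cancel
    rw [expD_succ, ih]
    have hd : ∀ z : L, d⁄dX L (expD D z) = PowerSeries.mk fun m => D (coeff m (expD D z)) := by
      intro z
      ext m
      rw [coeff_derivative, coeff_mk, expD_succ]
    have h2 : coeff n (d⁄dX L (expD D x * expD D y)) = coeff (n + 1) (expD D x * expD D y) * (n + 1) := by
      rw [coeff_derivative]
    rw [← h2, Derivation.leibniz, map_add, smul_eq_mul, smul_eq_mul, hd, hd]
    simp only [PowerSeries.coeff_mul, coeff_mk, map_sum, D.leibniz, smul_eq_mul, Finset.sum_add_distrib]
    congr 1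
    exact (Finset.Nat.sum_antidiagonal_swap (f := fun p => coeff p.1 (expD D y) * D (coeff p.2 (expD D x))))

/-- `expD` as a ring map. -/
noncomputable def expHom {L : Type u} [CommRing L] [Algebra k L] (D : Derivation k L L) : L →+* PowerSeries L where
  toFun := expD D
  map_one' := by
    ext n
    rcases n with _ | n
    · simp [expD]
    · simp [expD, Function.iterate_succ_apply]
  map_mul' := expD_mul D
  map_zero' := by ext n; simp [expD]
  map_add' x y := by ext n; simp [expD, mul_add]

variable (k A) in
theorem main [IsNoetherianRing A] (D : Derivation k A A) :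
    ∃ D' : Derivation k ↥(integralClosure A K) ↥(integralClosure A K),
      ∀ a : A, (D' (algebraMap A ↥(integralClosure A K) a) : K) = algebraMap A K (D a) := by
  classical
  obtain ⟨D', hD'⟩ := exists_extend k A D
  let φ := expHom D'
  let R := (algebraMap A K).range
  have hDR : ∀ z ∈ R, D' z ∈ R := by
    rintro _ ⟨a, rfl⟩
    exact ⟨D a, (hD' a).symm⟩
  have hsmulR : ∀ (c : k) (z : K), z ∈ R → algebraMap k K c * z ∈ R := by
    rintro c _ ⟨a, rfl⟩
    exact ⟨algebraMap k A c * a, by rw [map_mul, ← IsScalarTower.algebraMap_apply]⟩
  let P : Subring (PowerSeries K) := (PowerSeries.map (algebraMap A K)).range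
  have hP : ∀ F : PowerSeries K, (∀ n, coeff n F ∈ R) → F ∈ P := by
    intro F hF
    choose a ha using hF
    exact ⟨PowerSeries.mk a, by ext n; simp [ha]⟩
  have hexp : ∀ z ∈ R, φ z ∈ P := by
    intro z hz
    refine hP _ fun n => ?_
    change coeff n (expD D' z) ∈ R
    rw [expD, coeff_mk]
    refine hsmulR _ _ ?_
    induction n with
    | zero => exact hz
    | succ n ih => rw [Function.iterate_succ_apply']; exact hDR _ ih
  have key : ∀ x : K, IsIntegral A x → IsIntegral A (D' x) := by
    intro x hx
    obtain ⟨b, hb⟩ := IsLocalization.exist_integer_multiples_of_finset (nonZeroDivisors A)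
      ((Finset.range (minpoly A x).natDegree).image (x ^ ·))
    set d : K := algebraMap A K b
    have hd : IsUnit d := IsLocalization.map_units K b
    have hdR : d ∈ R := ⟨b, rfl⟩
    have hpow : ∀ n, d * x ^ n ∈ R := by
      intro n
      have hspan : x ^ n ∈ Submodule.span A (((Finset.range (minpoly A x).natDegree).image (x ^ ·) : Finset K) : Set K) := by
        have h1 := minpoly.monic hx
        have h2 : x ^ n = Polynomial.aeval x ((Polynomial.X ^ n : Polynomial A) %ₘ minpoly A x) := by
          rw [Polynomial.modByMonic_eq_sub_mul_div (Polynomial.X ^ n) (minpoly A x), map_sub, map_mul, minpoly.aeval]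
          simp
        rw [h2, Polynomial.aeval_eq_sum_range]
        refine Submodule.sum_mem _ fun i hi => ?_
        by_cases hi' : i < (minpoly A x).natDegree
        · refine Submodule.smul_mem _ _ (Submodule.subset_span ?_)
          simp only [Finset.coe_image, Set.mem_image, Finset.mem_coe, Finset.mem_range]
          exact ⟨i, hi', rfl⟩
        · nontriviality A
          have hc : ((Polynomial.X ^ n : Polynomial A) %ₘ minpoly A x).coeff i = 0 := by
            refine Polynomial.coeff_eq_zero_of_degree_lt ?_
            refine (Polynomial.degree_modByMonic_lt _ h1).trans_le ?_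
            exact Polynomial.degree_le_natDegree.trans (by exact_mod_cast Nat.not_lt.1 hi')
          rw [hc, zero_smul]; exact zero_mem _
      generalize x ^ n = y at hspan ⊢
      induction hspan using Submodule.span_induction with
      | mem z hz =>
        obtain ⟨a, ha⟩ := hb z (Finset.mem_coe.1 hz)
        exact ⟨a, by rw [ha, Algebra.smul_def]⟩
      | zero => rw [mul_zero]; exact zero_mem _
      | add z w _ _ h1 h2 => rw [mul_add]; exact add_mem h1 h2
      | smul r z _ h => rw [Algebra.smul_def, mul_left_comm]; exact mul_mem ⟨r, rfl⟩ h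
    set G : PowerSeries K := φ x - PowerSeries.C x
    have hG0 : constantCoeff G = 0 := by
      rw [← coeff_zero_eq_constantCoeff_apply, map_sub, coeff_C, if_pos rfl]
      change coeff 0 (expD D' x) - x = 0
      rw [expD_zero, sub_self]
    obtain ⟨H, hH⟩ : PowerSeries.X ∣ G := PowerSeries.X_dvd_iff.2 hG0
    have hH0 : constantCoeff H = D' x := by
      have h1 : coeff 1 G = D' x := by
        rw [map_sub, coeff_C, if_neg one_ne_zero, sub_zero]
        change coeff 1 (expD D' x) = _
        simp [expD]
      rw [hH, show 1 = 0 + 1 from rfl, PowerSeries.coeff_succ_X_mul, coeff_zero_eq_constantCoeff_apply] at h1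
      exact h1
    have hmem : ∀ n, d * d * D' x ^ n ∈ R := by
      intro n
      have h2 : φ d * PowerSeries.C d * G ^ n ∈ P := by
        rw [show G = φ x + -PowerSeries.C x from sub_eq_add_neg _ _, add_pow, Finset.mul_sum]
        refine sum_mem fun i _ => ?_
        have h3 : φ d * PowerSeries.C d * (φ x ^ i * (-PowerSeries.C x) ^ (n - i) * (n.choose i : PowerSeries K)) =
            φ (d * x ^ i) * PowerSeries.C (d * x ^ (n - i)) * ((-1 : PowerSeries K) ^ (n - i) * (n.choose i : PowerSeries K)) := by
          rw [map_mul φ, map_pow φ, map_mul PowerSeries.C, map_pow PowerSeries.C, neg_pow]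
          ring
        rw [h3]
        refine mul_mem (mul_mem (hexp _ (hpow i)) ?_) (mul_mem (pow_mem (neg_mem (one_mem _)) _) (natCast_mem _ _))
        refine hP _ fun m => ?_
        rw [coeff_C]
        split_ifs
        · exact hpow _
        · exact zero_mem _
      obtain ⟨F, hF⟩ := h2
      refine ⟨coeff n F, ?_⟩
      rw [← PowerSeries.coeff_map, hF, hH, mul_pow, ← mul_assoc, mul_comm _ (PowerSeries.X ^ n), mul_assoc,
        PowerSeries.coeff_X_pow_mul', if_pos le_rfl, Nat.sub_self,
        coeff_zero_eq_constantCoeff_apply, map_mul, map_mul, map_pow, hH0, constantCoeff_C,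
        ← coeff_zero_eq_constantCoeff_apply]
      change coeff 0 (expD D' d) * d * _ = _
      rw [expD_zero]
    refine IsIntegral.of_mem_of_fg (Algebra.adjoin A {D' x}) ?_ (D' x) (Algebra.self_mem_adjoin_singleton A _)
    let m : K →ₗ[A] K := LinearMap.mulLeft A (d * d)
    have hm : Function.Injective m := fun a b h => (hd.mul hd).mul_left_cancel h
    refine Submodule.fg_of_fg_map_injective m hm ?_
    have hle : (Algebra.adjoin A {D' x}).toSubmodule.map m ≤ LinearMap.range (Algebra.linearMap A K) := by
      rw [Submodule.map_le_iff_le_comap, Algebra.adjoin_eq_span, Submodule.span_le]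
      intro y hy
      obtain ⟨n, rfl⟩ := Submonoid.mem_closure_singleton.1 hy
      exact hmem n
    have : IsNoetherian A (LinearMap.range (Algebra.linearMap A K)) :=
      isNoetherian_of_fg_of_noetherian _ (by
        rw [LinearMap.range_eq_map]; exact Submodule.FG.map _ Module.Finite.fg_top)
    exact (IsNoetherian.noetherian ((Algebra.adjoin A {D' x}).toSubmodule.map m |>.comap
      (LinearMap.range (Algebra.linearMap A K)).subtype)).map (LinearMap.range (Algebra.linearMap A K)).subtype |>
      fun h => by rwa [Submodule.map_comap_eq, Submodule.range_subtype, inf_eq_right.2 hle] at h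
  refine ⟨Derivation.mk' { toFun := fun x => (⟨D' x.1, key _ x.2⟩ : integralClosure A K)
                           map_add' := fun x y => Subtype.ext (map_add D' _ _)
                           map_smul' := fun c x => Subtype.ext (D'.map_smul c _) } (fun x y => Subtype.ext ?_),
    fun a => hD' a⟩
  simp

end Groth.Agent.H95.DerivNorm
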