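import Groth.Agent.Lib.Cyc.CH.DetAtlas
import Groth.Agent.Lib.Modules.TensorAffine
import Groth.Agent.Lib.ParaF.Pair
import Mathlib.LinearAlgebra.Matrix.Kronecker
import Mathlib.LinearAlgebra.TensorProduct.Basis

/-!
# The determinant of a tensor product
-/

set_option autoImplicit false
set_option linter.style.haveILetI false
universe u

open CategoryTheory CategoryTheory.Limits AlgebraicGeometry Opposite TopologicalSpace
open scoped TensorProduct Kronecker

noncomputable section

namespace Groth.Agent.H95.DetTensor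

open Groth.Agent.Lib Groth.Agent.Lib.Modules
open Groth.Agent.Lib.TensorMod.Dual (rs rf rs_rs rs_smul)
open Groth.Agent.Lib.RefHull.SecHom (germ_rs germ_rf)

variable {X : Scheme.{u}} (U : X → X.Opens)

/-- Transition functions of generators on the opens `U x`. -/
abbrev Tr : Type u := ∀ (x x' y : X), y ∈ U x → y ∈ U x' → X.presheaf.stalk y

/-- Generators with given transition functions. -/
def Gens (L : X.Modules) (τ : Tr U) : Prop :=
  ∃ g : ∀ x, Γ(L, U x),
    (∀ x y (hy : y ∈ U x), Function.Bijective fun a : X.presheaf.stalk y => a • L.presheaf.germ (U x) y hy (g x)) ∧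
    ∀ x x' y (hy : y ∈ U x) (hy' : y ∈ U x'),
      L.presheaf.germ (U x') y hy' (g x') = τ x x' y hy hy' • L.presheaf.germ (U x) y hy (g x)

variable {U}

theorem gens_tensor {L L' : X.Modules} {τ τ' : Tr U} (h : Gens U L τ) (h' : Gens U L' τ') :
    Gens U (CohB1.tensorMod L L') fun x x' y hy hy' => τ x x' y hy hy' * τ' x x' y hy hy' := by
  obtain ⟨g, hg, ht⟩ := h
  obtain ⟨g', hg', ht'⟩ := h'
  refine ⟨fun x => TensorSec.tens (g x) (g' x), fun x y hy => ?_, fun x x' y hy hy' => ?_⟩
  · let eA := LinearEquiv.ofBijective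
      (LinearMap.toSpanSingleton (X.presheaf.stalk y) _ (L.presheaf.germ (U x) y hy (g x))) (hg x y hy)
    let eB := LinearEquiv.ofBijective
      (LinearMap.toSpanSingleton (X.presheaf.stalk y) _ (L'.presheaf.germ (U x) y hy (g' x))) (hg' x y hy)
    let e := DerivedOX.TensorSheaf.tensorStalk y L L'
    let T := (TensorProduct.lid (X.presheaf.stalk y) (X.presheaf.stalk y)).symm ≪≫ₗ TensorProduct.congr eA eB
    have hT : ∀ r, T r = r • e ((CohB1.tensorMod L L').presheaf.germ (U x) y hy (TensorSec.tens (g x) (g' x))) := fun r => by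
      show _ = r • DerivedOX.TensorSheaf.tensorStalk y L L' _
      rw [TensorAffine.tensorStalk_germ_tens]
      show TensorProduct.congr eA eB (1 ⊗ₜ[X.presheaf.stalk y] r) = _
      rw [TensorProduct.congr_tmul]
      show ((1 : X.presheaf.stalk y) • L.presheaf.germ (U x) y hy (g x)) ⊗ₜ[X.presheaf.stalk y]
        (r • L'.presheaf.germ (U x) y hy (g' x)) = _
      rw [one_smul, TensorProduct.tmul_smul]
    have hT' : ∀ r : X.presheaf.stalk y,
        e (r • (CohB1.tensorMod L L').presheaf.germ (U x) y hy (TensorSec.tens (g x) (g' x))) = T r := fun r =>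
      (e.map_smul r _).trans (hT r).symm
    exact ⟨fun r r' h => T.injective ((hT' r).symm.trans ((congrArg e h).trans (hT' r'))),
      fun v => ⟨T.symm (e v), e.injective ((hT' _).trans (T.apply_symm_apply _))⟩⟩
  · refine (DerivedOX.TensorSheaf.tensorStalk y L L').injective ?_
    refine Eq.trans ?_ ((DerivedOX.TensorSheaf.tensorStalk y L L').map_smul _ _).symm
    rw [TensorAffine.tensorStalk_germ_tens, TensorAffine.tensorStalk_germ_tens, ht x x' y hy hy',
      ht' x x' y hy hy', TensorProduct.smul_tmul_smul]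

theorem gens_unit : Gens U (Coh.structureModule X) fun _ _ _ _ _ => 1 := by
  let one : ∀ O : X.Opens, Γ(Coh.structureModule X, O) := fun O => (1 : Γ(X, O))
  have hres : ∀ {V W : X.Opens} (h : W ≤ V), rs (Coh.structureModule X) h (one V) = one W :=
    fun {V W} h => map_one (X.presheaf.map (homOfLE h).op).hom
  refine ⟨fun x => one (U x), fun x y hy => ?_, fun x x' y hy hy' => ?_⟩
  · refine Cyc.CH.bijective_smul_of_span (ParaF.Pair.isInvertible_structureModule X) (eq_top_iff.2 fun v _ => ?_)
    obtain ⟨O, hyO, m, rfl⟩ := TopCat.Presheaf.exists_germ_eq (Coh.structureModule X).presheaf v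
    refine Submodule.mem_span_singleton.2 ⟨X.presheaf.germ O y hyO m, ?_⟩
    have hy2 : y ∈ O ⊓ U x := ⟨hyO, hy⟩
    rw [← germ_rf (inf_le_left : O ⊓ U x ≤ O) hy2 m, ← germ_rs (inf_le_right : O ⊓ U x ≤ U x) hy2,
      ← germ_rs (inf_le_left : O ⊓ U x ≤ O) hy2 m, ← Mero.germ_smul, hres]
    refine congrArg _ ?_
    exact mul_one (rf (inf_le_left : O ⊓ U x ≤ O) m)
  · rw [one_smul]
    have hy2 : y ∈ U x ⊓ U x' := ⟨hy, hy'⟩
    show (Coh.structureModule X).presheaf.germ _ y hy' (one (U x')) = (Coh.structureModule X).presheaf.germ _ y hy (one (U x))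
    rw [← germ_rs (inf_le_right : U x ⊓ U x' ≤ U x') hy2, ← germ_rs (inf_le_left : U x ⊓ U x' ≤ U x) hy2, hres, hres]

theorem gens_pow {L : X.Modules} {τ : Tr U} (h : Gens U L τ) :
    ∀ n : ℕ, Gens U (CohB1.tensorPow L n) fun x x' y hy hy' => τ x x' y hy hy' ^ n
  | 0 => by simp only [pow_zero]; exact gens_unit
  | n + 1 => by simp only [pow_succ]; exact gens_tensor (gens_pow h n) h

theorem gens_of_detAtlas {r : ℕ} {M L : X.Modules} (A : Cyc.CH.DetAtlas r M L) (hU : ∀ x, U x ≤ A.U x) :
    Gens U L fun x x' y hy hy' => (A.b x y (hU x hy)).det (A.b x' y (hU x' hy')) :=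
  ⟨fun x => rs L (hU x) (A.g x), fun x y hy => by rw [germ_rs]; exact A.gen x y (hU x hy),
    fun x x' y hy hy' => by rw [germ_rs, germ_rs]; exact A.trans x x' y (hU x hy) (hU x' hy')⟩

/-- Determinant of a tensor product of bases. -/
theorem det_tensorProduct {R M N : Type*} [CommRing R] [AddCommGroup M] [Module R M] [AddCommGroup N]
    [Module R N] {e f : ℕ} (b b' : Module.Basis (Fin e) R M) (c c' : Module.Basis (Fin f) R N) :
    ((b.tensorProduct c).reindex finProdFinEquiv).det ((b'.tensorProduct c').reindex finProdFinEquiv) =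
      b.det b' ^ f * c.det c' ^ e := by
  rw [Module.Basis.det_apply, Module.Basis.det_apply, Module.Basis.det_apply,
    show ((b.tensorProduct c).reindex finProdFinEquiv).toMatrix ((b'.tensorProduct c').reindex finProdFinEquiv) =
      Matrix.reindex finProdFinEquiv finProdFinEquiv (b.toMatrix b' ⊗ₖ c.toMatrix c') from ?_,
    Matrix.det_reindex_self, Matrix.det_kronecker, Fintype.card_fin, Fintype.card_fin]
  ext i j
  simp [Module.Basis.toMatrix_apply, Module.Basis.tensorProduct_repr_tmul_apply, mul_comm]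

/-- The determinant charts of a tensor product. -/
theorem nonempty_detAtlas {e f : ℕ} {E F DE DF : X.Modules} (A : Cyc.CH.DetAtlas e E DE)
    (B : Cyc.CH.DetAtlas f F DF) :
    Nonempty (Cyc.CH.DetAtlas (e * f) (CohB1.tensorMod E F)
      (CohB1.tensorMod (CohB1.tensorPow DE f) (CohB1.tensorPow DF e))) := by
  let U : X → X.Opens := fun x => A.U x ⊓ B.U x
  have hA : ∀ x, U x ≤ A.U x := fun x => inf_le_left
  have hB : ∀ x, U x ≤ B.U x := fun x => inf_le_right
  obtain ⟨g, hg, ht⟩ := gens_tensor (gens_pow (gens_of_detAtlas A hA) f) (gens_pow (gens_of_detAtlas B hB) e)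
  let b : ∀ x y, y ∈ U x → Module.Basis (Fin (e * f)) (X.presheaf.stalk y) ((CohB1.tensorMod E F).presheaf.stalk y) :=
    fun x y hy => (((A.b x y (hA x hy)).tensorProduct (B.b x y (hB x hy))).reindex finProdFinEquiv).map
      (DerivedOX.TensorSheaf.tensorStalk y E F).symm
  refine ⟨{ U := U, mem := fun x => ⟨A.mem x, B.mem x⟩,
            e := fun x k => TensorSec.tens (rs E (hA x) (A.e x (finProdFinEquiv.symm k).1))
              (rs F (hB x) (B.e x (finProdFinEquiv.symm k).2)),
            g := g, b := b, hb := fun x y hy k => ?_, gen := hg, trans := fun x x' y hy hy' => ?_ }⟩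
  · refine (DerivedOX.TensorSheaf.tensorStalk y E F).symm_apply_eq.2 ?_ |> fun h => (Module.Basis.map_apply _ _ _).trans h
    rw [TensorAffine.tensorStalk_germ_tens, germ_rs, germ_rs, ← A.hb, ← B.hb, Module.Basis.reindex_apply,
      Module.Basis.tensorProduct_apply]
  · rw [ht x x' y hy hy']
    congr 1
    have := det_tensorProduct (A.b x y (hA x hy)) (A.b x' y (hA x' hy')) (B.b x y (hB x hy)) (B.b x' y (hB x' hy'))
    refine this.symm.trans ?_
    refine Eq.trans ?_ (Module.Basis.det_map _ _ _).symm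
    refine congrArg _ (funext fun i => ?_)
    show _ = (DerivedOX.TensorSheaf.tensorStalk y E F).symm.symm (b x' y hy' i)
    rw [LinearEquiv.symm_symm]
    exact ((DerivedOX.TensorSheaf.tensorStalk y E F).apply_symm_apply _).symm

end Groth.Agent.H95.DetTensor
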