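import Groth.Agent.Lib.Cyc.CH.DualPullback
import Groth.Agent.Lib.ExtShTensor
import Groth.Agent.Lib.CurveBundle.Coherent
import Groth.Agent.H95.LefFEt.Bidual

/-!
# Duals of finite locally free modules of arbitrary rank
-/

set_option autoImplicit false
set_option linter.style.haveILetI false
universe u

open CategoryTheory CategoryTheory.Limits AlgebraicGeometry Opposite
open scoped TensorProduct

noncomputable section

namespace Groth.Agent.Lib.KVec.DualPullLite

open Groth.Agent.Lib Groth.Agent.Lib.Cyc Groth.Agent.Lib.Cyc.CH Modules.StalkModule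
open Groth.Agent.Lib.TensorMod.Free (pairM pairM_comp)
open Groth.Agent.Lib.RefHull.SecHom (app germ_app)

variable {X Y : Scheme.{u}} (g : Y ⟶ X)

theorem exists_basis_stalk {M : X.Modules} (h : FlatMod.IsFinLocFree M) (x : X) :
    ∃ n : ℕ, Nonempty (Module.Basis (Fin n) (X.presheaf.stalk x) (M.presheaf.stalk x)) := by
  obtain ⟨U, n, hx, ⟨i⟩⟩ := h x
  obtain ⟨s, hs⟩ := CurveBundle.Coherent.exists_basis_sections i
  exact ⟨n, ⟨Module.Basis.mk (hs x hx).1 (hs x hx).2.ge⟩⟩

/-- Pullback of duals of finite locally free modules. -/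
theorem nonempty_pullback_dual_iso [IsLocallyNoetherian X] [IsLocallyNoetherian Y] {E : X.Modules}
    (hE : FlatMod.IsFinLocFree E) :
    Nonempty ((Scheme.Modules.pullback g).obj (RefHull.dual E) ≅
      RefHull.dual ((Scheme.Modules.pullback g).obj E)) := by
  classical
  obtain ⟨ψ, hψ⟩ := ZarCoh.Exchange.HomAdj.exists_uncurry (𝟙 (RefHull.dual E))
  let ι := (PicLoc.pullbackStructureIso g).hom
  let φ : CohB1.tensorMod ((Scheme.Modules.pullback g).obj E)
      ((Scheme.Modules.pullback g).obj (RefHull.dual E)) ⟶ Coh.structureModule Y :=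
    (TensorMod.Pullback.pullbackTensorIso g E (RefHull.dual E)).inv ≫
      (Scheme.Modules.pullback g).map ψ ≫ ι
  let c : (Scheme.Modules.pullback g).obj (RefHull.dual E) ⟶
      RefHull.dual ((Scheme.Modules.pullback g).obj E) := ZarCoh.Exchange.HomAdj.curry φ
  suffices IsIso c from ⟨asIso c⟩
  have hφ : ∀ (U : X.Opens) (e : Γ(E, U)) (t : Γ(RefHull.dual E, U)),
      pairM φ (TensorMod.Pullback.unitSec g E e) (TensorMod.Pullback.unitSec g (RefHull.dual E) t) =
        ι.app (g ⁻¹ᵁ U) (TensorMod.Pullback.unitSec g (Coh.structureModule X) (app t le_rfl e)) := by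
    intro U e t
    rw [← TensorMod.Pullback.pairM_delta_comp g φ e t,
      show TensorMod.Pullback.delta g E (RefHull.dual E) ≫ φ = (Scheme.Modules.pullback g).map ψ ≫ ι from
        (TensorMod.Pullback.pullbackTensorIso g E (RefHull.dual E)).hom_inv_id_assoc _,
      Adjunction.homEquiv_naturality_left, Adjunction.homEquiv_unit, pairM_comp, hψ]
    rfl
  have key : ∀ (y : Y) (θ : (RefHull.dual E).presheaf.stalk (g y)) (v : E.presheaf.stalk (g y)),
      RefHull.evalStalk ((Scheme.Modules.pullback g).obj E) (Coh.structureModule Y) y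
          (stalkMapₗ c y (ust g (RefHull.dual E) y θ)) (ust g E y v) =
        stalkMapₗ ι y (ust g (Coh.structureModule X) y
          (RefHull.evalStalk E (Coh.structureModule X) (g y) θ v)) := by
    intro y θ v
    obtain ⟨U₁, h₁, t, rfl⟩ := TopCat.Presheaf.exists_germ_eq (RefHull.dual E).presheaf θ
    obtain ⟨U₂, h₂, e, rfl⟩ := TopCat.Presheaf.exists_germ_eq E.presheaf v
    rw [← TopCat.Presheaf.germ_res_apply (RefHull.dual E).presheaf
        (homOfLE (inf_le_left : U₁ ⊓ U₂ ≤ U₁)) (g y) ⟨h₁, h₂⟩ t,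
      ← TopCat.Presheaf.germ_res_apply E.presheaf (homOfLE (inf_le_right : U₁ ⊓ U₂ ≤ U₂)) (g y) ⟨h₁, h₂⟩ e]
    generalize (RefHull.dual E).presheaf.map (homOfLE (inf_le_left : U₁ ⊓ U₂ ≤ U₁)).op t = t'
    generalize E.presheaf.map (homOfLE (inf_le_right : U₁ ⊓ U₂ ≤ U₂)).op e = e'
    rw [RefHull.evalStalk_germ, ← germ_app t' le_rfl e' (g y) ⟨h₁, h₂⟩, ust_germ, ust_germ, ust_germ,
      stalkMapₗ_germ, stalkMapₗ_germ, RefHull.evalStalk_germ, ← hφ]
    exact ZarCoh.Exchange.HomAdj.stalkPair_germ φ (U := g ⁻¹ᵁ (U₁ ⊓ U₂)) _ _ _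
  rw [isIso_iff_stalkMapₗ_bijective]
  intro y
  obtain ⟨r, ⟨bE⟩⟩ := exists_basis_stalk hE (g y)
  have hEc := CurveBundle.Coherent.isCoh hE
  have eX := RefHull.HomSh.evalStalk_bijective (G := Coh.structureModule X) hEc (g y)
  have eY := RefHull.HomSh.evalStalk_bijective (G := Coh.structureModule Y)
    (FP.Stalk.isCoh_pullback g hEc) y
  let o₁ := (RefHull.Reflexive.oEquiv (g y)).symm 1
  have ho : Submodule.span (X.presheaf.stalk (g y)) {o₁} = ⊤ :=
    eq_top_iff.2 fun v _ => Submodule.mem_span_singleton.2 ⟨RefHull.Reflexive.oEquiv (g y) v,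
      (RefHull.Reflexive.oEquiv (g y)).injective (by rw [map_smul, LinearEquiv.apply_symm_apply, smul_eq_mul, mul_one])⟩
  let u := stalkMapₗ ι y (ust g (Coh.structureModule X) y o₁)
  have hu : ∀ w, ∃ a : Y.presheaf.stalk y, a • u = w := by
    intro w
    obtain ⟨w', rfl⟩ := ((isIso_iff_stalkMapₗ_bijective ι).1 inferInstance y).2 w
    have hw : w' ∈ Submodule.span (Y.presheaf.stalk y) {ust g (Coh.structureModule X) y o₁} := by
      rw [← Set.image_singleton, span_ust g _ y ho]
      exact Submodule.mem_top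
    obtain ⟨a, rfl⟩ := Submodule.mem_span_singleton.1 hw
    exact ⟨a, (map_smul _ _ _).symm⟩
  have hu0 : ∀ a : Y.presheaf.stalk y, a • u = 0 → a = 0 := by
    intro a ha
    obtain ⟨d, hd⟩ := hu ((RefHull.Reflexive.oEquiv y).symm 1)
    have h1 : d * RefHull.Reflexive.oEquiv y u = 1 := by
      rw [← smul_eq_mul, ← map_smul, hd, LinearEquiv.apply_symm_apply]
    have h2 : a * RefHull.Reflexive.oEquiv y u = 0 := by rw [← smul_eq_mul, ← map_smul, ha, map_zero]
    calc a = a * (d * RefHull.Reflexive.oEquiv y u) := by rw [h1, mul_one]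
      _ = 0 := by rw [mul_left_comm, h2, mul_zero]
  choose θ hθ using fun i : Fin r =>
    eX.2 ((LinearMap.toSpanSingleton (X.presheaf.stalk (g y)) _ o₁).comp (bE.coord i))
  have hθspan : Submodule.span (X.presheaf.stalk (g y)) (Set.range θ) = ⊤ := by
    refine eq_top_iff.2 fun η _ => (Submodule.mem_span_range_iff_exists_fun _).2
      ⟨fun i => RefHull.Reflexive.oEquiv (g y) (RefHull.evalStalk E (Coh.structureModule X) (g y) η (bE i)), ?_⟩
    refine eX.1 (bE.ext fun k => ?_)
    simp only [map_sum, map_smul, hθ, LinearMap.sum_apply, LinearMap.smul_apply, LinearMap.comp_apply,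
      Module.Basis.coord_apply, Module.Basis.repr_self]
    rw [Finset.sum_eq_single k (fun i _ hi => by
      rw [Finsupp.single_eq_of_ne (Ne.symm hi.symm), map_zero, smul_zero]) (by simp), Finsupp.single_eq_same,
      LinearMap.toSpanSingleton_apply, one_smul]
    exact (RefHull.Reflexive.oEquiv (g y)).injective
      (by rw [map_smul, LinearEquiv.apply_symm_apply, smul_eq_mul, mul_one])
  have hA : Submodule.span (Y.presheaf.stalk y) (Set.range fun j => ust g E y (bE j)) = ⊤ := by
    rw [show (Set.range fun j => ust g E y (bE j)) = ust g E y '' Set.range bE by rw [← Set.range_comp]; rfl]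
    exact span_ust g E y bE.span_eq
  have hN : Submodule.span (Y.presheaf.stalk y) (Set.range fun i => ust g (RefHull.dual E) y (θ i)) = ⊤ := by
    rw [show (Set.range fun i => ust g (RefHull.dual E) y (θ i)) =
      ust g (RefHull.dual E) y '' Set.range θ by rw [← Set.range_comp]; rfl]
    exact span_ust g _ y hθspan
  have hval : ∀ (a : Fin r → Y.presheaf.stalk y) (k : Fin r),
      RefHull.evalStalk ((Scheme.Modules.pullback g).obj E) (Coh.structureModule Y) y
        (stalkMapₗ c y (∑ i, a i • ust g (RefHull.dual E) y (θ i))) (ust g E y (bE k)) = a k • u := by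
    intro a k
    simp only [map_sum, map_smul, LinearMap.sum_apply, LinearMap.smul_apply, key, hθ,
      LinearMap.comp_apply, Module.Basis.coord_apply, Module.Basis.repr_self]
    rw [Finset.sum_eq_single k (fun i _ hi => by
      rw [Finsupp.single_eq_of_ne (Ne.symm hi.symm), map_zero, ust_zero, map_zero, smul_zero]) (by simp),
      Finsupp.single_eq_same, LinearMap.toSpanSingleton_apply, one_smul]
  constructor
  · refine (injective_iff_map_eq_zero _).2 fun z hz => ?_
    obtain ⟨a, rfl⟩ := (Submodule.mem_span_range_iff_exists_fun _).1 (hN.ge (Submodule.mem_top (x := z)))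
    refine Finset.sum_eq_zero fun k _ => ?_
    rw [hu0 (a k) ?_, zero_smul]
    rw [← hval, hz, map_zero, LinearMap.zero_apply]
  · intro w
    choose a ha using fun k => hu
      (RefHull.evalStalk ((Scheme.Modules.pullback g).obj E) (Coh.structureModule Y) y w (ust g E y (bE k)))
    refine ⟨∑ i, a i • ust g (RefHull.dual E) y (θ i), eY.1 (LinearMap.ext_on_range hA fun k => ?_)⟩
    rw [hval]
    exact ha k

end Groth.Agent.Lib.KVec.DualPullLite
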