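import Groth.Agent.Lib.LocalFlat.InjMod
import Groth.Agent.Lib.LocalFlat.SmulTop
import Mathlib

/-!
# Complexes which are exact modulo the maximal ideal of the base
-/

universe u

open CategoryTheory TensorProduct IsLocalRing

namespace Groth.Agent.H95.FibreExactCx

variable {R S : Type u} [CommRing R] [CommRing S] [IsLocalRing R] [IsLocalRing S] [IsNoetherianRing S]
  [Algebra R S] [IsLocalHom (algebraMap R S)]

theorem step {P N M : Type u} [AddCommGroup P] [Module S P] [AddCommGroup N] [Module S N] [Module R N]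
    [IsScalarTower R S N] [AddCommGroup M] [Module S M] [Module R M] [IsScalarTower R S M]
    [Module.Finite S N] [Module.Flat R M] (f : P →ₗ[S] N) (g : N →ₗ[S] M) (hgf : ∀ x, g (f x) = 0)
    (hmod : ∀ c, g c ∈ ((maximalIdeal R).map (algebraMap R S)) • (⊤ : Submodule S M) →
      c ∈ ((maximalIdeal R).map (algebraMap R S)) • (⊤ : Submodule S N) ⊔ LinearMap.range f) :
    (∀ c, g c = 0 → c ∈ LinearMap.range f) ∧ Module.Flat R (M ⧸ LinearMap.range g) := by
  have hle : LinearMap.range f ≤ LinearMap.ker g := by rintro _ ⟨x, rfl⟩; exact hgf x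
  let v : (N ⧸ LinearMap.range f) →ₗ[S] M := (LinearMap.range f).liftQ g hle
  have h : Function.Injective ((v.restrictScalars R).lTensor (ResidueField R)) := by
    refine (Lib.LocalFlat.SmulTop.lTensor_quotient_injective_iff (maximalIdeal R) (v.restrictScalars R)).2 fun x hx => ?_
    obtain ⟨c, rfl⟩ := Submodule.Quotient.mk_surjective _ x
    have hc : g c ∈ ((maximalIdeal R).map (algebraMap R S)) • (⊤ : Submodule S M) := by
      rw [← Submodule.restrictScalars_mem R, Ideal.smul_restrictScalars, Submodule.restrictScalars_top]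
      exact hx
    obtain ⟨a, ha, b, hb, rfl⟩ := Submodule.mem_sup.1 (hmod c hc)
    rw [Submodule.Quotient.mk_add, (Submodule.Quotient.mk_eq_zero _).2 hb, add_zero]
    rw [← Submodule.restrictScalars_top R S (N ⧸ LinearMap.range f), ← Ideal.smul_restrictScalars, Submodule.restrictScalars_mem]
    have := Submodule.mem_map_of_mem (f := (LinearMap.range f).mkQ) ha
    rw [Submodule.map_smul''] at this
    exact Submodule.smul_mono le_rfl le_top this
  have hr : LinearMap.range (v.restrictScalars R) = (LinearMap.range g).restrictScalars R := by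
    rw [LinearMap.range_restrictScalars, Submodule.range_liftQ]
  refine ⟨fun c hc => (Submodule.Quotient.mk_eq_zero _).1
    (Lib.LocalFlat.InjMod.injective_of_injective_mod (v.restrictScalars R) h S (by simpa [v] using hc)), ?_⟩
  have hf := Lib.LocalFlat.InjMod.flat_coker (v.restrictScalars R) h S
  exact Module.Flat.of_linearEquiv
    ((Submodule.Quotient.restrictScalarsEquiv R (LinearMap.range g)).symm.trans (Submodule.quotEquivOfEq _ _ hr.symm))

theorem main (C : ChainComplex (ModuleCat.{u} S) ℕ) (e : ℕ)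
    (hzero : ∀ j, e < j → Limits.IsZero (C.X j)) (hfin : ∀ j, Module.Finite S (C.X j))
    (hflat : ∀ j, Module.Flat R ((ModuleCat.restrictScalars (algebraMap R S)).obj (C.X j)))
    (hex : ∀ j, 1 ≤ j → j ≤ e →
      (((MonoidalCategory.tensorLeft
          (ModuleCat.of S (S ⧸ (IsLocalRing.maximalIdeal R).map (algebraMap R S)))).mapHomologicalComplex
          (ComplexShape.down ℕ)).obj C).ExactAt j) :
    (∀ j, 1 ≤ j → j ≤ e → C.ExactAt j) ∧
      Module.Flat R ((ModuleCat.restrictScalars (algebraMap R S)).obj (C.homology 0)) := by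
  let _ : ∀ j, Module R (C.X j) := fun j => Module.compHom _ (algebraMap R S)
  have _ : ∀ j, IsScalarTower R S (C.X j) := fun j => ⟨fun r s x => by
    change (r • s) • x = algebraMap R S r • s • x
    rw [Algebra.smul_def, mul_smul]⟩
  have hfl : ∀ j, Module.Flat R (C.X j) := hflat
  have hmod : ∀ j, ∀ c : C.X (j + 1),
      (C.d (j + 1) j).hom c ∈ ((maximalIdeal R).map (algebraMap R S)) • (⊤ : Submodule S (C.X j)) →
      c ∈ ((maximalIdeal R).map (algebraMap R S)) • (⊤ : Submodule S (C.X (j + 1))) ⊔
        LinearMap.range (C.d (j + 2) (j + 1)).hom := by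
    intro j c hc
    rcases Nat.lt_or_ge e (j + 1) with hj | hj
    · have := ModuleCat.subsingleton_of_isZero (hzero _ hj)
      rw [Subsingleton.elim c 0]
      exact zero_mem _
    · have h := (HomologicalComplex.exactAt_iff' _ (j + 2) (j + 1) j (by simp) (by simp)).1 (hex (j + 1) (by omega) hj)
      rw [ShortComplex.moduleCat_exact_iff] at h
      set I := (maximalIdeal R).map (algebraMap R S)
      have h0 : ((C.d (j + 1) j).hom.lTensor (S ⧸ I)) ((1 : S ⧸ I) ⊗ₜ c) = 0 :=
        (Lib.LocalFlat.SmulTop.one_tmul_eq_zero_iff I _).2 hc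
      obtain ⟨z, hz⟩ := h ((1 : S ⧸ I) ⊗ₜ c) h0
      obtain ⟨c', rfl⟩ := TensorProduct.mk_surjective S (C.X (j + 2)) (S ⧸ I) Ideal.Quotient.mk_surjective z
      have hz' : (1 : S ⧸ I) ⊗ₜ[S] (c - (C.d (j + 2) (j + 1)).hom c') = 0 := by
        rw [TensorProduct.tmul_sub, sub_eq_zero]
        exact hz.symm
      exact Submodule.mem_sup.2 ⟨_, (Lib.LocalFlat.SmulTop.one_tmul_eq_zero_iff I _).1 hz',
        _, ⟨c', rfl⟩, sub_add_cancel _ _⟩
  have key := fun j => haveI := hfin (j + 1); haveI := hfl j
    step (R := R) (C.d (j + 2) (j + 1)).hom (C.d (j + 1) j).hom (fun x => by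
      rw [← ModuleCat.comp_apply, C.d_comp_d]; rfl) (hmod j)
  refine ⟨fun j hj _ => ?_, ?_⟩
  · obtain ⟨j, rfl⟩ : ∃ i, j = i + 1 := ⟨j - 1, by omega⟩
    rw [HomologicalComplex.exactAt_iff' _ (j + 2) (j + 1) j (by simp) (by simp), ShortComplex.moduleCat_exact_iff]
    exact fun x hx => (key j).1 x hx
  · let q : C.homology 0 ≅ (ModuleCat.cokernelCocone (C.d 1 0)).pt :=
      ChainComplex.isoHomologyι₀ C ≪≫
        (C.opcyclesIsCokernel 1 0 (by simp)).coconePointUniqueUpToIso (ModuleCat.cokernelIsColimit (C.d 1 0))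
    have := (key 0).2
    have : Module.Flat R ((ModuleCat.restrictScalars (algebraMap R S)).obj (ModuleCat.cokernelCocone (C.d 1 0)).pt) :=
      Module.Flat.of_linearEquiv (M := C.X 0 ⧸ LinearMap.range (C.d 1 0).hom)
        { toFun := fun x => x
          invFun := fun x => x
          map_add' := fun _ _ => rfl
          map_smul' := fun r x => by
            obtain ⟨y, rfl⟩ := Submodule.Quotient.mk_surjective _ x
            rfl }
    exact Module.Flat.of_linearEquiv ((ModuleCat.restrictScalars (algebraMap R S)).mapIso q).toLinearEquiv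

end Groth.Agent.H95.FibreExactCx
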