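import Groth.Prelude.Def_Wider
import Mathlib

set_option linter.unusedSectionVars false

/-!
# Linear self-equivalences of the category of modules of finite length over a local ring
-/

universe u

open CategoryTheory IsLocalRing

namespace Groth.Agent.H95.FinLenSelf

variable {A : Type u} [CommRing A] [IsLocalRing A] [IsNoetherianRing A]

lemma exists_pow_kills {M : ModuleCat.{u} A} (h : IsFiniteLength A M) :
    ∃ n, ∀ a ∈ maximalIdeal A ^ (n + 1), ∀ x : M, a • x = 0 := by
  obtain ⟨hN, hA⟩ := isFiniteLength_iff_isNoetherian_isArtinian.1 h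
  let f : ℕ →o (Submodule A M)ᵒᵈ :=
    ⟨fun n => OrderDual.toDual (maximalIdeal A ^ n • (⊤ : Submodule A M)),
      fun i j hij => Submodule.smul_mono_left (Ideal.pow_le_pow_right hij)⟩
  obtain ⟨n, hn⟩ := IsArtinian.monotone_stabilizes f
  have h1 : maximalIdeal A ^ n • (⊤ : Submodule A M) = maximalIdeal A ^ (n + 1) • ⊤ :=
    congrArg OrderDual.ofDual (hn (n + 1) (Nat.le_succ n))
  have h2 : maximalIdeal A ^ n • (⊤ : Submodule A M) = ⊥ := by
    refine Submodule.eq_bot_of_le_smul_of_le_jacobson_bot (maximalIdeal A) _ (IsNoetherian.noetherian _) ?_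
      (maximalIdeal_le_jacobson _)
    conv_lhs => rw [h1, pow_succ', mul_smul]
  refine ⟨n, fun a ha x => ?_⟩
  have h3 : a • x ∈ maximalIdeal A ^ (n + 1) • (⊤ : Submodule A M) := Submodule.smul_mem_smul ha trivial
  rw [← h1, h2] at h3
  exact (Submodule.mem_bot A).1 h3

variable (A) in
lemma isFiniteLength_Q (n : ℕ) : IsFiniteLength A (A ⧸ maximalIdeal A ^ (n + 1)) := by
  rw [isFiniteLength_iff_isNoetherian_isArtinian]
  refine ⟨inferInstance, ?_⟩
  have hne : maximalIdeal A ^ (n + 1) ≠ ⊤ :=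
    fun h => (maximalIdeal.isMaximal A).ne_top (top_le_iff.1 (h ▸ Ideal.pow_le_self (Nat.succ_ne_zero n)))
  have : Nontrivial (A ⧸ maximalIdeal A ^ (n + 1)) := Ideal.Quotient.nontrivial_iff.2 hne
  have : IsLocalRing (A ⧸ maximalIdeal A ^ (n + 1)) := .of_surjective' (Ideal.Quotient.mk _) Ideal.Quotient.mk_surjective
  have : IsArtinianRing (A ⧸ maximalIdeal A ^ (n + 1)) := by
    rw [isArtinianRing_iff_isNilpotent_maximalIdeal]
    refine ⟨n + 1, ?_⟩
    have : maximalIdeal (A ⧸ maximalIdeal A ^ (n + 1)) ≤ (maximalIdeal A).map (Ideal.Quotient.mk _) := by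
      intro x hx
      obtain ⟨a, rfl⟩ := Ideal.Quotient.mk_surjective x
      refine Ideal.mem_map_of_mem _ ?_
      rw [mem_maximalIdeal] at hx ⊢
      exact fun ha => hx (ha.map _)
    refine le_bot_iff.1 ((Ideal.pow_right_mono this _).trans ?_)
    rw [← Ideal.map_pow, Ideal.map_quotient_self]
  exact isArtinian_of_surjective_algebraMap (S := A) (R := A ⧸ maximalIdeal A ^ (n + 1)) Ideal.Quotient.mk_surjective

variable (A) in
/-- `A / m^(n+1)` as a module of finite length. -/
noncomputable def Q (n : ℕ) : Dual.FinLen A :=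
  ⟨ModuleCat.of A (A ⧸ maximalIdeal A ^ (n + 1)), isFiniteLength_Q A n⟩

/-- The generator of `A / m^(n+1)`. -/
noncomputable def one (n : ℕ) : (Q A n).obj := (1 : A ⧸ maximalIdeal A ^ (n + 1))

lemma smul_one_eq (n : ℕ) (z : (Q A n).obj) : ∃ a : A, a • one n = z := by
  obtain ⟨a, ha⟩ := Ideal.Quotient.mk_surjective (I := maximalIdeal A ^ (n + 1)) z
  exact ⟨a, (Algebra.smul_def a (1 : A ⧸ maximalIdeal A ^ (n + 1))).trans ((mul_one _).trans ha)⟩

/-- The linear map of a morphism. -/
abbrev lin {M N : Dual.FinLen A} (f : M ⟶ N) : M.obj →ₗ[A] N.obj := f.hom.hom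

lemma ext_of_lin {M N : Dual.FinLen A} {f g : M ⟶ N} (h : ∀ x, lin f x = lin g x) : f = g :=
  ObjectProperty.hom_ext _ (ModuleCat.hom_ext (LinearMap.ext h))

lemma lin_comp {M N P : Dual.FinLen A} (f : M ⟶ N) (g : N ⟶ P) (x : M.obj) :
    lin (f ≫ g) x = lin g (lin f x) := rfl

lemma ext_Q {n : ℕ} {N : Dual.FinLen A} {f g : Q A n ⟶ N} (h : lin f (one n) = lin g (one n)) : f = g :=
  ext_of_lin fun z => by
    obtain ⟨a, rfl⟩ := smul_one_eq n z
    rw [map_smul, map_smul, h]

/-- `M` is killed by `m^(n+1)`. -/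
def Killed (M : Dual.FinLen A) (n : ℕ) : Prop := ∀ a ∈ maximalIdeal A ^ (n + 1), ∀ x : M.obj, a • x = 0

lemma Killed.mono {M : Dual.FinLen A} {n m : ℕ} (h : Killed M n) (hnm : n ≤ m) : Killed M m :=
  fun a ha => h a (Ideal.pow_le_pow_right (by lia) ha)

/-- The morphism `1 ↦ x`. -/
noncomputable def φ {M : Dual.FinLen A} (n : ℕ) (x : M.obj) (h : Killed M n) : Q A n ⟶ M :=
  ObjectProperty.homMk (ModuleCat.ofHom ((maximalIdeal A ^ (n + 1) : Submodule A A).liftQ
    (LinearMap.toSpanSingleton A M.obj x) fun a ha => h a ha x))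

lemma φ_one {M : Dual.FinLen A} (n : ℕ) (x : M.obj) (h : Killed M n) : lin (φ n x h) (one n) = x :=
  one_smul A x

lemma killed_Q (n : ℕ) : Killed (Q A n) n := by
  intro a ha z
  obtain ⟨b, rfl⟩ := smul_one_eq n z
  rw [smul_comm]
  have : a • (one n : (Q A n).obj) = 0 :=
    (Algebra.smul_def a (1 : A ⧸ maximalIdeal A ^ (n + 1))).trans ((mul_one _).trans (Ideal.Quotient.eq_zero_iff_mem.2 ha))
  rw [this, smul_zero]

lemma surjective_of_epi {M N : Dual.FinLen A} (f : M ⟶ N) [Epi f] : Function.Surjective (lin f) := by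
  rw [← LinearMap.range_eq_top]
  let C : Dual.FinLen A := ⟨ModuleCat.of A (N.obj ⧸ (lin f).range),
    IsFiniteLength.of_surjective N.property (Submodule.mkQ_surjective _)⟩
  let g : N ⟶ C := ObjectProperty.homMk (ModuleCat.ofHom (lin f).range.mkQ)
  have hg : g = 0 := by
    rw [← cancel_epi f, Limits.comp_zero]
    exact ext_of_lin fun x => (Submodule.Quotient.mk_eq_zero _).2 ⟨x, rfl⟩
  refine eq_top_iff.2 fun y _ => ?_
  have : lin g y = 0 := by rw [hg]; rfl
  exact (Submodule.Quotient.mk_eq_zero _).1 this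

lemma epi_of_surjective {M N : Dual.FinLen A} (f : M ⟶ N) (h : Function.Surjective (lin f)) : Epi f :=
  ⟨fun g g' hg => ext_of_lin fun y => by
    obtain ⟨x, rfl⟩ := h y
    exact congrArg (fun t : M ⟶ _ => lin t x) hg⟩

/-- The transition map. -/
noncomputable def τ (n : ℕ) : Q A (n + 1) ⟶ Q A n :=
  φ (n + 1) (one n) ((killed_Q n).mono (Nat.le_succ n))

instance epi_τ (n : ℕ) : Epi (τ (A := A) n) :=
  epi_of_surjective _ fun z => by
    obtain ⟨a, rfl⟩ := smul_one_eq n z
    exact ⟨a • one (n + 1), by rw [map_smul]; exact congrArg (a • ·) (φ_one ..)⟩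

/-- The map to the residue field. -/
noncomputable def pr (n : ℕ) : Q A n ⟶ Q A 0 := φ n (one 0) ((killed_Q 0).mono (Nat.zero_le n))

lemma pr_ne_zero (n : ℕ) : pr (A := A) n ≠ 0 := by
  intro h
  have h1 : lin (pr (A := A) n) (one n) = 0 := by rw [h]; rfl
  rw [pr, φ_one] at h1
  have : (1 : A) ∈ maximalIdeal A ^ (0 + 1) := Ideal.Quotient.eq_zero_iff_mem.1 h1
  rw [zero_add, pow_one] at this
  exact (maximalIdeal.isMaximal A).ne_top ((Ideal.eq_top_iff_one _).2 this)

lemma τ_pr (n : ℕ) : τ n ≫ pr n = pr (A := A) (n + 1) := by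
  refine ext_Q ?_
  rw [lin_comp, τ, φ_one]
  exact (φ_one ..).trans (φ_one ..).symm

lemma epi_of_comp_pr {n : ℕ} {Y : Dual.FinLen A} (f : Y ⟶ Q A n) (h : f ≫ pr n ≠ 0) : Epi f := by
  refine epi_of_surjective f ?_
  have : ∃ y, lin (pr n) (lin f y) ≠ 0 := by
    by_contra! hc
    exact h (ext_of_lin hc)
  obtain ⟨y, hy⟩ := this
  obtain ⟨a, ha⟩ := smul_one_eq n (lin f y)
  rw [← ha, map_smul, pr, φ_one] at hy
  have hu : IsUnit a := by
    by_contra hu
    refine hy (killed_Q 0 a ?_ _)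
    rw [zero_add, pow_one]
    exact hu
  obtain ⟨u, rfl⟩ := hu
  intro z
  obtain ⟨b, rfl⟩ := smul_one_eq n z
  refine ⟨(b * (u⁻¹ : Aˣ)) • y, ?_⟩
  rw [map_smul, ← ha, smul_smul, mul_assoc, Units.inv_mul, mul_one]

section Equivalence

variable (F : Dual.FinLen A ⥤ Dual.FinLen A) [F.Additive] [F.Linear A] [F.IsEquivalence]

lemma kills_iff (M : Dual.FinLen A) (a : A) : (∀ y : (F.obj M).obj, a • y = 0) ↔ ∀ x : M.obj, a • x = 0 := by
  have h1 : ∀ N : Dual.FinLen A, (∀ x : N.obj, a • x = 0) ↔ a • 𝟙 N = 0 := fun N =>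
    ⟨fun h => ext_of_lin h, fun h x => congrArg (fun t : N ⟶ N => lin t x) h⟩
  rw [h1, h1]
  constructor
  · intro h
    apply F.map_injective
    rw [F.map_smul, F.map_id, F.map_zero, h]
  · intro h
    rw [← F.map_id, ← F.map_smul, h, F.map_zero]

lemma killed_map {M : Dual.FinLen A} {n : ℕ} (h : Killed M n) : Killed (F.obj M) n :=
  fun a ha => (kills_iff F M a).2 (h a ha)

lemma pr_map_ne_zero (n : ℕ) : ∃ v : (F.obj (Q A n)).obj, lin (F.map (pr n)) v ≠ 0 := by
  by_contra! hc
  refine pr_ne_zero (A := A) n (F.map_injective ?_)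
  rw [F.map_zero]
  exact ext_of_lin hc

lemma span_of_pr_ne {n : ℕ} (v : (F.obj (Q A n)).obj) (h : lin (F.map (pr n)) v ≠ 0) :
    Function.Surjective fun a : A => a • v := by
  let f : Q A n ⟶ F.obj (Q A n) := φ n v (killed_map F (killed_Q n))
  let f' : F.objPreimage (Q A n) ⟶ Q A n :=
    F.preimage ((F.objObjPreimageIso (Q A n)).hom ≫ f)
  have hf' : F.map f' = (F.objObjPreimageIso (Q A n)).hom ≫ f := F.map_preimage _
  have he : Epi f' := by
    refine epi_of_comp_pr f' fun h0 => h ?_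
    have h1 := congrArg F.map h0
    rw [F.map_comp, hf', F.map_zero, Category.assoc, ← cancel_epi (F.objObjPreimageIso (Q A n)).inv,
      Iso.inv_hom_id_assoc, Limits.comp_zero] at h1
    have h2 := congrArg (fun t : Q A n ⟶ F.obj (Q A 0) => lin t (one n)) h1
    change lin (F.map (pr n)) (lin (φ n v _) (one n)) = 0 at h2
    rwa [φ_one] at h2
  have : Epi (F.map f') := inferInstance
  rw [hf'] at this
  have : Epi f := epi_of_epi (F.objObjPreimageIso (Q A n)).hom f
  intro y
  obtain ⟨z, rfl⟩ := surjective_of_epi f y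
  obtain ⟨a, rfl⟩ := smul_one_eq n z
  exact ⟨a, by rw [map_smul]; exact congrArg (a • ·) (φ_one n v _).symm⟩

/-- Compatible generators. -/
noncomputable def gen : (n : ℕ) → {v : (F.obj (Q A n)).obj // lin (F.map (pr n)) v ≠ 0}
  | 0 => ⟨(pr_map_ne_zero F 0).choose, (pr_map_ne_zero F 0).choose_spec⟩
  | n + 1 => ⟨(surjective_of_epi (F.map (τ n)) (gen n).1).choose, by
      rw [← τ_pr, F.map_comp]
      change lin (F.map (pr n)) (lin (F.map (τ n)) _) ≠ 0
      rw [(surjective_of_epi (F.map (τ n)) (gen n).1).choose_spec]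
      exact (gen n).2⟩

lemma gen_τ (n : ℕ) : lin (F.map (τ n)) (gen F (n + 1)).1 = (gen F n).1 :=
  (surjective_of_epi (F.map (τ n)) (gen F n).1).choose_spec

/-- The candidate comparison. -/
noncomputable def η {M : Dual.FinLen A} (n : ℕ) (h : Killed M n) (x : M.obj) : (F.obj M).obj :=
  lin (F.map (φ n x h)) (gen F n).1

lemma η_succ {M : Dual.FinLen A} (n : ℕ) (h : Killed M n) (x : M.obj) :
    η F (n + 1) (h.mono (Nat.le_succ n)) x = η F n h x := by
  have : φ (n + 1) x (h.mono (Nat.le_succ n)) = τ n ≫ φ n x h := by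
    refine ext_Q ?_
    change _ = lin (φ n x h) (lin (τ n) (one (n + 1)))
    rw [τ, φ_one, φ_one, φ_one]
  rw [η, η, this, F.map_comp]
  change lin (F.map (φ n x h)) (lin (F.map (τ n)) _) = _
  rw [gen_τ]

lemma η_eq {M : Dual.FinLen A} {n m : ℕ} (h : Killed M n) (h' : Killed M m) (x : M.obj) :
    η F n h x = η F m h' x := by
  have key : ∀ d, η F (n + d) (h.mono (Nat.le_add_right n d)) x = η F n h x := by
    intro d
    induction d with
    | zero => rfl
    | succ d ih => exact (η_succ F (n + d) _ x).trans ih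
  have key' : ∀ d, η F (m + d) (h'.mono (Nat.le_add_right m d)) x = η F m h' x := by
    intro d
    induction d with
    | zero => rfl
    | succ d ih => exact (η_succ F (m + d) _ x).trans ih
  rw [← key m, ← key' n]
  congr 1
  exact Nat.add_comm n m

/-- The comparison as a linear map. -/
noncomputable def ηₗ {M : Dual.FinLen A} (n : ℕ) (h : Killed M n) : M.obj →ₗ[A] (F.obj M).obj where
  toFun := η F n h
  map_add' x y := by
    have : φ n (x + y) h = φ n x h + φ n y h := ext_Q (by
      change _ = lin (φ n x h) (one n) + lin (φ n y h) (one n)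
      rw [φ_one, φ_one, φ_one])
    rw [η, this, F.map_add]
    rfl
  map_smul' a x := by
    have : φ n (a • x) h = a • φ n x h := ext_Q (by
      change _ = a • lin (φ n x h) (one n)
      rw [φ_one, φ_one])
    rw [η, this, F.map_smul]
    rfl

lemma η_bijective {M : Dual.FinLen A} (n : ℕ) (h : Killed M n) : Function.Bijective (ηₗ F n h) := by
  constructor
  · rw [← LinearMap.ker_eq_bot, Submodule.eq_bot_iff]
    intro x hx
    have h0 : φ n x h = 0 := F.map_injective (by
      rw [F.map_zero]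
      refine ext_of_lin fun y => ?_
      obtain ⟨a, rfl⟩ := span_of_pr_ne F (gen F n).1 (gen F n).2 y
      change lin (F.map (φ n x h)) (a • _) = 0
      rw [map_smul, show lin (F.map (φ n x h)) (gen F n).1 = 0 from hx, smul_zero])
    rw [← φ_one n x h, h0]
    rfl
  · intro y
    let ψ : Q A n ⟶ F.obj (Q A n) := φ n (gen F n).1 (killed_map F (killed_Q n))
    have hψ : Function.Bijective (lin ψ) := by
      constructor
      · rw [← LinearMap.ker_eq_bot, Submodule.eq_bot_iff]
        intro z hz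
        obtain ⟨a, rfl⟩ := smul_one_eq n z
        rw [LinearMap.mem_ker, map_smul, φ_one] at hz
        refine (kills_iff F (Q A n) a).1 (fun w => ?_) _
        obtain ⟨b, rfl⟩ := span_of_pr_ne F (gen F n).1 (gen F n).2 w
        change a • b • (gen F n).1 = 0
        rw [smul_comm, hz, smul_zero]
      · intro w
        obtain ⟨b, rfl⟩ := span_of_pr_ne F (gen F n).1 (gen F n).2 w
        exact ⟨b • one n, by rw [map_smul, φ_one]⟩
    let e := LinearEquiv.ofBijective (lin ψ) hψ
    let g : F.obj (Q A n) ⟶ F.obj M :=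
      ObjectProperty.homMk (ModuleCat.ofHom ((lin (φ n y (killed_map F h))) ∘ₗ e.symm.toLinearMap))
    refine ⟨lin (F.preimage g) (one n), ?_⟩
    change lin (F.map (φ n _ h)) (gen F n).1 = y
    rw [show φ n (lin (F.preimage g) (one n)) h = F.preimage g from ext_Q (φ_one ..), F.map_preimage]
    change lin (φ n y (killed_map F h)) (e.symm (gen F n).1) = y
    rw [show e.symm (gen F n).1 = one n from e.symm_apply_eq.2 (φ_one n (gen F n).1 (killed_map F (killed_Q n))).symm, φ_one]

theorem nonempty_iso_id : Nonempty (F ≅ 𝟭 (Dual.FinLen A)) := by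
  have hk : ∀ M : Dual.FinLen A, ∃ n, Killed M n := fun M => exists_pow_kills M.property
  choose d hd using hk
  refine ⟨(NatIso.ofComponents (fun M => ObjectProperty.isoMk _
    (LinearEquiv.ofBijective (ηₗ F (d M) (hd M)) (η_bijective F (d M) (hd M))).toModuleIso) ?_).symm⟩
  intro M N f
  refine ext_of_lin fun x => ?_
  change η F (d N) (hd N) (lin f x) = lin (F.map f) (η F (d M) (hd M) x)
  rw [η_eq F (hd M) ((hd M).mono (le_max_left (d M) (d N))) x,
    η_eq F (hd N) ((hd N).mono (le_max_right (d M) (d N))) (lin f x), η, η]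
  set n := max (d M) (d N)
  rw [show φ n (lin f x) ((hd N).mono (le_max_right (d M) (d N))) = φ n x ((hd M).mono (le_max_left (d M) (d N))) ≫ f from
    ext_Q ((φ_one ..).trans (congrArg (lin f) (φ_one ..)).symm), F.map_comp]
  rfl

end Equivalence

end Groth.Agent.H95.FinLenSelf
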