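import Groth.Agent.Lib.BCNat51.Basic
import Groth.Agent.H81.PushLocFree
import Groth.Agent.Lib.ArtinFun.SheafHomDual
import Groth.Agent.H78.Formal.Sections
import Groth.Agent.Lib.ProjKoszul.Surj
import Groth.Agent.H95.DualPullLite
import Groth.Agent.Lib.RefHull.DualComp
import Groth.Agent.H78.Faithful.HomLocFree
import Groth.Agent.Lib.ParaF.Pair

/-!
# The upper shriek of a finite morphism applied to a module, as a tensor product
-/

set_option autoImplicit false
set_option linter.style.haveILetI false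

universe u

open CategoryTheory Limits AlgebraicGeometry Opposite TopologicalSpace

noncomputable section

namespace Groth.Agent.H95.FinTensor

open Groth.Agent Groth.Agent.Lib Groth.Agent.Lib.TensorMod
open Groth.Agent.Lib.TensorMod.Basic (tmap tensorFunctor comm rightUnit tensorIso)
open Groth.Agent.Lib.TensorMod.Free (pairM)
open Groth.Agent.Lib.TensorMod.Pullback (pb pf pbAdj unitSec)
open Groth.Agent.Lib.TensorMod.Dual (rs rf DualSec dual rs_rs rs_self)
open Groth.Agent.Lib.Modules Groth.Agent.Lib.Modules.TensorSec Groth.Agent.Lib.Modules.DualBasis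
open Groth.Agent.Lib.Modules.DualAdj (tensorL counit counit_tens toForm)
open Groth.Agent.Lib.Modules.ProjFormula (theta theta_tens)

variable {X Z : Scheme.{u}} (π : X ⟶ Z)

theorem comm_tens (M N : X.Modules) {U : X.Opens} (m : Γ(M, U)) (n : Γ(N, U)) :
    (comm M N).hom.app U (tens m n) = tens n m := by
  have h : pairM ((comm M N).hom ≫ 𝟙 _) m n = pairM (𝟙 (CohB1.tensorMod N M)) n m :=
    congrArg (fun t => Whisker.pair (M := (Basic.fgt X).obj M)
        (P := (Basic.fgt X).obj N) (X := Opposite.op U) t m n)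
      ((Basic.adj X).homEquiv_naturality_left
        (BraidedCategory.braiding ((Basic.fgt X).obj M) ((Basic.fgt X).obj N)).hom (𝟙 _))
  rw [Category.comp_id] at h
  rw [app_tens, h]
  rfl

theorem rightUnit_tens (M : X.Modules) {U : X.Opens} (m : Γ(M, U))
    (a : Γ(Coh.structureModule X, U)) :
    (rightUnit M).hom.app U (tens m a) = (show Γ(X, U) from a) • m :=
  (app_tens _ _ _).trans (ProjKoszul.Surj.pairM_rightUnit_hom M m a)

theorem hom_ext3 {A B C H : Z.Modules} {a c : CohB1.tensorMod A (CohB1.tensorMod B C) ⟶ H}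
    (h : ∀ U (x : Γ(A, U)) (y : Γ(B, U)) (z : Γ(C, U)),
      a.app U (tens x (tens y z)) = c.app U (tens x (tens y z))) : a = c := by
  refine Free.hom_ext_pairM fun U x v => ?_
  rw [← app_tens, ← app_tens]
  have key := induction_on (U := U) (P := fun V hV w =>
    a.app V (tens (rs A hV x) w) = c.app V (tens (rs A hV x) w)) ?_ ?_ ?_ ?_ U le_rfl v
  · simpa only [rs_self] using key
  · intro V hV w hw
    refine section_ext _ _ _ fun p hp => ?_
    obtain ⟨W, hW, hpW, e⟩ := hw p hp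
    refine ⟨W, hW, hpW, ?_⟩
    rw [← app_rs, ← app_rs, rs_tens, rs_rs]
    exact e
  · intro V hV
    rw [tens_zero_right, map_zero, map_zero]
  · intro V hV s t hs ht
    simp only [tens_add_right, map_add, hs, ht]
  · intro V hV y z
    exact h V _ y z

/-- A morphism inducing bijections on morphisms from quasi-coherent modules is an isomorphism. -/
theorem isIso_of_yoneda {P Q : Z.Modules} (κ : P ⟶ Q) (hP : P.IsQuasicoherent)
    (hQ : Q.IsQuasicoherent)
    (h : ∀ G : Z.Modules, G.IsQuasicoherent → Function.Bijective (fun a : G ⟶ P => a ≫ κ)) :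
    IsIso κ := by
  obtain ⟨s, hs⟩ := (h Q hQ).2 (𝟙 Q)
  have hs' : s ≫ κ = 𝟙 Q := hs
  refine ⟨s, (h P hP).1 ?_, hs'⟩
  change (κ ≫ s) ≫ κ = 𝟙 P ≫ κ
  rw [Category.assoc, hs', Category.comp_id, Category.id_comp]

theorem exists_act (R : X.Modules) :
    ∃ g : CohB1.tensorMod ((pf π).obj (Coh.structureModule X)) ((pf π).obj R) ⟶ (pf π).obj R,
      ∀ (U : Z.Opens) (e : Γ(X, π ⁻¹ᵁ U)) (x : Γ(R, π ⁻¹ᵁ U)),
        pairM g (show Γ((pf π).obj (Coh.structureModule X), U) from e)
          (show Γ((pf π).obj R, U) from x) = e • x := by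
  obtain ⟨g, hg⟩ := Pullback.exists_hom_of_pairing (M := (pf π).obj (Coh.structureModule X))
    (N := (pf π).obj R) (H := (pf π).obj R)
    (fun U e x => (show Γ(X, π ⁻¹ᵁ U) from e) • (show Γ(R, π ⁻¹ᵁ U) from x))
    (fun U e e' x => add_smul (show Γ(X, π ⁻¹ᵁ U) from e) (show Γ(X, π ⁻¹ᵁ U) from e')
      (show Γ(R, π ⁻¹ᵁ U) from x))
    (fun U e x x' => smul_add (show Γ(X, π ⁻¹ᵁ U) from e) (show Γ(R, π ⁻¹ᵁ U) from x)
      (show Γ(R, π ⁻¹ᵁ U) from x'))
    (fun U r e x => mul_smul (π.app U r) (show Γ(X, π ⁻¹ᵁ U) from e)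
      (show Γ(R, π ⁻¹ᵁ U) from x))
    (fun U r e x => smul_comm (show Γ(X, π ⁻¹ᵁ U) from e) (π.app U r)
      (show Γ(R, π ⁻¹ᵁ U) from x))
    (fun U V i e x => Scheme.Modules.map_smul R _ (show Γ(X, π ⁻¹ᵁ V) from e)
      (show Γ(R, π ⁻¹ᵁ V) from x))
  exact ⟨g, fun U e x => hg U e x⟩

/-- Functions on the source act on direct images. -/
def act (R : X.Modules) :
    CohB1.tensorMod ((pf π).obj (Coh.structureModule X)) ((pf π).obj R) ⟶ (pf π).obj R :=
  (exists_act π R).choose

theorem act_tens (R : X.Modules) {U : Z.Opens} (e : Γ((pf π).obj (Coh.structureModule X), U))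
    (x : Γ((pf π).obj R, U)) :
    (act π R).app U (tens e x) =
      (show Γ((pf π).obj R, U) from
        (show Γ(X, π ⁻¹ᵁ U) from e) • (show Γ(R, π ⁻¹ᵁ U) from x)) :=
  (app_tens _ _ _).trans ((exists_act π R).choose_spec U e x)

theorem act_natural {R R' : X.Modules} (a : R ⟶ R') :
    tmap (𝟙 _) ((pf π).map a) ≫ act π R' = act π R ≫ (pf π).map a := by
  refine Free.hom_ext_pairM fun U e x => ?_
  rw [← app_tens, ← app_tens, Scheme.Modules.Hom.comp_app, Scheme.Modules.Hom.comp_app,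
    CategoryTheory.comp_apply, CategoryTheory.comp_apply, tmap_tens, act_tens, act_tens]
  exact (Scheme.Modules.Hom.app_smul a (show Γ(X, π ⁻¹ᵁ U) from e)
    (show Γ(R, π ⁻¹ᵁ U) from x)).symm

variable [IsAffineHom π]

/-- `π_* O ⊗ G ≅ π_* π^* G`. -/
def gIso (G : Z.Modules) [G.IsQuasicoherent] :
    CohB1.tensorMod ((pf π).obj (Coh.structureModule X)) G ≅ (pf π).obj ((pb π).obj G) :=
  haveI := QCohInv.isQCoh_structureModule X
  comm _ G ≪≫ ProjAffine51.projIso π G (Coh.structureModule X) ≪≫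
    (pf π).mapIso (rightUnit _)

theorem key1 (G : Z.Modules) [G.IsQuasicoherent] (R : X.Modules) (b : (pb π).obj G ⟶ R) :
    tmap (𝟙 _) ((pbAdj π).homEquiv G R b) ≫ act π R = (gIso π G).hom ≫ (pf π).map b := by
  refine Free.hom_ext_pairM fun U e g => ?_
  rw [← app_tens, ← app_tens, Scheme.Modules.Hom.comp_app, Scheme.Modules.Hom.comp_app,
    CategoryTheory.comp_apply, CategoryTheory.comp_apply, tmap_tens, act_tens]
  change _ = b.app (π ⁻¹ᵁ U) ((rightUnit ((pb π).obj G)).hom.app (π ⁻¹ᵁ U)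
    ((theta π G (Coh.structureModule X)).app U ((comm _ G).hom.app U (tens e g))))
  rw [comm_tens, theta_tens, rightUnit_tens, Scheme.Modules.Hom.app_smul,
    Adjunction.homEquiv_unit]
  rfl

section

variable (hE : HasDBases ((pf π).obj (Coh.structureModule X)))

/-- The bidual of `π_* O`. -/
def bd : (pf π).obj (Coh.structureModule X) ≅
    dual (dual ((pf π).obj (Coh.structureModule X))) :=
  @asIso _ _ _ _ (ArtinFun.SheafHomDual.bidual _) (ArtinFun.SheafHomDual.isIso_bidual hE)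

/-- The action through the bidual. -/
def actD (R : X.Modules) :
    CohB1.tensorMod (dual (dual ((pf π).obj (Coh.structureModule X)))) ((pf π).obj R) ⟶
      (pf π).obj R :=
  tmap (bd π hE).inv (𝟙 _) ≫ act π R

/-- `π_* R ⟶ (π_* O)^∨ ⊗ M` attached to `π_* R ⟶ M`. -/
def tr (R : X.Modules) {M : Z.Modules} (τ : (pf π).obj R ⟶ M) :
    (pf π).obj R ⟶ CohB1.tensorMod (dual ((pf π).obj (Coh.structureModule X))) M :=
  (DualAdj.adjunction hE.dual).homEquiv _ _ (actD π hE R ≫ τ)

theorem comp_tr {R : X.Modules} {M G : Z.Modules} (τ : (pf π).obj R ⟶ M) (a : G ⟶ (pf π).obj R) :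
    a ≫ tr π hE R τ = (DualAdj.adjunction hE.dual).homEquiv _ _
      (tmap (bd π hE).inv (𝟙 _) ≫ (tmap (𝟙 _) a ≫ act π R) ≫ τ) := by
  refine ((DualAdj.adjunction hE.dual).homEquiv_naturality_left a _).symm.trans (congrArg _ ?_)
  change tmap (𝟙 _) a ≫ (tmap (bd π hE).inv (𝟙 _) ≫ act π R) ≫ τ = _
  have e1 : tmap (bd π hE).inv (𝟙 G) ≫ tmap (𝟙 _) a = tmap (bd π hE).inv a :=
    (Basic.tmap_comp _ _ _ _).symm.trans (by rw [Category.comp_id, Category.id_comp])
  simp only [← Category.assoc, ← Basic.tmap_comp, Category.id_comp, Category.comp_id, e1]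
  exact congrArg (fun z => (z ≫ act π R) ≫ τ) e1.symm

theorem isIso_tr {R : X.Modules} [R.IsQuasicoherent] {M : Z.Modules}
    (hQ : (CohB1.tensorMod (dual ((pf π).obj (Coh.structureModule X))) M).IsQuasicoherent)
    (τ : (pf π).obj R ⟶ M)
    (huniv : ∀ F : X.Modules, F.IsQuasicoherent →
      Function.Bijective (fun φ : F ⟶ R => (pf π).map φ ≫ τ)) :
    IsIso (tr π hE R τ) := by
  refine isIso_of_yoneda _ (QCoh.Pushforward.isQCoh_pushforward π) hQ fun G hG => ?_
  haveI := hG
  haveI := QCoh.Pullback.isQCoh_pullback π G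
  let P : (G ⟶ (pf π).obj R) ≃ (G ⟶ CohB1.tensorMod (dual ((pf π).obj (Coh.structureModule X))) M) :=
    (((pbAdj π).homEquiv G R).symm.trans
      ((Equiv.ofBijective _ (huniv _ inferInstance)).trans
        ((gIso π G).symm ≪≫ tensorIso (bd π hE) (Iso.refl G)).homFromEquiv)).trans
      ((DualAdj.adjunction hE.dual).homEquiv _ _)
  convert P.bijective using 1
  funext a
  obtain ⟨b, rfl⟩ := ((pbAdj π).homEquiv G R).surjective a
  rw [comp_tr, key1]
  simp only [P, Equiv.trans_apply, Equiv.symm_apply_apply]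
  refine congrArg _ ?_
  simp [Iso.homFromEquiv, tensorIso, Category.assoc]
  rfl

theorem map_tr {R R' : X.Modules} {M : Z.Modules} (a : R ⟶ R') (τ : (pf π).obj R' ⟶ M) :
    (pf π).map a ≫ tr π hE R' τ = tr π hE R ((pf π).map a ≫ τ) := by
  rw [comp_tr, act_natural, tr, actD]
  simp only [Category.assoc]
  rfl

theorem contr_one {D : Z.Modules} {U : Z.Opens} (ψ : DualSec D U)
    (v : Γ(CohB1.tensorMod D (Coh.structureModule Z), U)) :
    contr ψ (Coh.structureModule Z) le_rfl v =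
      (show Γ(Coh.structureModule Z, U) from ψ.app le_rfl ((rightUnit D).hom.app U v)) := by
  have hv : v = tens ((rightUnit D).hom.app U v) (Gen.one Z U) := by
    rw [← ProjKoszul.Surj.rightUnit_inv_app, ← CategoryTheory.comp_apply,
      ← Scheme.Modules.Hom.comp_app, Iso.hom_inv_id]
    rfl
  conv_lhs => rw [hv]
  rw [contr_tens]
  exact mul_one (M := Γ(Z, U)) _

variable {ωπ : X.Modules} [ωπ.IsQuasicoherent]
  (τ₀ : (pf π).obj ωπ ⟶ Coh.structureModule Z)

/-- The evaluation attached to a module on the base. -/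
def sigma (M : Z.Modules) [M.IsQuasicoherent] :
    (pf π).obj (CohB1.tensorMod ((pb π).obj M) ωπ) ⟶ M :=
  (ProjAffine51.projIso π M ωπ).inv ≫ tmap (𝟙 M) τ₀ ≫ (rightUnit M).hom

theorem tr_tens {ω : X.Modules} (τ₀ : (pf π).obj ω ⟶ Coh.structureModule Z) {U : Z.Opens}
    (ψ : Γ(dual (dual ((pf π).obj (Coh.structureModule X))), U)) (p : Γ((pf π).obj ω, U)) :
    (toForm ψ).app le_rfl ((rightUnit _).hom.app U ((tr π hE ω τ₀).app U p)) =
      τ₀.app U ((act π ω).app U (tens ((bd π hE).inv.app U ψ) p)) := by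
  have hh : tmap (𝟙 _) (tr π hE ω τ₀) ≫
      counit (dual ((pf π).obj (Coh.structureModule X))) (Coh.structureModule Z) =
        actD π hE ω ≫ τ₀ := by
    exact ((DualAdj.adjunction hE.dual).homEquiv_counit (X := (pf π).obj ω)
      (Y := Coh.structureModule Z) (g := tr π hE ω τ₀)).symm.trans
        (((DualAdj.adjunction hE.dual).homEquiv ((pf π).obj ω)
          (Coh.structureModule Z)).symm_apply_apply (actD π hE ω ≫ τ₀))
  have hh' : (counit (dual ((pf π).obj (Coh.structureModule X))) (Coh.structureModule Z)).app U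
      ((tmap (𝟙 _) (tr π hE ω τ₀)).app U (tens ψ p)) =
        τ₀.app U ((act π ω).app U ((tmap (bd π hE).inv (𝟙 _)).app U (tens ψ p))) :=
    congrArg (fun t => t.app U (tens ψ p)) hh
  rw [tmap_tens, tmap_tens, counit_tens, contr_one] at hh'
  exact hh'

theorem act_theta (M : Z.Modules) (ω : X.Modules) {U : Z.Opens}
    (e : Γ((pf π).obj (Coh.structureModule X), U)) (m : Γ(M, U)) (p : Γ((pf π).obj ω, U)) :
    (act π (CohB1.tensorMod ((pb π).obj M) ω)).app U (tens e ((theta π M ω).app U (tens m p))) =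
      (theta π M ω).app U (tens m ((act π ω).app U (tens e p))) := by
  rw [act_tens, act_tens, theta_tens, theta_tens]
  exact (tens_smul_right _ _ _).symm

theorem sigma_theta (M : Z.Modules) [M.IsQuasicoherent] :
    theta π M ωπ ≫ sigma π τ₀ M = tmap (𝟙 M) τ₀ ≫ (rightUnit M).hom :=
  (ProjAffine51.projIso π M ωπ).hom_inv_id_assoc _

theorem tr_sigma (M : Z.Modules) [M.IsQuasicoherent] :
    (ProjAffine51.projIso π M ωπ).hom ≫
        tr π hE (CohB1.tensorMod ((pb π).obj M) ωπ) (sigma π τ₀ M) =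
      tmap (𝟙 M) (tr π hE ωπ τ₀ ≫ (rightUnit _).hom) ≫ (comm M _).hom := by
  apply ((DualAdj.adjunction hE.dual).homEquiv _ _).symm.injective
  refine ((congrArg _ ((DualAdj.adjunction hE.dual).homEquiv_naturality_left
    (ProjAffine51.projIso π M ωπ).hom _).symm).trans (Equiv.symm_apply_apply _ _)).trans ?_
  rw [Adjunction.homEquiv_counit]
  change tmap (𝟙 _) (theta π M ωπ) ≫ (tmap (bd π hE).inv (𝟙 _) ≫ act π _) ≫ sigma π τ₀ M =
    tmap (𝟙 _) (tmap (𝟙 M) (tr π hE ωπ τ₀ ≫ (rightUnit _).hom) ≫ (comm M _).hom) ≫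
      counit (dual ((pf π).obj (Coh.structureModule X))) M
  refine hom_ext3 fun U ψ m p => ?_
  simp only [Scheme.Modules.Hom.comp_app, CategoryTheory.comp_apply]
  rw [tmap_tens, tmap_tens, tmap_tens]
  simp only [Scheme.Modules.Hom.id_app, CategoryTheory.id_apply]
  rw [act_theta]
  refine (congrArg (fun t => t.app U (tens m ((act π ωπ).app U
    (tens ((bd π hE).inv.app U ψ) p)))) (sigma_theta π τ₀ M)).trans ?_
  simp only [Scheme.Modules.Hom.comp_app, CategoryTheory.comp_apply]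
  rw [tmap_tens, rightUnit_tens, ← tr_tens π hE τ₀ ψ p, tmap_tens]
  simp only [Scheme.Modules.Hom.id_app, CategoryTheory.id_apply, Scheme.Modules.Hom.comp_app,
    CategoryTheory.comp_apply]
  rw [comm_tens, counit_tens, contr_tens]

theorem isIso_tr_sigma (M : Z.Modules) [M.IsQuasicoherent]
    (h0 : IsIso (tr π hE ωπ τ₀)) :
    IsIso (tr π hE (CohB1.tensorMod ((pb π).obj M) ωπ) (sigma π τ₀ M)) := by
  haveI := h0
  haveI : IsIso (tmap (𝟙 M) (tr π hE ωπ τ₀ ≫ (rightUnit _).hom)) :=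
    (tensorIso (Iso.refl M) (asIso (tr π hE ωπ τ₀) ≪≫ rightUnit _)).isIso_hom
  have e := tr_sigma π hE τ₀ M
  haveI : IsIso ((ProjAffine51.projIso π M ωπ).hom ≫
      tr π hE (CohB1.tensorMod ((pb π).obj M) ωπ) (sigma π τ₀ M)) := by
    rw [e]; infer_instance
  exact IsIso.of_isIso_comp_left (ProjAffine51.projIso π M ωπ).hom _

end

/-- The direct image along an affine morphism reflects isomorphisms of quasi-coherent modules. -/
theorem isIso_of_isIso_map {R R' : X.Modules} [R.IsQuasicoherent] [R'.IsQuasicoherent]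
    (a : R ⟶ R') [IsIso ((pf π).map a)] : IsIso a := by
  refine H78.Formal.Sections.isIso_of_cover a fun x => ?_
  obtain ⟨V, hV, hx, -⟩ := exists_isAffineOpen_mem_and_subset (Opens.mem_top (π x))
  exact ⟨π ⁻¹ᵁ V, hV.preimage π, hx, H78.Formal.Sections.app_bijective ((pf π).map a) V⟩

section Flat

variable {ωπ ωX : X.Modules} [ωπ.IsQuasicoherent] [ωX.IsQuasicoherent]
  {M : Z.Modules} [M.IsQuasicoherent]

theorem nonempty_iso_of_flat [IsLocallyNoetherian Z] [IsFinite π] [Flat π]
    (τ₀ : (pf π).obj ωπ ⟶ Coh.structureModule Z)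
    (huniv₀ : ∀ F : X.Modules, F.IsQuasicoherent →
      Function.Bijective (fun φ : F ⟶ ωπ => (pf π).map φ ≫ τ₀))
    (τ : (pf π).obj ωX ⟶ M)
    (huniv : ∀ F : X.Modules, F.IsQuasicoherent →
      Function.Bijective (fun φ : F ⟶ ωX => (pf π).map φ ≫ τ)) :
    Nonempty (ωX ≅ CohB1.tensorMod ((pb π).obj M) ωπ) := by
  haveI : LocallyOfFinitePresentation π := inferInstance
  have hF := H81.PushLocFree.isFinLocFree_push π
  have hE : HasDBases ((pf π).obj (Coh.structureModule X)) := hasDBases_of_isFinLocFree hF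
  have hD : (dual ((pf π).obj (Coh.structureModule X))).IsQuasicoherent :=
    (SheafOfModules.isQuasicoherent Z.ringCatSheaf).prop_of_iso
      (RefHull.DualComp.dualIso ((pf π).obj (Coh.structureModule X)))
      (Modules.AffineSections.isQCoh_of_isFinLocFree
        (H78.Faithful.HomLocFree.isFinLocFree_homSh hF
          (TensorMod.LocFree.of_rank (TensorMod.LocFree.of_isInvertible
            (ParaF.Pair.isInvertible_structureModule Z)))))
  haveI := hD
  haveI := QCohInv.isQCoh_structureModule Z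
  haveI := QCoh.Pullback.isQCoh_pullback π M
  haveI : (CohB1.tensorMod ((pb π).obj M) ωπ).IsQuasicoherent :=
    TensorQCoh.isQCoh_tensorMod _ _
  have h0 : IsIso (tr π hE ωπ τ₀) :=
    isIso_tr π hE (TensorQCoh.isQCoh_tensorMod _ _) τ₀ huniv₀
  haveI := isIso_tr π hE (TensorQCoh.isQCoh_tensorMod _ M) τ huniv
  haveI := isIso_tr_sigma π hE τ₀ M h0
  obtain ⟨φ, hφ⟩ := (huniv (CohB1.tensorMod ((pb π).obj M) ωπ) inferInstance).2 (sigma π τ₀ M)
  have hφ' : (pf π).map φ ≫ τ = sigma π τ₀ M := hφ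
  haveI : IsIso ((pf π).map φ ≫ tr π hE ωX τ) := by
    rw [map_tr, hφ']; infer_instance
  haveI : IsIso ((pf π).map φ) := IsIso.of_isIso_comp_right _ (tr π hE ωX τ)
  haveI := isIso_of_isIso_map π φ
  exact ⟨(asIso φ).symm⟩

end Flat

end Groth.Agent.H95.FinTensor
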