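import Groth.Agent.H95.FinTensor

/-!
# The upper shriek of a finite morphism applied to a finite locally free module
-/

set_option autoImplicit false
set_option linter.style.haveILetI false

universe u

open CategoryTheory Limits AlgebraicGeometry Opposite TopologicalSpace

noncomputable section

namespace Groth.Agent.H95.FinTensor

open Groth.Agent Groth.Agent.Lib Groth.Agent.Lib.TensorMod
open Groth.Agent.Lib.TensorMod.Basic (tmap tensorFunctor comm rightUnit tensorIso)
open Groth.Agent.Lib.TensorMod.Pullback (pb pf pbAdj unitSec)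
open Groth.Agent.Lib.TensorMod.Dual (dual)
open Groth.Agent.Lib.Modules Groth.Agent.Lib.Modules.DualBasis
open Groth.Agent.Lib.Modules.DualAdj (tensorL)
open Groth.Agent.Lib.Modules.ProjFormula (theta)

variable {X Z : Scheme.{u}} (π : X ⟶ Z) {M : Z.Modules} {ωπ : X.Modules}
  (hM : HasDBases M) (hG : HasDBases ((pb π).obj M))
  (j : (pb π).obj (dual M) ≅ dual ((pb π).obj M))
  (τ₀ : (pf π).obj ωπ ⟶ Coh.structureModule Z)

/-- The transpose of a morphism into `π^* M ⊗ ωπ`. -/
def inner (F : X.Modules) (t : F ⟶ CohB1.tensorMod ((pb π).obj M) ωπ) :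
    CohB1.tensorMod ((pb π).obj (dual M)) F ⟶ ωπ :=
  tmap j.hom (𝟙 F) ≫ ((DualAdj.adjunction hG).homEquiv F ωπ).symm t

theorem inner_bijective (F : X.Modules) :
    Function.Bijective (inner π hG j (ωπ := ωπ) F) :=
  (tensorIso j (Iso.refl F)).symm.homFromEquiv.bijective.comp
    ((DualAdj.adjunction hG).homEquiv F ωπ).symm.bijective

theorem inner_natural {F F' : X.Modules} (a : F ⟶ F')
    (t : F' ⟶ CohB1.tensorMod ((pb π).obj M) ωπ) :
    inner π hG j F (a ≫ t) = tmap (𝟙 _) a ≫ inner π hG j F' t := by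
  have h1 : ((DualAdj.adjunction hG).homEquiv F ωπ).symm (a ≫ t) =
      tmap (𝟙 _) a ≫ ((DualAdj.adjunction hG).homEquiv F' ωπ).symm t :=
    (DualAdj.adjunction hG).homEquiv_naturality_left_symm a t
  refine (congrArg (tmap j.hom (𝟙 F) ≫ ·) h1).trans ?_
  have h2 : tmap j.hom (𝟙 F) ≫ tmap (𝟙 _) a = tmap (𝟙 _) a ≫ tmap j.hom (𝟙 F') := by
    rw [← Basic.tmap_comp, ← Basic.tmap_comp]
    simp only [Category.id_comp, Category.comp_id]
  exact (Category.assoc _ _ _).symm.trans
    ((congrArg (· ≫ ((DualAdj.adjunction hG).homEquiv F' ωπ).symm t) h2).trans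
      (Category.assoc _ _ _))

/-- The morphism `π_* F ⟶ M` attached to a morphism into `π^* M ⊗ ωπ`. -/
def outer (F : X.Modules) (t : F ⟶ CohB1.tensorMod ((pb π).obj M) ωπ) : (pf π).obj F ⟶ M :=
  (DualAdj.adjunction hM).homEquiv ((pf π).obj F) (Coh.structureModule Z)
    (theta π (dual M) F ≫ (pf π).map (inner π hG j F t) ≫ τ₀) ≫ (rightUnit M).hom

theorem outer_natural {F F' : X.Modules} (a : F ⟶ F')
    (t : F' ⟶ CohB1.tensorMod ((pb π).obj M) ωπ) :
    outer π hM hG j τ₀ F (a ≫ t) = (pf π).map a ≫ outer π hM hG j τ₀ F' t := by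
  have h1 : tmap (𝟙 _) ((pf π).map a) ≫ theta π (dual M) F' =
      theta π (dual M) F ≫ (pf π).map (tmap (𝟙 _) a) :=
    ProjFormula.theta_natural π a
  have h2 : theta π (dual M) F ≫ (pf π).map (inner π hG j F (a ≫ t)) ≫ τ₀ =
      tmap (𝟙 _) ((pf π).map a) ≫ theta π (dual M) F' ≫ (pf π).map (inner π hG j F' t) ≫ τ₀ := by
    rw [inner_natural, Functor.map_comp, Category.assoc]
    exact (Category.assoc _ _ _).symm.trans
      ((congrArg (· ≫ (pf π).map (inner π hG j F' t) ≫ τ₀) h1.symm).trans (Category.assoc _ _ _))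
  refine (congrArg (fun z => (DualAdj.adjunction hM).homEquiv ((pf π).obj F)
    (Coh.structureModule Z) z ≫ (rightUnit M).hom) h2).trans ?_
  have h3 : (DualAdj.adjunction hM).homEquiv ((pf π).obj F) (Coh.structureModule Z)
      ((tensorL (dual M)).map ((pf π).map a) ≫
        (theta π (dual M) F' ≫ (pf π).map (inner π hG j F' t) ≫ τ₀)) =
      (pf π).map a ≫ (DualAdj.adjunction hM).homEquiv ((pf π).obj F') (Coh.structureModule Z)
        (theta π (dual M) F' ≫ (pf π).map (inner π hG j F' t) ≫ τ₀) :=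
    (DualAdj.adjunction hM).homEquiv_naturality_left ((pf π).map a)
      (theta π (dual M) F' ≫ (pf π).map (inner π hG j F' t) ≫ τ₀)
  rw [DualAdj.tensorL_map] at h3
  rw [outer, ← Category.assoc]
  exact congrArg (· ≫ (rightUnit M).hom) h3

theorem outer_bijective (F : X.Modules)
    (h₀ : Function.Bijective (fun φ : CohB1.tensorMod ((pb π).obj (dual M)) F ⟶ ωπ =>
      (pf π).map φ ≫ τ₀)) :
    Function.Bijective (outer π hM hG j τ₀ F) := by
  let th : CohB1.tensorMod (dual M) ((pf π).obj F) ≅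
      (pf π).obj (CohB1.tensorMod ((pb π).obj (dual M)) F) :=
    @asIso _ _ _ _ (theta π (dual M) F) (ProjFormula.isIso_theta π hM.dual F)
  exact ((rightUnit M).homToEquiv.bijective.comp
    (((DualAdj.adjunction hM).homEquiv ((pf π).obj F) (Coh.structureModule Z)).bijective.comp
      (th.symm.homFromEquiv.bijective.comp (h₀.comp (inner_bijective π hG j F)))))

theorem nonempty_iso_of_locFree [IsLocallyNoetherian Z] [IsFinite π]
    {ωX : X.Modules} [ωπ.IsQuasicoherent] [ωX.IsQuasicoherent] [M.IsQuasicoherent]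
    (hMf : FlatMod.IsFinLocFree M)
    (huniv₀ : ∀ F : X.Modules, F.IsQuasicoherent →
      Function.Bijective (fun φ : F ⟶ ωπ => (pf π).map φ ≫ τ₀))
    (τ : (pf π).obj ωX ⟶ M)
    (huniv : ∀ F : X.Modules, F.IsQuasicoherent →
      Function.Bijective (fun φ : F ⟶ ωX => (pf π).map φ ≫ τ)) :
    Nonempty (ωX ≅ CohB1.tensorMod ((pb π).obj M) ωπ) := by
  haveI : IsLocallyNoetherian X := LocallyOfFiniteType.isLocallyNoetherian π
  have hM' : HasDBases M := hasDBases_of_isFinLocFree hMf
  have hG' : HasDBases ((pb π).obj M) := ProjFormula.hasDBases_pullback π hM'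
  obtain ⟨d⟩ := KVec.DualPullLite.nonempty_pullback_dual_iso π hMf
  let j' : (pb π).obj (dual M) ≅ dual ((pb π).obj M) :=
    (pb π).mapIso (RefHull.DualComp.dualIso M).symm ≪≫ d ≪≫ RefHull.DualComp.dualIso _
  haveI : (dual M).IsQuasicoherent :=
    (SheafOfModules.isQuasicoherent Z.ringCatSheaf).prop_of_iso (RefHull.DualComp.dualIso M)
      (Modules.AffineSections.isQCoh_of_isFinLocFree
        (H78.Faithful.HomLocFree.isFinLocFree_homSh hMf
          (TensorMod.LocFree.of_rank (TensorMod.LocFree.of_isInvertible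
            (ParaF.Pair.isInvertible_structureModule Z)))))
  haveI := QCoh.Pullback.isQCoh_pullback π (dual M)
  haveI := QCoh.Pullback.isQCoh_pullback π M
  haveI hT : (CohB1.tensorMod ((pb π).obj M) ωπ).IsQuasicoherent :=
    TensorQCoh.isQCoh_tensorMod _ _
  obtain ⟨φ, hφ⟩ := (huniv _ hT).2 (outer π hM' hG' j' τ₀ _ (𝟙 _))
  have hφ' : (pf π).map φ ≫ τ = outer π hM' hG' j' τ₀ _ (𝟙 _) := hφ
  have hiso : IsIso φ := by
    refine isIso_of_yoneda φ hT inferInstance fun F hF => ?_
    haveI := hF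
    have hb := outer_bijective π hM' hG' j' τ₀ F (huniv₀ _ (TensorQCoh.isQCoh_tensorMod _ _))
    refine (Function.Bijective.of_comp_iff' (huniv F hF) _).1 ?_
    convert hb using 1
    funext t
    change (pf π).map (t ≫ φ) ≫ τ = _
    rw [Functor.map_comp, Category.assoc, hφ', ← outer_natural, Category.comp_id]
  exact ⟨(asIso φ).symm⟩

end Groth.Agent.H95.FinTensor
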