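import Groth.Agent.Lib.FundLocal.Rank
import Groth.Agent.Lib.Synt92.SmoothAmbient
import Groth.Agent.Lib.Synt92.KRImm
import Groth.Agent.Lib.Synt92.MorStd
import Groth.Agent.H63.SectionOmega
import Groth.Agent.H95.ExtPowPullQ
import Groth.Agent.Lib.Conormal92.Affine
import Groth.Agent.Lib.TensorMod.LocFree
import Groth.Prelude.Def_RegImm
import Groth.Prelude.Def_Canon

/-!
# Sections of smooth separated morphisms are regular immersions
-/

set_option autoImplicit false
universe u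

namespace Groth.Agent.H95.GraphReg

open CategoryTheory AlgebraicGeometry in
/-- A closed immersion of smooth schemes is regular of the expected codimension. -/
theorem isRegular {S X Y : Scheme.{u}} (f : X ⟶ S) [Smooth f] (i : Y ⟶ X) [IsClosedImmersion i]
    [Smooth (i ≫ f)] (c : ℕ) (hC : FlatMod.IsFinLocFreeOfRank c (Omega.conormal i)) :
    RegImm.IsRegularImmersionOfCodim RegImm.Kind.regular c i := by
  refine ⟨inferInstance, fun z => ?_⟩
  obtain ⟨_, ⟨U, hU, rfl⟩, hzU, -⟩ :=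
    S.isBasis_affineOpens.exists_subset_of_mem_open (Set.mem_univ (f (i z))) isOpen_univ
  obtain ⟨⟨V, hV⟩, hzV, hVU, hcl⟩ :=
    Groth.Agent.Lib.Synt92.KRImm.exists_closed_chart i z (O := f ⁻¹ᵁ U) hzU
  obtain ⟨hW, hsurj⟩ := Groth.Agent.Lib.Synt92.KRImm.isAffine_preimage i hV hcl
  set W := i ⁻¹ᵁ V with hWdef
  have hWU : W ≤ (i ≫ f) ⁻¹ᵁ U := by
    rw [Scheme.Hom.comp_preimage]
    exact i.preimage_mono hVU
  letI : Algebra Γ(S, U) Γ(X, V) := (f.appLE U V hVU).hom.toAlgebra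
  haveI : Algebra.Smooth Γ(S, U) Γ(X, V) := RingHom.smooth_algebraMap.1 (f.smooth_appLE hU hV hVU)
  letI : Algebra Γ(S, U) Γ(Y, W) := ((i ≫ f).appLE U W hWU).hom.toAlgebra
  haveI : Algebra.Smooth Γ(S, U) Γ(Y, W) := RingHom.smooth_algebraMap.1 ((i ≫ f).smooth_appLE hU hW hWU)
  have hsyn : Synt.IsSyntomic Γ(S, U) Γ(Y, W) := Groth.Agent.Lib.Synt92.isSyntomic_of_smooth _ _
  let I := RingHom.ker (i.app V).hom
  have hI : Synt.IsSyntomic Γ(S, U) (Γ(X, V) ⧸ I) := by
    refine Groth.Agent.Lib.Synt92.MorStd.isSyntomic_of_arrow (RingEquiv.refl _)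
      (RingHom.quotientKerEquivOfSurjective hsurj) (fun a => ?_) hsyn
    show (i.app V).hom ((f.appLE U V hVU).hom a) = ((i ≫ f).appLE U W hWU).hom a
    rw [Scheme.Hom.app_eq_appLE, ← RingHom.comp_apply, ← CommRingCat.hom_comp, Scheme.Hom.appLE_comp_appLE]
  let P := (hV.primeIdealOf ⟨i z, hzV⟩).asIdeal
  haveI : P.IsPrime := (hV.primeIdealOf ⟨i z, hzV⟩).isPrime
  have hIP : I ≤ P := fun g hg => by
    by_contra h
    have h1 : z ∈ i ⁻¹ᵁ X.basicOpen g := (Groth.Agent.Lib.Synt92.KRImm.mem_basicOpen_iff hV g ⟨i z, hzV⟩).2 h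
    rw [Scheme.preimage_basicOpen] at h1
    erw [RingHom.mem_ker.1 hg, Scheme.basicOpen_zero] at h1
    exact h1
  obtain ⟨g, hg, l, hlI, hreg, hgl⟩ := Groth.Agent.Lib.Synt92.SmoothAmbient.exists_chart I hI P hIP
  haveI := hV.isLocalization_basicOpen g
  let r := algebraMap Γ(X, V) Γ(X, X.basicOpen g)
  have hker : RingHom.ker (i.app (X.basicOpen g)).hom = Ideal.ofList (l.map r) := by
    rw [Groth.Agent.Lib.Synt92.KRImm.ker_app_basicOpen _ hV hcl g, ← Ideal.map_ofList]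
    refine le_antisymm (Ideal.map_le_iff_le_comap.2 fun y hy => ?_) (Ideal.map_mono (Ideal.span_le.2 hlI))
    rw [Ideal.mem_comap]
    have h := Ideal.mem_map_of_mem r (hgl y hy)
    rw [map_mul] at h
    exact (Ideal.unit_mul_mem_iff_mem _ (IsLocalization.Away.algebraMap_isUnit g)).1 h
  have hzg : i z ∈ X.basicOpen g := (Groth.Agent.Lib.Synt92.KRImm.mem_basicOpen_iff hV g ⟨i z, hzV⟩).2 hg
  have hwreg : RingTheory.Sequence.IsWeaklyRegular Γ(X, X.basicOpen g) (l.map r) := by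
    let e := IsLocalization.algEquiv (Submonoid.powers g) (Localization.Away g) Γ(X, X.basicOpen g)
    refine (e.toRingEquiv.toAddEquiv.isWeaklyRegular_congr ?_).1 hreg
    rw [List.forall₂_map_left_iff, List.forall₂_map_right_iff, List.forall₂_same]
    intro a _ x
    change e (algebraMap _ _ a * x) = r a * e x
    rw [map_mul, e.commutes]
  have hlen : (l.map r).length = c := by
    obtain ⟨U₁, hz₁, ⟨i₁⟩⟩ := hC z
    refine Groth.Agent.Lib.FundLocal.Rank.length_eq i (hV.basicOpen g) (l.map r).get ?_ ?_ hzg i₁ hz₁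
    · rw [List.ofFn_get]
      exact hwreg
    · rw [hker, Ideal.ofList, Set.range_list_get]
  refine ⟨⟨X.basicOpen g, hV.basicOpen g⟩, hzg,
    Groth.Agent.Lib.Synt92.KRImm.closed_of_le _ (X.basicOpen_le g) hcl, l.map r, hlen, ⟨hwreg, ?_⟩, hker⟩
  rw [smul_eq_mul, Ideal.mul_top, ← hker]
  intro h
  have h1 : (1 : Γ(X, X.basicOpen g)) ∈ RingHom.ker (i.app (X.basicOpen g)).hom := h ▸ Submodule.mem_top
  rw [RingHom.mem_ker, map_one] at h1
  have h2 : z ∈ Y.basicOpen (1 : Γ(Y, i ⁻¹ᵁ X.basicOpen g)) := by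
    rw [Y.basicOpen_of_isUnit isUnit_one]; exact hzg
  rw [h1, Scheme.basicOpen_zero] at h2
  exact h2

open CategoryTheory CategoryTheory.Limits AlgebraicGeometry in
/-- A section of a smooth separated morphism: regular immersion, conormal sheaf the differentials. -/
theorem section_spec {S X : Scheme.{u}} (f : X ⟶ S) (n : ℕ) [SmoothOfRelativeDimension n f] [IsSeparated f]
    (i : S ⟶ X) (hi : i ≫ f = 𝟙 S) :
    RegImm.IsRegularImmersionOfCodim RegImm.Kind.regular n i ∧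
      Nonempty ((Scheme.Modules.pullback i).obj (Omega.sheaf f) ≅ Omega.conormal i) := by
  haveI : IsClosedImmersion i := by
    haveI : IsClosedImmersion (i ≫ f) := by rw [hi]; infer_instance
    exact IsClosedImmersion.of_comp i f
  haveI : Smooth f := SmoothOfRelativeDimension.smooth n f
  haveI : Smooth (i ≫ f) := by rw [hi]; infer_instance
  obtain ⟨e⟩ := Groth.Agent.H63.SectionOmega.nonempty_conormal_iso_of_section f i hi
    (Groth.Agent.Lib.Kaehler.DOmega.isUniversal_dOmega f)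
  refine ⟨isRegular f i n (fun y => ?_), ⟨e⟩⟩
  obtain ⟨U, hU, ⟨e'⟩⟩ := Groth.Agent.Lib.FundLocal.Rank.isFinLocFreeOfRank_omega f n (i y)
  obtain ⟨e''⟩ : Nonempty _ := ⟨Groth.Agent.Lib.TensorMod.LocFree.pullback_iso_of_restrict_iso i e'⟩
  exact ⟨i ⁻¹ᵁ U, hU, ⟨(Scheme.Modules.restrictFunctor (i ⁻¹ᵁ U).ι).mapIso e.symm ≪≫ e''.some⟩⟩

end Groth.Agent.H95.GraphReg
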