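import Groth.Agent.Lib.SiteCoh.OverForget
import Groth.Agent.Lib.ModSS29.ExtAdj
import Groth.Prelude.Def_E1Deg2
import Mathlib.CategoryTheory.Sites.Over

/-!
# Cohomology over an object as cohomology of the localised site
-/

universe u

open CategoryTheory Limits Opposite Abelian

namespace Groth.Agent.H95.HUOver

open Groth.Agent.Lib.SiteCoh

variable {C : Type u} [SmallCategory C] (J : GrothendieckTopology C) (U : C)

/-- The free sheaf on `U` is the extension by zero of the free sheaf on the terminal object over `U`. -/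
noncomputable def pullFreeIso :
    ((Over.forget U).sheafPullback AddCommGrpCat.{u} (J.over U) J).obj
      (CohCx.freeSheaf (J.over U) (Over.mk (𝟙 U))) ≅ CohCx.freeSheaf J U :=
  (Coyoneda.fullyFaithful.preimageIso (NatIso.ofComponents
    (fun F => ((((Over.forget U).sheafAdjunctionContinuous AddCommGrpCat.{u} (J.over U) J).homEquiv _ F).trans
      ((Basic.homEquiv' (Over.mk (𝟙 U)) _).trans (Basic.homEquiv' U F).symm)).toIso)
    (fun {F G} φ => by
      ext f
      change (Basic.homEquiv U G).symm ((Basic.homEquiv (Over.mk (𝟙 U)) _)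
          (((Over.forget U).sheafAdjunctionContinuous AddCommGrpCat.{u} (J.over U) J).homEquiv _ G (f ≫ φ))) =
        (Basic.homEquiv U F).symm ((Basic.homEquiv (Over.mk (𝟙 U)) _)
          (((Over.forget U).sheafAdjunctionContinuous AddCommGrpCat.{u} (J.over U) J).homEquiv _ F f)) ≫ φ
      rw [Adjunction.homEquiv_naturality_right, Basic.homEquiv_comp]
      exact (Basic.homEquiv_symm_comp _ φ).symm))).unop.symm

theorem nonempty_equiv (F : Sheaf J AddCommGrpCat.{u}) (n : ℕ) :
    Nonempty (CohSite.HU F n U ≃+ Sheaf.H.{u} (F.over U) n) := by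
  obtain ⟨e⟩ := Groth.Agent.Lib.ModSS29.ExtAdj.nonempty_adjEquiv
    ((Over.forget U).sheafAdjunctionContinuous AddCommGrpCat.{u} (J.over U) J)
    (CohCx.freeSheaf (J.over U) (Over.mk (𝟙 U))) F n
  exact ⟨((Basic.huEquiv F n U).trans (E1Deg.extCongrLeft (pullFreeIso J U).symm F n)).trans
    (e.trans (E1Deg.extCongrLeft
      (E1Deg.freeSheafIsoConstant (J := J.over U) Over.mkIdTerminal) _ n))⟩

end Groth.Agent.H95.HUOver
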