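import Groth.Agent.H95.HUOver
import Groth.Agent.Lib.SiteCoh.Pushforward
import Mathlib.CategoryTheory.Functor.Flat
import Mathlib.CategoryTheory.Limits.Constructions.LimitsOfProductsAndEqualizers

/-!
# Cohomology along continuous cocontinuous functors
-/

set_option linter.style.haveILetI false
set_option linter.unusedSectionVars false

universe u

open CategoryTheory Limits Opposite Abelian

namespace Groth.Agent.H95.HUPush

open Groth.Agent.Lib.SiteCoh

variable {C D : Type u} [SmallCategory C] [SmallCategory D]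
  {J : GrothendieckTopology C} {K : GrothendieckTopology D} (u : C ⥤ D)
  [u.IsContinuous J K] [u.IsCocontinuous J K]

/-- The inverse image along a continuous cocontinuous functor. -/
noncomputable abbrev pb : Sheaf K AddCommGrpCat.{u} ⥤ Sheaf J AddCommGrpCat.{u} := CohSite.push K J u

instance pb_preservesFiniteLimits : PreservesFiniteLimits (pb (J := J) (K := K) u) :=
  haveI : PreservesLimitsOfSize.{0, 0} (pb (J := J) (K := K) u) :=
    (u.sheafAdjunctionContinuous AddCommGrpCat.{u} J K).rightAdjoint_preservesLimits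
  PreservesLimitsOfSize.preservesFiniteLimits _

instance pb_preservesFiniteColimits : PreservesFiniteColimits (pb (J := J) (K := K) u) :=
  haveI : PreservesColimitsOfSize.{0, 0} (pb (J := J) (K := K) u) :=
    (u.sheafAdjunctionCocontinuous AddCommGrpCat.{u} J K).leftAdjoint_preservesColimits
  PreservesColimitsOfSize.preservesFiniteColimits _

/-- The comparison in degree zero. -/
noncomputable def e₀ (F : Sheaf K AddCommGrpCat.{u}) (U : C) :
    Ext (CohCx.freeSheaf J U) ((pb (J := J) (K := K) u).obj F) 0 ≃+ Ext (CohCx.freeSheaf K (u.obj U)) F 0 :=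
  (Basic.ext0Equiv ((pb (J := J) (K := K) u).obj F) U).trans (Basic.ext0Equiv F (u.obj U)).symm

lemma e₀_comp {F G : Sheaf K AddCommGrpCat.{u}} (φ : F ⟶ G) (U : C)
    (x : Ext (CohCx.freeSheaf J U) ((pb (J := J) (K := K) u).obj F) 0) :
    e₀ u G U (x.comp (Ext.mk₀ ((pb (J := J) (K := K) u).map φ)) (add_zero 0)) =
      (e₀ u F U x).comp (Ext.mk₀ φ) (add_zero 0) := by
  refine (Basic.ext0Equiv G (u.obj U)).injective ?_
  refine ((Basic.ext0Equiv G (u.obj U)).apply_symm_apply _).trans (Eq.trans ?_ (Basic.ext0Equiv_comp_mk₀ φ (u.obj U) _).symm)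
  refine (Basic.ext0Equiv_comp_mk₀ ((pb (J := J) (K := K) u).map φ) U x).trans ?_
  exact congrArg (φ.hom.app (op (u.obj U))) ((Basic.ext0Equiv F (u.obj U)).apply_symm_apply (Basic.ext0Equiv ((pb (J := J) (K := K) u).obj F) U x)).symm

/-- Connecting maps into vanishing groups are bijective. -/
lemma bijective_δ {A : Type*} [Category A] [Abelian A] [HasExt.{u} A] (P : A) {S : ShortComplex A}
    (hS : S.ShortExact) (m : ℕ) (h : ∀ q, ∀ x : Ext P S.X₂ (q + 1), x = 0) :
    Function.Bijective fun y : Ext P S.X₃ (m + 1) => y.comp hS.extClass (show m + 1 + 1 = m + 2 from rfl) := by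
  constructor
  · intro a b hab
    have h0 : (a - b).comp hS.extClass (show m + 1 + 1 = m + 2 from rfl) = 0 := by
      rw [sub_eq_add_neg, Ext.add_comp, Ext.neg_comp, ← sub_eq_add_neg, sub_eq_zero]
      exact hab
    obtain ⟨x, hx⟩ := Ext.covariant_sequence_exact₃ P hS (a - b) (show m + 1 + 1 = m + 2 from rfl) h0
    rw [h m x, Ext.zero_comp] at hx
    exact sub_eq_zero.1 hx.symm
  · intro x
    exact Ext.covariant_sequence_exact₁ P hS x (h (m + 1) _) rfl

/-- The connecting map from degree zero. -/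
noncomputable def δ₀ {A : Type*} [Category A] [Abelian A] [HasExt.{u} A] (P : A) {S : ShortComplex A}
    (hS : S.ShortExact) : Ext P S.X₃ 0 →+ Ext P S.X₁ 1 :=
  AddMonoidHom.mk' (fun y => y.comp hS.extClass (zero_add 1)) fun a b => Ext.add_comp a b _ _

lemma ker_δ₀_iff {A : Type*} [Category A] [Abelian A] [HasExt.{u} A] (P : A) {S : ShortComplex A}
    (hS : S.ShortExact) (y : Ext P S.X₃ 0) :
    y ∈ (δ₀ P hS).ker ↔ ∃ x : Ext P S.X₂ 0, x.comp (Ext.mk₀ S.g) (add_zero 0) = y := by
  constructor
  · exact fun hy => Ext.covariant_sequence_exact₃ P hS y (zero_add 1) hy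
  · rintro ⟨x, rfl⟩
    change (x.comp (Ext.mk₀ S.g) (add_zero 0)).comp hS.extClass (zero_add 1) = 0
    rw [Ext.comp_assoc (a₁₂ := 0) (a₂₃ := 1) _ _ _ (add_zero 0) (zero_add 1) (by omega),
      ShortComplex.ShortExact.comp_extClass, Ext.comp_zero]

variable (U : C) (hvan : ∀ (I : Sheaf K AddCommGrpCat.{u}) [Injective I] (q : ℕ),
  Subsingleton (CohSite.HU ((pb (J := J) (K := K) u).obj I) (q + 1) U))

include hvan in
theorem nonempty_ext_equiv : ∀ (p : ℕ) (F : Sheaf K AddCommGrpCat.{u}),
    Nonempty (Ext (CohCx.freeSheaf J U) ((pb (J := J) (K := K) u).obj F) p ≃+ Ext (CohCx.freeSheaf K (u.obj U)) F p)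
  | 0, F => ⟨e₀ u F U⟩
  | 1, F => by
    have hS := Kill.embSES_shortExact F
    have hS' := hS.map_of_exact (pb (J := J) (K := K) u)
    let a : Ext (CohCx.freeSheaf K (u.obj U)) (Kill.embSES F).X₃ 0 →+ Ext (CohCx.freeSheaf J U) ((pb (J := J) (K := K) u).obj F) 1 :=
      (δ₀ (CohCx.freeSheaf J U) hS').comp (e₀ u (Kill.embSES F).X₃ U).symm.toAddMonoidHom
    let b : Ext (CohCx.freeSheaf K (u.obj U)) (Kill.embSES F).X₃ 0 →+ Ext (CohCx.freeSheaf K (u.obj U)) F 1 :=
      δ₀ (CohCx.freeSheaf K (u.obj U)) hS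
    have ha : Function.Surjective a := by
      intro x
      obtain ⟨y, hy⟩ := Ext.covariant_sequence_exact₁ (n₀ := 0) _ hS' x
        ((Basic.subsingleton_hu_iff _ _ _).1 (hvan (Kill.embSES F).X₂ 0) _) rfl
      exact ⟨e₀ u (Kill.embSES F).X₃ U y, (congrArg (δ₀ (CohCx.freeSheaf J U) hS') (AddEquiv.symm_apply_apply _ y)).trans hy⟩
    have hb : Function.Surjective b := fun x =>
      Ext.covariant_sequence_exact₁ (n₀ := 0) _ hS x (Ext.eq_zero_of_injective _) rfl
    have hk : a.ker = b.ker := by
      ext y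
      change (e₀ u (Kill.embSES F).X₃ U).symm y ∈ (δ₀ (CohCx.freeSheaf J U) hS').ker ↔ y ∈ b.ker
      refine (ker_δ₀_iff _ hS' _).trans (Iff.trans ?_ (ker_δ₀_iff _ hS _).symm)
      constructor
      · rintro ⟨x, hx⟩
        exact ⟨e₀ u (Kill.embSES F).X₂ U x, (e₀_comp u (Kill.embSES F).g U x).symm.trans
          ((congrArg (e₀ u (Kill.embSES F).X₃ U) hx).trans (AddEquiv.apply_symm_apply _ y))⟩
      · rintro ⟨x, hx⟩
        obtain ⟨x, rfl⟩ := (e₀ (J := J) u (Kill.embSES F).X₂ U).surjective x
        refine ⟨x, (e₀ u (Kill.embSES F).X₃ U).injective ?_⟩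
        exact ((e₀_comp u (Kill.embSES F).g U x).trans hx).trans (AddEquiv.apply_symm_apply _ y).symm
    exact ⟨(QuotientAddGroup.quotientKerEquivOfSurjective a ha).symm.trans
      ((QuotientAddGroup.quotientAddEquivOfEq hk).trans (QuotientAddGroup.quotientKerEquivOfSurjective b hb))⟩
  | m + 2, F => by
    have hS := Kill.embSES_shortExact F
    have hS' := hS.map_of_exact (pb (J := J) (K := K) u)
    obtain ⟨e⟩ := nonempty_ext_equiv (m + 1) (Kill.embSES F).X₃
    let a : Ext (CohCx.freeSheaf J U) ((pb (J := J) (K := K) u).obj (Kill.embSES F).X₃) (m + 1) ≃+ Ext (CohCx.freeSheaf J U) ((pb (J := J) (K := K) u).obj F) (m + 2) :=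
      AddEquiv.ofBijective (AddMonoidHom.mk' (fun y : Ext (CohCx.freeSheaf J U) ((pb (J := J) (K := K) u).obj (Kill.embSES F).X₃) (m + 1) => y.comp hS'.extClass (show m + 1 + 1 = m + 2 from rfl)) fun a b => Ext.add_comp a b _ _)
        (bijective_δ _ hS' m fun q => (Basic.subsingleton_hu_iff _ _ _).1 (hvan (Kill.embSES F).X₂ q))
    let b : Ext (CohCx.freeSheaf K (u.obj U)) (Kill.embSES F).X₃ (m + 1) ≃+ Ext (CohCx.freeSheaf K (u.obj U)) F (m + 2) :=
      AddEquiv.ofBijective (AddMonoidHom.mk' (fun y : Ext (CohCx.freeSheaf K (u.obj U)) (Kill.embSES F).X₃ (m + 1) => y.comp hS.extClass (show m + 1 + 1 = m + 2 from rfl)) fun a b => Ext.add_comp a b _ _)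
        (bijective_δ _ hS m fun q x => Ext.eq_zero_of_injective x)
    exact ⟨a.symm.trans (e.trans b)⟩

include hvan in
theorem nonempty_hu_equiv (F : Sheaf K AddCommGrpCat.{u}) (p : ℕ) :
    Nonempty (CohSite.HU ((pb (J := J) (K := K) u).obj F) p U ≃+ CohSite.HU F p (u.obj U)) := by
  obtain ⟨e⟩ := nonempty_ext_equiv u U hvan p F
  exact ⟨((Basic.huEquiv _ p U).trans e).trans (Basic.huEquiv F p (u.obj U)).symm⟩

omit U

/-- Inverse images along flat functors are exact. -/
theorem preservesFiniteLimits_sheafPullback {C D : Type u} [SmallCategory C] [SmallCategory D]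
    (J : GrothendieckTopology C) (K : GrothendieckTopology D) (v : C ⥤ D) [v.IsContinuous J K]
    [RepresentablyFlat v] : PreservesFiniteLimits (v.sheafPullback (Type u) J K) := by
  have : PreservesFiniteLimits (v.op.lan : (Cᵒᵖ ⥤ Type u) ⥤ _) := inferInstance
  exact Functor.sheafPullbackConstruction.preservesFiniteLimits v (Type u) J K

variable [HasPullbacks C] (hu : CoverPreserving J K u) [PreservesLimitsOfShape WalkingCospan u]

theorem subsingleton_hu_of_terminal [HasTerminal C] [PreservesLimit (Functor.empty.{0} C) u]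
    (I : Sheaf K AddCommGrpCat.{u}) [Injective I] (U : C) (q : ℕ) :
    Subsingleton (CohSite.HU ((pb (J := J) (K := K) u).obj I) (q + 1) U) := by
  have : PreservesLimitsOfShape (Discrete PEmpty.{1}) u := preservesLimitsOfShape_pempty_of_preservesTerminal u
  have : HasFiniteLimits C := hasFiniteLimits_of_hasTerminal_and_pullbacks
  have : PreservesFiniteLimits u := preservesFiniteLimits_of_preservesTerminal_and_pullbacks u
  have : RepresentablyFlat u := flat_of_preservesFiniteLimits u
  have := preservesFiniteLimits_sheafPullback J K u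
  exact Pushforward.subsingleton_hu_push_injective I U q

include hu in
theorem subsingleton_hu (I : Sheaf K AddCommGrpCat.{u}) [Injective I] (U : C) (q : ℕ) :
    Subsingleton (CohSite.HU ((pb (J := J) (K := K) u).obj I) (q + 1) U) := by
  let v : Over U ⥤ Over (u.obj U) := Over.post u
  have : HasTerminal (Over U) := Over.mkIdTerminal.hasTerminal
  have : HasFiniteLimits (Over U) := hasFiniteLimits_of_hasTerminal_and_pullbacks
  have hp : PreservesLimitsOfShape WalkingCospan v := by
    have : PreservesLimitsOfShape WalkingCospan (v ⋙ Over.forget (u.obj U)) :=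
      inferInstanceAs (PreservesLimitsOfShape WalkingCospan (Over.forget U ⋙ u))
    exact preservesLimitsOfShape_of_reflects_of_preserves v (Over.forget (u.obj U))
  have ht : PreservesLimit (Functor.empty.{0} (Over U)) v :=
    preservesLimit_of_preserves_limit_cone Over.mkIdTerminal
      ((isLimitMapConeEmptyConeEquiv v (Over.mk (𝟙 U))).symm
        (IsTerminal.ofIso Over.mkIdTerminal (Over.isoMk (Iso.refl _) ((Category.id_comp _).trans (u.map_id U)))))
  have : PreservesLimitsOfShape (Discrete PEmpty.{1}) v := preservesLimitsOfShape_pempty_of_preservesTerminal v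
  have : PreservesFiniteLimits v := preservesFiniteLimits_of_preservesTerminal_and_pullbacks v
  have : RepresentablyFlat v := flat_of_preservesFiniteLimits v
  have : v.IsContinuous (J.over U) (K.over (u.obj U)) :=
    Functor.isContinuous_of_coverPreserving (compatiblePreservingOfFlat _ _) (hu.overPost U)
  have := preservesFiniteLimits_sheafPullback (J.over U) (K.over (u.obj U)) v
  have hinj : Injective (I.over (u.obj U)) :=
    Functor.PreservesInjectiveObjects.injective_obj (F := CohSite.push K (K.over (u.obj U)) (Over.forget (u.obj U))) inferInstance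
  have h := Pushforward.subsingleton_hu_push_injective (u := v) (K := J.over U) (I.over (u.obj U)) (Over.mk (𝟙 U)) q
  obtain ⟨e⟩ := HUOver.nonempty_equiv J U ((pb (J := J) (K := K) u).obj I) (q + 1)
  let i : (CohSite.push (K.over (u.obj U)) (J.over U) v).obj (I.over (u.obj U)) ≅ ((pb (J := J) (K := K) u).obj I).over U :=
    (sheafToPresheaf _ _).preimageIso (Iso.refl _)
  let g := (E1Deg.extCongrLeft (E1Deg.freeSheafIsoConstant (J := J.over U) Over.mkIdTerminal)
      ((CohSite.push (K.over (u.obj U)) (J.over U) v).obj (I.over (u.obj U))) (q + 1)).symm.trans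
    (Basic.huEquiv ((CohSite.push (K.over (u.obj U)) (J.over U) v).obj (I.over (u.obj U))) (q + 1) (Over.mk (𝟙 U))).symm
  have h2 : Subsingleton (Sheaf.H.{u} ((CohSite.push (K.over (u.obj U)) (J.over U) v).obj (I.over (u.obj U))) (q + 1)) :=
    g.toEquiv.subsingleton
  have h3 : Subsingleton (Sheaf.H.{u} (((pb (J := J) (K := K) u).obj I).over U) (q + 1)) := by
    refine subsingleton_of_forall_eq 0 fun x => ?_
    have hx : x.comp (Ext.mk₀ i.inv) (add_zero _) = 0 := h2.elim _ _
    have := congrArg (fun y => Ext.comp y (Ext.mk₀ i.hom) (add_zero (q + 1))) hx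
    simpa using this
  exact e.toEquiv.subsingleton

omit [u.IsCocontinuous J K] in
theorem nonempty_h_equiv_terminal {T : C} (hT : IsTerminal T) (F : Sheaf J AddCommGrpCat.{u}) (p : ℕ) :
    Nonempty (Sheaf.H.{u} F p ≃+ CohSite.HU F p T) :=
  ⟨(E1Deg.extCongrLeft (E1Deg.freeSheafIsoConstant (J := J) hT) F p).symm.trans (Basic.huEquiv F p T).symm⟩

end Groth.Agent.H95.HUPush
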