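import Groth.Agent.H95.HodgeLefschetz

/-!
# Hodge cohomology of a smooth divisor with vanishing negative twists
-/

set_option autoImplicit false
set_option linter.style.haveILetI false
universe u

open CategoryTheory CategoryTheory.Limits AlgebraicGeometry Opposite TopologicalSpace

noncomputable section

namespace Groth.Agent.H95.HodgeCompare

open Groth.Agent.Lib
open Groth.Agent.H95.HodgeLefschetz (injective_g surjective_g)
open Groth.Agent.Lib.TensorMod.Basic (assoc comm tensorIso leftUnit rightUnit)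

variable {k : Type u} [Field k] {X : Scheme.{u}} [X.Over (Spec (CommRingCat.of k))]
  [Smooth (X ↘ Spec (CommRingCat.of k))] [QuasiSeparated (X ↘ Spec (CommRingCat.of k))]

/-- A smooth divisor whose negative twists kill low Hodge cohomology has the same low Hodge cohomology. -/
theorem compare (D : X.IdealSheafData) [D.subscheme.Over (Spec (CommRingCat.of k))]
    (hover : D.subscheme ↘ Spec (CommRingCat.of k) = D.subschemeι ≫ (X ↘ Spec (CommRingCat.of k)))
    [Smooth (D.subscheme ↘ Spec (CommRingCat.of k))] [QuasiSeparated (D.subscheme ↘ Spec (CommRingCat.of k))]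
    (hI : PicF.IsInvertible (_root_.ClSub.idealMod D)) {n : ℕ}
    (hvan : ∀ b a j, 1 ≤ j → b + a ≤ n → ∀ E : X.Modules,
      ExtPow.IsExtPow b (Omega.sheaf (X ↘ Spec (CommRingCat.of k))) E →
      Subsingleton (Coh.HH X (CohB1.tensorMod E (CohB1.tensorPow (_root_.ClSub.idealMod D) j)) a))
    (p q : ℕ) (OmX : X.Modules) (hOmX : ExtPow.IsExtPow p (Omega.sheaf (X ↘ Spec (CommRingCat.of k))) OmX)
    (OmY : D.subscheme.Modules)
    (hOmY : ExtPow.IsExtPow p (Omega.sheaf (D.subscheme ↘ Spec (CommRingCat.of k))) OmY) :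
    p + q ≤ n → ∃ g : Coh.HH X OmX q →ₗ[k] Coh.HH D.subscheme OmY q,
      Function.Injective g ∧ (p + q < n → Function.Surjective g) := by
  have hΩ : FlatMod.IsFinLocFree (Omega.sheaf (X ↘ Spec (CommRingCat.of k))) :=
    Kaehler.LocFree.isFinLocFree_of_smooth (Kaehler.DOmega.isUniversal_dOmega (X ↘ Spec (CommRingCat.of k)))
  obtain ⟨W⟩ := WedgeLine.exists_fam hΩ
  let i := D.subschemeι
  let I := _root_.ClSub.idealMod D
  rw [hover] at hOmY
  haveI : Smooth (i ≫ (X ↘ Spec (CommRingCat.of k))) := hover ▸ ‹Smooth (D.subscheme ↘ Spec (CommRingCat.of k))›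
  haveI : QuasiSeparated (i ≫ (X ↘ Spec (CommRingCat.of k))) :=
    hover ▸ ‹QuasiSeparated (D.subscheme ↘ Spec (CommRingCat.of k))›
  -- the conormal sheaf
  let C := (Scheme.Modules.pullback i).obj I
  have hker : i.ker = D := Scheme.IdealSheafData.ker_subschemeι D
  let eC : Omega.conormal i ≅ C :=
    eqToIso (show Omega.conormal i = (Scheme.Modules.pullback i).obj (_root_.ClSub.idealMod D) by
      rw [Omega.conormal, hker])
  have hC : PicF.IsInvertible C := PicLoc.isInvertible_pullback i hI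
  have hC1 := TensorMod.LocFree.of_isInvertible (TensorMod.Invertible.isInvertible_of_iso eC.symm hC)
  obtain ⟨φ, c, w, hseq⟩ := HypersurfaceHodge.exists_seq (X ↘ Spec (CommRingCat.of k)) i
  have hΩY : FlatMod.IsFinLocFree (Omega.sheaf (i ≫ (X ↘ Spec (CommRingCat.of k)))) :=
    Kaehler.LocFree.isFinLocFree_of_smooth
      (Kaehler.DOmega.isUniversal_dOmega (i ≫ (X ↘ Spec (CommRingCat.of k))))
  have hΩXY := TensorMod.LocFree.isFinLocFree_pullback i hΩ
  obtain ⟨F₂⟩ := WedgeLine.exists_fam hΩXY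
  obtain ⟨G⟩ := WedgeLine.exists_fam hΩY
  have hW : ∀ b, Nonempty (F₂.L b ≅ (Scheme.Modules.pullback i).obj (W.L b)) := fun b =>
    ExtFilt.Lambda.nonempty_iso_of_isExtPow (WedgeLine.fam_isExtPow F₂ b)
      (haveI := Modules.AffineSections.isQCoh_of_isFinLocFree hΩ
       ExtPowPullQ.isExtPow_pullback i (WedgeLine.fam_isExtPow W b) (Iso.refl _))
  have h0 : Nonempty (F₂.L 0 ≅ G.L 0) := by
    obtain ⟨e₁⟩ := ExtFilt.Lambda.nonempty_iso_of_isExtPow (WedgeLine.fam_isExtPow F₂ 0)
      (ExtFilt.Lambda.isExtPow_zero _)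
    obtain ⟨e₂⟩ := ExtFilt.Lambda.nonempty_iso_of_isExtPow (WedgeLine.fam_isExtPow G 0)
      (ExtFilt.Lambda.isExtPow_zero _)
    exact ⟨e₁ ≪≫ e₂.symm⟩
  have hF₂ : ∀ b a j, b + a + 1 ≤ n → 1 ≤ j →
      Subsingleton (Coh.HH D.subscheme (CohB1.tensorMod (CohB1.tensorPow C j) (F₂.L b)) a) := by
    intro b a j hab hj
    obtain ⟨eW⟩ := hW b
    let E := CohB1.tensorMod (CohB1.tensorPow I j) (W.L b)
    have hE : FlatMod.IsFinLocFree E := TensorMod.LocFree.isFinLocFree_tensorMod
      (TensorMod.LocFree.of_rank (TensorMod.LocFree.of_isInvertible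
        (TensorMod.Invertible.isInvertible_tensorPow hI j))) (W.free b)
    have h₀ : Subsingleton (Coh.HH X E a) :=
      haveI := hvan b a j hj (by omega) _ (WedgeLine.fam_isExtPow W b)
      (Curves.LES.isoK k (comm (CohB1.tensorPow I j) (W.L b)) a).toEquiv.subsingleton
    have h₁ : Subsingleton (Coh.HH X (CohB1.tensorMod E (_root_.ClSub.idealMod D)) (a + 1)) :=
      haveI := hvan b (a + 1) (j + 1) (by omega) (by omega) _ (WedgeLine.fam_isExtPow W b)
      (Curves.LES.isoK k (show CohB1.tensorMod E (_root_.ClSub.idealMod D) ≅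
          CohB1.tensorMod (W.L b) (CohB1.tensorPow I (j + 1)) from
        tensorIso (comm _ _) (Iso.refl _) ≪≫ assoc (W.L b) (CohB1.tensorPow I j) I) (a + 1)).toEquiv.subsingleton
    haveI := HypersurfaceHodge.subsingleton_pull k D hE a h₀ h₁
    exact (Curves.LES.isoK k (show CohB1.tensorMod (CohB1.tensorPow C j) (F₂.L b) ≅
        (Scheme.Modules.pullback i).obj E from
      tensorIso (Ample.Pow.pullbackPow i I j).symm eW ≪≫
        (TensorMod.Pullback.pullbackTensorIso i _ _).symm) a).toEquiv.subsingleton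
  -- vanishing on `D`
  have key : ∀ b a j, b + a + 1 ≤ n → 1 ≤ j →
      Subsingleton (Coh.HH D.subscheme (CohB1.tensorMod (CohB1.tensorPow C j) (G.L b)) a) := by
    intro b
    induction b with
    | zero =>
      intro a j hab hj
      obtain ⟨e⟩ := h0
      haveI := hF₂ 0 a j hab hj
      exact (Curves.LES.isoK k (tensorIso (Iso.refl _) e.symm) a).toEquiv.subsingleton
    | succ b ih =>
      intro a j hab hj
      obtain ⟨T, hT, ⟨t₁⟩, ⟨t₂⟩, ⟨t₃⟩⟩ := WedgeLine.exists_shortExact F₂ G hseq hC1 hΩXY hΩY b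
      have hT' := Snapper.Twist.twistSeq_shortExact (TensorMod.Invertible.isInvertible_tensorPow hC j) hT
      set T' := Snapper.Twist.twistSeq (CohB1.tensorPow C j) T
      haveI : Subsingleton (Coh.HH D.subscheme T'.X₂ a) :=
        haveI := hF₂ (b + 1) a j hab hj
        (Curves.LES.isoK k (show T'.X₂ ≅ CohB1.tensorMod (CohB1.tensorPow C j) (F₂.L (b + 1)) from
          tensorIso (Iso.refl _) t₂) a).toEquiv.subsingleton
      haveI : Subsingleton (Coh.HH D.subscheme T'.X₁ (a + 1)) :=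
        haveI := ih (a + 1) (j + 1) (by omega) (by omega)
        (Curves.LES.isoK k (show T'.X₁ ≅ CohB1.tensorMod (CohB1.tensorPow C (j + 1)) (G.L b) from
          tensorIso (Iso.refl _) (t₁ ≪≫ tensorIso eC (Iso.refl _)) ≪≫
            (assoc (CohB1.tensorPow C j) C _).symm) (a + 1)).toEquiv.subsingleton
      have h3 : Subsingleton (Coh.HH D.subscheme T'.X₃ a) := by
        refine ⟨fun x y => ?_⟩
        obtain ⟨x', rfl⟩ := surjective_g k hT' a inferInstance x
        obtain ⟨y', rfl⟩ := surjective_g k hT' a inferInstance y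
        rw [Subsingleton.elim x' y']
      exact (Curves.LES.isoK k (show CohB1.tensorMod (CohB1.tensorPow C j) (G.L (b + 1)) ≅ T'.X₃ from
        tensorIso (Iso.refl _) t₃.symm) a).toEquiv.subsingleton
  -- the restriction on `D`
  have hmap : p + q ≤ n → ∃ g : Coh.HH D.subscheme (F₂.L p) q →ₗ[k] Coh.HH D.subscheme (G.L p) q,
      Function.Injective g ∧ (p + q < n → Function.Surjective g) := by
    intro hpq
    rcases p with _ | p
    · obtain ⟨e⟩ := h0
      exact ⟨(Curves.LES.isoK k e q).toLinearMap, (Curves.LES.isoK k e q).injective,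
        fun _ => (Curves.LES.isoK k e q).surjective⟩
    obtain ⟨T, hT, ⟨t₁⟩, ⟨t₂⟩, ⟨t₃⟩⟩ := WedgeLine.exists_shortExact F₂ G hseq hC1 hΩXY hΩY p
    have hT₁ : ∀ a, p + a + 1 ≤ n → Subsingleton (Coh.HH D.subscheme T.X₁ a) := fun a ha =>
      haveI := key p a 1 ha le_rfl
      (Curves.LES.isoK k (show T.X₁ ≅ CohB1.tensorMod (CohB1.tensorPow C 1) (G.L p) from
        t₁ ≪≫ tensorIso (eC ≪≫ (Ample.Pow.powOne C).symm) (Iso.refl _)) a).toEquiv.subsingleton
    refine ⟨(Curves.LES.isoK k t₃ q).toLinearMap ∘ₗ Curves.LES.mapK k T.g q ∘ₗ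
      (Curves.LES.isoK k t₂.symm q).toLinearMap, ?_, fun h => ?_⟩
    · exact (Curves.LES.isoK k t₃ q).injective.comp ((injective_g k hT q (hT₁ q (by omega))).comp
        (Curves.LES.isoK k t₂.symm q).injective)
    · exact (Curves.LES.isoK k t₃ q).surjective.comp ((surjective_g k hT q (hT₁ (q + 1) (by omega))).comp
        (Curves.LES.isoK k t₂.symm q).surjective)
  intro hpq
  obtain ⟨g₀, hg₀i, hg₀s⟩ := hmap hpq
  obtain ⟨eX⟩ := ExtFilt.Lambda.nonempty_iso_of_isExtPow hOmX (WedgeLine.fam_isExtPow W p)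
  obtain ⟨eY⟩ := ExtFilt.Lambda.nonempty_iso_of_isExtPow hOmY (WedgeLine.fam_isExtPow G p)
  obtain ⟨eW⟩ := hW p
  obtain ⟨eP⟩ := HypersurfaceHodge.nonempty_push_pull X D (W.free p)
  haveI := Modules.AffineSections.isQCoh_of_isFinLocFree (G.free p)
  haveI := Modules.AffineSections.isQCoh_of_isFinLocFree (TensorMod.LocFree.isFinLocFree_pullback i (W.free p))
  have hS := Cyc.CH.shortExact_tensor_left' (TensorMod.FPConv.isFlat_of_isFinLocFree (W.free p))
    (ClSub.Quot.idealSeq_shortExact D)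
  set S := (ClSub.Quot.idealSeq D).map ((DCoh.tensorBi (X := X)).obj (W.L p))
  have hS₁ : ∀ a, p + a ≤ n → Subsingleton (Coh.HH X S.X₁ a) := fun a ha =>
    haveI := hvan p a 1 le_rfl ha _ (WedgeLine.fam_isExtPow W p)
    (Curves.LES.isoK k (show S.X₁ ≅ CohB1.tensorMod (W.L p) (CohB1.tensorPow I 1) from
      tensorIso (Iso.refl _) (Ample.Pow.powOne I).symm) a).toEquiv.subsingleton
  let a₁ := Curves.LES.isoK k (show OmX ≅ S.X₂ from eX ≪≫ (rightUnit (W.L p)).symm) q
  let a₂ := (Curves.LES.isoK k (show S.X₃ ≅ (Coh.push i).obj ((Scheme.Modules.pullback i).obj (W.L p)) from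
      eP.symm) q).trans ((ZarCoh.Linear.affineLinearEquiv i (A := k) hover.symm
        ((Scheme.Modules.pullback i).obj (W.L p)) q).trans (Curves.LES.isoK k eW.symm q))
  let a₃ := Curves.LES.isoK k eY.symm q
  refine ⟨a₃.toLinearMap ∘ₗ g₀ ∘ₗ a₂.toLinearMap ∘ₗ Curves.LES.mapK k S.g q ∘ₗ a₁.toLinearMap, ?_, fun h => ?_⟩
  · exact a₃.injective.comp (hg₀i.comp (a₂.injective.comp
      ((injective_g k hS q (hS₁ q (by omega))).comp a₁.injective)))
  · exact a₃.surjective.comp ((hg₀s h).comp (a₂.surjective.comp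
      ((surjective_g k hS q (hS₁ (q + 1) (by omega))).comp a₁.surjective)))

end Groth.Agent.H95.HodgeCompare
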