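import Groth.Agent.H95.HypersurfaceHodge
import Groth.Agent.Lib.ExtShStalk.Vanish
import Groth.Agent.Lib.AffineCompl.Dim
import Groth.Agent.Lib.Exchange.Proper
import Groth.Agent.Lib.ZarCoh.Linear
import Groth.Agent.Lib.DepthTwist.Basic

/-!
# Comparing Hodge cohomology with that of a smooth hypersurface section
-/

set_option autoImplicit false
set_option linter.style.haveILetI false
universe u

open CategoryTheory CategoryTheory.Limits AlgebraicGeometry Opposite TopologicalSpace

noncomputable section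

namespace Groth.Agent.H95.HodgeLefschetz

open Groth.Agent.Lib
open Groth.Agent.Lib.TensorMod.Basic (assoc comm tensorIso leftUnit rightUnit)

variable {k : Type u} [Field k] {X : Scheme.{u}}

/-- At the closed points of an irreducible smooth scheme the depth of a locally free sheaf is at least
the dimension. -/
theorem lt_depth_stalk (π : X ⟶ Spec (CommRingCat.of k)) [Smooth π] [IrreducibleSpace X] {n : ℕ}
    (hn : topologicalKrullDim X = ((n + 1 : ℕ) : WithBot ℕ∞)) {E : X.Modules} (hE : FlatMod.IsFinLocFree E)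
    (x : X) (hx : IsClosed ({x} : Set X)) :
    (n : ℕ∞) < LocCoh.depth (X.presheaf.stalk x) (E.presheaf.stalk x) := by
  haveI : IsLocallyNoetherian X := LocallyOfFiniteType.isLocallyNoetherian π
  haveI := Cyc.SmoothReg.isRegularLocalRing_stalk π x
  have h1 := AffineCompl.Dim.ringKrullDim_stalk_of_isClosed π hx
  rw [ExtShStalk.Vanish.ringKrullDim_eq_depth, hn] at h1
  have hd : ((n + 1 : ℕ) : ℕ∞) ≤ LocCoh.depth (X.presheaf.stalk x) (X.presheaf.stalk x) :=
    WithBot.coe_le_coe.1 ((WithBot.coe_natCast _).le.trans h1.ge)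
  haveI : Module.Finite (X.presheaf.stalk x) (E.presheaf.stalk x) :=
    RefHull.LocFree.finite_stalk (Perfect.Coherent.isCoh_of_isFinLocFree hE) _
  haveI := RefHull.LocFree.free_stalk hE x
  exact lt_of_lt_of_le (by exact_mod_cast n.lt_succ_self) (le_of_le_of_eq
    (ExtShStalk.Vanish.depth_le_depth_pi _ hd) (Depth.Basic.depth_congr
      (Module.finBasis (X.presheaf.stalk x) (E.presheaf.stalk x)).equivFun).symm)

variable [X.Over (Spec (CommRingCat.of k))]

variable (k) in
include k in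
theorem injective_g {S : ShortComplex X.Modules} (hS : S.ShortExact) (q : ℕ)
    (h : Subsingleton (Coh.HH X S.X₁ q)) : Function.Injective (Curves.LES.mapK k S.g q) := by
  rw [← LinearMap.ker_eq_bot, LinearMap.ker_eq_bot']
  intro x hx
  obtain ⟨y, rfl⟩ := (Curves.LES.exactK₂ k hS q x).1 hx
  rw [Subsingleton.elim y 0, map_zero]

variable (k) in
include k in
theorem surjective_g {S : ShortComplex X.Modules} (hS : S.ShortExact) (q : ℕ)
    (h : Subsingleton (Coh.HH X S.X₁ (q + 1))) : Function.Surjective (Curves.LES.mapK k S.g q) :=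
  fun z => (Curves.LES.exactK₃ k hS q (q + 1) rfl z).1 (Subsingleton.elim _ _)

variable [IsProper (X ↘ Spec (CommRingCat.of k))] [Smooth (X ↘ Spec (CommRingCat.of k))] [IrreducibleSpace X]

/-- Lefschetz for Hodge cohomology, in terms of dimensions. -/
theorem main {n : ℕ} (hn : topologicalKrullDim X = (n : WithBot ℕ∞)) {L : X.Modules} (hL : CohB1.IsAmple L) :
    ∃ m₀ : ℕ, ∀ (m : ℕ), m₀ ≤ m →
      ∀ (s : Coh.structureModule X ⟶ CohB1.tensorPow L m) [Mono s]
        [Smooth ((PicF2.zeroScheme (CohB1.tensorPow L m) s).subschemeι ≫ (X ↘ Spec (CommRingCat.of k)))]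
        (p q : ℕ) (OmX : X.Modules) (OmY : (PicF2.zeroScheme (CohB1.tensorPow L m) s).subscheme.Modules),
        ExtPow.IsExtPow p (Omega.sheaf (X ↘ Spec (CommRingCat.of k))) OmX →
        ExtPow.IsExtPow p (Omega.sheaf ((PicF2.zeroScheme (CohB1.tensorPow L m) s).subschemeι ≫ (X ↘ Spec (CommRingCat.of k)))) OmY →
        (p + q + 1 < n → Module.finrank k (Coh.HH X OmX q) = Module.finrank k (Coh.HH X ((Coh.push (PicF2.zeroScheme (CohB1.tensorPow L m) s).subschemeι).obj OmY) q)) ∧
        (p + q + 1 = n → Module.finrank k (Coh.HH X OmX q) ≤ Module.finrank k (Coh.HH X ((Coh.push (PicF2.zeroScheme (CohB1.tensorPow L m) s).subschemeι).obj OmY) q)) := by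
  classical
  rcases n with _ | n
  · exact ⟨0, fun m _ s _ _ p q _ _ _ _ => ⟨fun h => absurd h (by omega), fun h => absurd h (by omega)⟩⟩
  haveI := H78.Existence.AmpleVanish.isNoetherian_of_proper k (X := X)
  have hΩ : FlatMod.IsFinLocFree (Omega.sheaf (X ↘ Spec (CommRingCat.of k))) :=
    Kaehler.LocFree.isFinLocFree_of_smooth (Kaehler.DOmega.isUniversal_dOmega (X ↘ Spec (CommRingCat.of k)))
  obtain ⟨W⟩ := WedgeLine.exists_fam hΩ
  obtain ⟨Linv, hLinv⟩ : ∃ N : X.Modules, ClSub.IsInverseOf L N :=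
    ⟨_, ⟨TensorMod.Invertible.tensorDualIso hL.1⟩⟩
  obtain ⟨eL⟩ := id hLinv
  have hLinvI : PicF.IsInvertible Linv :=
    TensorMod.TensorInv.isInvertible_of_tensor_iso (comm Linv L ≪≫ eL)
  choose f hf using fun b : ℕ => DepthTwist.Basic.exists_vanish k hL hLinv
    (Perfect.Coherent.isCoh_of_isFinLocFree (W.free b)) n
    (lt_depth_stalk (X ↘ Spec (CommRingCat.of k)) hn (W.free b))
  refine ⟨(Finset.range (n + 2)).sup f + 1, fun m hm => ?_⟩
  intro s hsM hsm
  let M := CohB1.tensorPow L m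
  let D := PicF2.zeroScheme M s
  let i := D.subschemeι
  intro p q OmX OmY hOmX hOmY
  have hM : PicF.IsInvertible M := TensorMod.Invertible.isInvertible_tensorPow hL.1 m
  haveI : Mono s := hsM
  haveI : Smooth (i ≫ (X ↘ Spec (CommRingCat.of k))) := hsm
  obtain ⟨-, ⟨ε⟩, -⟩ := DepthTwist.Zero.divisor_spec hM s
  letI : D.subscheme.Over (Spec (CommRingCat.of k)) := ⟨i ≫ (X ↘ Spec (CommRingCat.of k))⟩
  haveI : IsProper (D.subscheme ↘ Spec (CommRingCat.of k)) :=
    inferInstanceAs (IsProper (i ≫ (X ↘ Spec (CommRingCat.of k))))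
  haveI := H78.Existence.AmpleVanish.isNoetherian_of_proper k (X := D.subscheme)
  let I := _root_.ClSub.idealMod D
  let eI : I ≅ CohB1.tensorPow Linv m := TensorMod.Invertible.cancelRight hM
    (comm I M ≪≫ ε ≪≫ (comm (CohB1.tensorPow Linv m) M ≪≫ (Ample.Pow.powTensor L Linv m).symm ≪≫
      Ample.Pow.powIso eL m ≪≫ Ample.Pow.powUnit X m).symm)
  have hI : PicF.IsInvertible I := TensorMod.Invertible.isInvertible_of_iso eI.symm
    (TensorMod.Invertible.isInvertible_tensorPow hLinvI m)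
  -- vanishing on `X`
  have hvan : ∀ b, b ≤ n → ∀ j, 1 ≤ j → ∀ a, a ≤ n →
      Subsingleton (Coh.HH X (CohB1.tensorMod (W.L b) (CohB1.tensorPow I j)) a) := by
    intro b hb j hj a ha
    have h1 : f b ≤ m := le_trans (Finset.le_sup (f := f) (Finset.mem_range.2 (show b < n + 2 by omega)))
      (le_trans (Nat.le_succ _) hm)
    haveI := hf b (m * j) (le_trans h1 (Nat.le_mul_of_pos_right m hj)) a ha
    exact (Curves.LES.isoK k (tensorIso (Iso.refl (W.L b))
      (Ample.Pow.powIso eI j ≪≫ Ample.Pow.powMul Linv m j)) a).toEquiv.subsingleton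
  -- the conormal sheaf
  let C := (Scheme.Modules.pullback i).obj I
  have hker : i.ker = D := Scheme.IdealSheafData.ker_subschemeι D
  let eC : Omega.conormal i ≅ C :=
    eqToIso (show Omega.conormal i = (Scheme.Modules.pullback i).obj (_root_.ClSub.idealMod D) by
      rw [Omega.conormal, hker])
  have hC : PicF.IsInvertible C := PicLoc.isInvertible_pullback i hI
  have hC1 := TensorMod.LocFree.of_isInvertible (TensorMod.Invertible.isInvertible_of_iso eC.symm hC)
  obtain ⟨φ, c, w, hseq⟩ := HypersurfaceHodge.exists_seq (X ↘ Spec (CommRingCat.of k)) i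
  have hΩY : FlatMod.IsFinLocFree (Omega.sheaf (i ≫ (X ↘ Spec (CommRingCat.of k)))) :=
    Kaehler.LocFree.isFinLocFree_of_smooth
      (Kaehler.DOmega.isUniversal_dOmega (i ≫ (X ↘ Spec (CommRingCat.of k))))
  have hΩXY := TensorMod.LocFree.isFinLocFree_pullback i hΩ
  obtain ⟨F₂⟩ := WedgeLine.exists_fam hΩXY
  obtain ⟨G⟩ := WedgeLine.exists_fam hΩY
  have hW : ∀ b, Nonempty (F₂.L b ≅ (Scheme.Modules.pullback i).obj (W.L b)) := fun b =>
    ExtFilt.Lambda.nonempty_iso_of_isExtPow (WedgeLine.fam_isExtPow F₂ b)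
      (haveI := Modules.AffineSections.isQCoh_of_isFinLocFree hΩ
       ExtPowPullQ.isExtPow_pullback i (WedgeLine.fam_isExtPow W b) (Iso.refl _))
  have h0 : Nonempty (F₂.L 0 ≅ G.L 0) := by
    obtain ⟨e₁⟩ := ExtFilt.Lambda.nonempty_iso_of_isExtPow (WedgeLine.fam_isExtPow F₂ 0)
      (ExtFilt.Lambda.isExtPow_zero _)
    obtain ⟨e₂⟩ := ExtFilt.Lambda.nonempty_iso_of_isExtPow (WedgeLine.fam_isExtPow G 0)
      (ExtFilt.Lambda.isExtPow_zero _)
    exact ⟨e₁ ≪≫ e₂.symm⟩
  have hF₂ : ∀ b a j, b + a + 1 ≤ n → 1 ≤ j →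
      Subsingleton (Coh.HH D.subscheme (CohB1.tensorMod (CohB1.tensorPow C j) (F₂.L b)) a) := by
    intro b a j hab hj
    obtain ⟨eW⟩ := hW b
    let E := CohB1.tensorMod (CohB1.tensorPow I j) (W.L b)
    have hE : FlatMod.IsFinLocFree E := TensorMod.LocFree.isFinLocFree_tensorMod
      (TensorMod.LocFree.of_rank (TensorMod.LocFree.of_isInvertible
        (TensorMod.Invertible.isInvertible_tensorPow hI j))) (W.free b)
    have h₀ : Subsingleton (Coh.HH X E a) :=
      haveI := hvan b (by omega) j hj a (by omega)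
      (Curves.LES.isoK k (comm (CohB1.tensorPow I j) (W.L b)) a).toEquiv.subsingleton
    have h₁ : Subsingleton (Coh.HH X (CohB1.tensorMod E (_root_.ClSub.idealMod D)) (a + 1)) :=
      haveI := hvan b (by omega) (j + 1) (by omega) (a + 1) (by omega)
      (Curves.LES.isoK k (show CohB1.tensorMod E (_root_.ClSub.idealMod D) ≅
          CohB1.tensorMod (W.L b) (CohB1.tensorPow I (j + 1)) from
        tensorIso (comm _ _) (Iso.refl _) ≪≫ assoc (W.L b) (CohB1.tensorPow I j) I) (a + 1)).toEquiv.subsingleton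
    haveI := HypersurfaceHodge.subsingleton_pull k D hE a h₀ h₁
    exact (Curves.LES.isoK k (show CohB1.tensorMod (CohB1.tensorPow C j) (F₂.L b) ≅
        (Scheme.Modules.pullback i).obj E from
      tensorIso (Ample.Pow.pullbackPow i I j).symm eW ≪≫
        (TensorMod.Pullback.pullbackTensorIso i _ _).symm) a).toEquiv.subsingleton
  -- vanishing on `D`
  have key : ∀ b a j, b + a + 1 ≤ n → 1 ≤ j →
      Subsingleton (Coh.HH D.subscheme (CohB1.tensorMod (CohB1.tensorPow C j) (G.L b)) a) := by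
    intro b
    induction b with
    | zero =>
      intro a j hab hj
      obtain ⟨e⟩ := h0
      haveI := hF₂ 0 a j hab hj
      exact (Curves.LES.isoK k (tensorIso (Iso.refl _) e.symm) a).toEquiv.subsingleton
    | succ b ih =>
      intro a j hab hj
      obtain ⟨T, hT, ⟨t₁⟩, ⟨t₂⟩, ⟨t₃⟩⟩ := WedgeLine.exists_shortExact F₂ G hseq hC1 hΩXY hΩY b
      have hT' := Snapper.Twist.twistSeq_shortExact (TensorMod.Invertible.isInvertible_tensorPow hC j) hT
      set T' := Snapper.Twist.twistSeq (CohB1.tensorPow C j) T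
      haveI : Subsingleton (Coh.HH D.subscheme T'.X₂ a) :=
        haveI := hF₂ (b + 1) a j hab hj
        (Curves.LES.isoK k (show T'.X₂ ≅ CohB1.tensorMod (CohB1.tensorPow C j) (F₂.L (b + 1)) from
          tensorIso (Iso.refl _) t₂) a).toEquiv.subsingleton
      haveI : Subsingleton (Coh.HH D.subscheme T'.X₁ (a + 1)) :=
        haveI := ih (a + 1) (j + 1) (by omega) (by omega)
        (Curves.LES.isoK k (show T'.X₁ ≅ CohB1.tensorMod (CohB1.tensorPow C (j + 1)) (G.L b) from
          tensorIso (Iso.refl _) (t₁ ≪≫ tensorIso eC (Iso.refl _)) ≪≫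
            (assoc (CohB1.tensorPow C j) C _).symm) (a + 1)).toEquiv.subsingleton
      have h3 : Subsingleton (Coh.HH D.subscheme T'.X₃ a) := by
        refine ⟨fun x y => ?_⟩
        obtain ⟨x', rfl⟩ := surjective_g k hT' a inferInstance x
        obtain ⟨y', rfl⟩ := surjective_g k hT' a inferInstance y
        rw [Subsingleton.elim x' y']
      exact (Curves.LES.isoK k (show CohB1.tensorMod (CohB1.tensorPow C j) (G.L (b + 1)) ≅ T'.X₃ from
        tensorIso (Iso.refl _) t₃.symm) a).toEquiv.subsingleton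
  -- the restriction on `D`
  have hmap : p + q ≤ n → ∃ g : Coh.HH D.subscheme (F₂.L p) q →ₗ[k] Coh.HH D.subscheme (G.L p) q,
      Function.Injective g ∧ (p + q < n → Function.Surjective g) := by
    intro hpq
    rcases p with _ | p
    · obtain ⟨e⟩ := h0
      exact ⟨(Curves.LES.isoK k e q).toLinearMap, (Curves.LES.isoK k e q).injective,
        fun _ => (Curves.LES.isoK k e q).surjective⟩
    obtain ⟨T, hT, ⟨t₁⟩, ⟨t₂⟩, ⟨t₃⟩⟩ := WedgeLine.exists_shortExact F₂ G hseq hC1 hΩXY hΩY p
    have hT₁ : ∀ a, p + a + 1 ≤ n → Subsingleton (Coh.HH D.subscheme T.X₁ a) := fun a ha =>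
      haveI := key p a 1 ha le_rfl
      (Curves.LES.isoK k (show T.X₁ ≅ CohB1.tensorMod (CohB1.tensorPow C 1) (G.L p) from
        t₁ ≪≫ tensorIso (eC ≪≫ (Ample.Pow.powOne C).symm) (Iso.refl _)) a).toEquiv.subsingleton
    refine ⟨(Curves.LES.isoK k t₃ q).toLinearMap ∘ₗ Curves.LES.mapK k T.g q ∘ₗ
      (Curves.LES.isoK k t₂.symm q).toLinearMap, ?_, fun h => ?_⟩
    · exact (Curves.LES.isoK k t₃ q).injective.comp ((injective_g k hT q (hT₁ q (by omega))).comp
        (Curves.LES.isoK k t₂.symm q).injective)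
    · exact (Curves.LES.isoK k t₃ q).surjective.comp ((surjective_g k hT q (hT₁ (q + 1) (by omega))).comp
        (Curves.LES.isoK k t₂.symm q).surjective)
  -- the comparison
  suffices hmain : p + q ≤ n → ∃ g : Coh.HH X OmX q →ₗ[k] Coh.HH X ((Coh.push i).obj OmY) q,
      Function.Injective g ∧ (p + q < n → Function.Surjective g) by
    haveI : Module.Finite k (Coh.HH X ((Coh.push i).obj OmY) q) :=
      ZarCoh.Exchange.Proper.finite_HH k _ (Cyc.Dev.SchemeEquiv.isCoh_push i
        (Perfect.Coherent.isCoh_of_isFinLocFree (GrassGen.ExtPowFree.isFinLocFree hΩY hOmY))) q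
    refine ⟨fun h => ?_, fun h => ?_⟩
    · obtain ⟨g, hgi, hgs⟩ := hmain (by omega)
      exact (LinearEquiv.ofBijective g ⟨hgi, hgs (by omega)⟩).finrank_eq
    · obtain ⟨g, hgi, -⟩ := hmain (by omega)
      exact LinearMap.finrank_le_finrank_of_injective hgi
  intro hpq
  obtain ⟨g₀, hg₀i, hg₀s⟩ := hmap hpq
  obtain ⟨eX⟩ := ExtFilt.Lambda.nonempty_iso_of_isExtPow hOmX (WedgeLine.fam_isExtPow W p)
  obtain ⟨eY⟩ := ExtFilt.Lambda.nonempty_iso_of_isExtPow hOmY (WedgeLine.fam_isExtPow G p)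
  obtain ⟨eW⟩ := hW p
  obtain ⟨eP⟩ := HypersurfaceHodge.nonempty_push_pull X D (W.free p)
  haveI := Modules.AffineSections.isQCoh_of_isFinLocFree (G.free p)
  haveI := Modules.AffineSections.isQCoh_of_isFinLocFree (TensorMod.LocFree.isFinLocFree_pullback i (W.free p))
  have hS := Cyc.CH.shortExact_tensor_left' (TensorMod.FPConv.isFlat_of_isFinLocFree (W.free p))
    (ClSub.Quot.idealSeq_shortExact D)
  set S := (ClSub.Quot.idealSeq D).map ((DCoh.tensorBi (X := X)).obj (W.L p))
  have hS₁ : ∀ a, a ≤ n → Subsingleton (Coh.HH X S.X₁ a) := fun a ha =>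
    haveI := hvan p (by omega) 1 le_rfl a ha
    (Curves.LES.isoK k (show S.X₁ ≅ CohB1.tensorMod (W.L p) (CohB1.tensorPow I 1) from
      tensorIso (Iso.refl _) (Ample.Pow.powOne I).symm) a).toEquiv.subsingleton
  let a₁ := Curves.LES.isoK k (show OmX ≅ S.X₂ from eX ≪≫ (rightUnit (W.L p)).symm) q
  let a₂ := (Curves.LES.isoK k (show S.X₃ ≅ (Coh.push i).obj ((Scheme.Modules.pullback i).obj (W.L p)) from
      eP.symm) q).trans ((ZarCoh.Linear.affineLinearEquiv i (A := k) rfl
        ((Scheme.Modules.pullback i).obj (W.L p)) q).trans (Curves.LES.isoK k eW.symm q))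
  let a₃ := (ZarCoh.Linear.affineLinearEquiv i (A := k) rfl (G.L p) q).symm.trans
    (Curves.LES.isoK k ((Coh.push i).mapIso eY.symm) q)
  refine ⟨a₃.toLinearMap ∘ₗ g₀ ∘ₗ a₂.toLinearMap ∘ₗ Curves.LES.mapK k S.g q ∘ₗ a₁.toLinearMap, ?_, fun h => ?_⟩
  · exact a₃.injective.comp (hg₀i.comp (a₂.injective.comp
      ((injective_g k hS q (hS₁ q (by omega))).comp a₁.injective)))
  · exact a₃.surjective.comp ((hg₀s h).comp (a₂.surjective.comp
      ((surjective_g k hS q (hS₁ (q + 1) (by omega))).comp a₁.surjective)))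

end Groth.Agent.H95.HodgeLefschetz
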