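import Groth.Agent.Lib.DR.FiniteComplex
import Mathlib.Algebra.Homology.DerivedCategory.Ext.Basic

/-!
Vanishing of morphisms from a single object into a bounded complex.
-/

set_option autoImplicit false
universe w w' v u
open CategoryTheory CategoryTheory.Limits CategoryTheory.Pretriangulated

namespace Groth.Agent.H95.HyperVanish

variable {C : Type u} [Category.{v} C] [Abelian C] [HasDerivedCategory.{w} C]

/-- `Hom(A, X⟦i⟧) = 0` -/
def Van (A : C) (X : DerivedCategory C) (i : ℤ) : Prop :=
  ∀ f : (DerivedCategory.singleFunctor C 0).obj A ⟶ X⟦i⟧, f = 0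

variable {A : C} {i : ℤ}

lemma Van.of_iso {X Y : DerivedCategory C} (h : Van A X i) (e : X ≅ Y) : Van A Y i := fun f => by
  have := h (f ≫ e.inv⟦i⟧')
  calc f = (f ≫ e.inv⟦i⟧') ≫ e.hom⟦i⟧' := by
        rw [Category.assoc, ← Functor.map_comp, e.inv_hom_id, CategoryTheory.Functor.map_id, Category.comp_id]
    _ = 0 := by rw [this, zero_comp]

lemma Van.of_distTriang (T : Triangle (DerivedCategory C)) (hT : T ∈ distTriang _)
    (h₁ : Van A T.obj₁ i) (h₃ : Van A T.obj₃ i) : Van A T.obj₂ i := fun f => by
  obtain ⟨g, hg⟩ := ((Triangle.shiftFunctor (DerivedCategory C) i).obj T).coyoneda_exact₂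
    (Triangle.shift_distinguished T hT i) f (h₃ _)
  rw [hg]
  exact (congrArg (· ≫ _) (h₁ g)).trans zero_comp

lemma Van.of_isZero {X : DerivedCategory C} (h : IsZero X) : Van A X i := fun _ =>
  (Functor.map_isZero (shiftFunctor (DerivedCategory C) i) h).eq_of_tgt _ _

variable [HasExt.{w'} C]

/-- `Hom(A, M[-p][i]) = Ext^(i-p)(A, M)` -/
lemma van_single (M : C) (p : ℤ)
    (h : ∀ q : ℕ, p + q = i → Subsingleton (Abelian.Ext.{w'} A M q)) :
    Van A ((DerivedCategory.singleFunctor C p).obj M) i := by
  intro f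
  let e : ((DerivedCategory.singleFunctor C p).obj M)⟦i⟧ ≅ (DerivedCategory.singleFunctor C (p - i)).obj M :=
    ((DerivedCategory.singleFunctors C).shiftIso i (p - i) p (by lia)).app M
  suffices h0 : f ≫ e.hom = 0 by
    rw [← cancel_mono e.hom, h0, zero_comp]
  by_cases hle : p ≤ i
  · obtain ⟨q, hq⟩ : ∃ q : ℕ, p + q = i := ⟨(i - p).toNat, by lia⟩
    haveI := h q hq
    let e' : (DerivedCategory.singleFunctor C (p - i)).obj M ≅
        ((DerivedCategory.singleFunctor C 0).obj M)⟦(q : ℤ)⟧ :=
      (((DerivedCategory.singleFunctors C).shiftIso (q : ℤ) (p - i) 0 (by lia)).app M).symm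
    haveI : Subsingleton ((DerivedCategory.singleFunctor C 0).obj A ⟶
        ((DerivedCategory.singleFunctor C 0).obj M)⟦(q : ℤ)⟧) :=
      Abelian.Ext.homEquiv.symm.subsingleton
    rw [← cancel_mono e'.hom, zero_comp]
    exact Subsingleton.elim _ _
  · exact DerivedCategory.TStructure.t.zero _ 0 (p - i)

/-- transport of `Ext` along an isomorphism of the target -/
noncomputable def extEquivOfIso {M N : C} (e : M ≅ N) {q : ℕ} :
    Abelian.Ext.{w'} A M q ≃ Abelian.Ext.{w'} A N q where
  toFun x := x.comp (Abelian.Ext.mk₀ e.hom) (add_zero q)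
  invFun x := x.comp (Abelian.Ext.mk₀ e.inv) (add_zero q)
  left_inv x := by simp [Abelian.Ext.comp_assoc_of_second_deg_zero, Abelian.Ext.mk₀_comp_mk₀]
  right_inv x := by simp [Abelian.Ext.comp_assoc_of_second_deg_zero, Abelian.Ext.mk₀_comp_mk₀]

/-- vanishing for a bounded complex from vanishing on its terms -/
theorem van_Q_of_bounded (l : ℕ) : ∀ (a : ℤ) (E : CochainComplex C ℤ),
    (∀ j, j < a ∨ a + (l : ℤ) ≤ j → IsZero (E.X j)) →
    (∀ (j : ℤ) (q : ℕ), a ≤ j → j < a + l → j + q = i → Subsingleton (Abelian.Ext.{w'} A (E.X j) q)) →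
    Van A (DerivedCategory.Q.obj E) i := by
  induction l with
  | zero =>
    intro a E hz _
    refine Van.of_isZero (Functor.map_isZero _ ?_)
    rw [IsZero.iff_id_eq_zero]
    ext j
    exact (hz j (by lia)).eq_of_src _ _
  | succ l ih =>
    intro a E hz hE
    obtain ⟨S, φ, hSlt, -, hSz, hiso, -⟩ := Lib.DR.FiniteComplex.exists_stupidTrunc
      (P := fun _ : C => True) ⟨fun _ => trivial, fun _ _ => trivial, fun _ _ => trivial⟩ E (a + 1)
      fun _ => trivial
    have hm : ∀ j, Mono (φ.f j) := fun j => by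
      by_cases h : a + 1 ≤ j
      · have := hiso j h; infer_instance
      · exact ⟨fun _ _ _ => (hSlt j (by lia)).eq_of_tgt _ _⟩
    have : Mono φ := HomologicalComplex.mono_of_mono_f φ hm
    let T := ShortComplex.mk φ (cokernel.π φ) (cokernel.condition φ)
    have hT : T.ShortExact :=
      { exact := ShortComplex.exact_of_g_is_cokernel _ (cokernelIsCokernel φ) }
    have hepi : ∀ j, Epi ((cokernel.π φ).f j) := fun j =>
      inferInstanceAs (Epi ((HomologicalComplex.eval C (.up ℤ) j).map (cokernel.π φ)))
    have hC : ∀ j, j ≠ a → IsZero ((cokernel φ).X j) := fun j hj => by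
      have h0 : (cokernel.π φ).f j = 0 := by
        by_cases h : a + 1 ≤ j
        · have := hiso j h
          rw [← cancel_epi (φ.f j), ← HomologicalComplex.comp_f, cokernel.condition]
          simp
        · exact (hz j (by lia)).eq_of_src _ _
      have := hepi j
      exact IsZero.of_epi_eq_zero _ h0
    have h₁ : Van A (DerivedCategory.Q.obj S) i := by
      refine ih (a + 1) S (fun j hj => ?_) fun j q hj hj' hq => ?_
      · rcases hj with hj | hj
        · exact hSlt j hj
        · exact hSz j (hz j (by lia))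
      · have := hiso j hj
        have := hE j q (by lia) (by lia) hq
        exact (extEquivOfIso (asIso (φ.f j))).subsingleton
    have : (cokernel φ).IsStrictlyGE a :=
      ((cokernel φ).isStrictlyGE_iff a).2 fun j hj => hC j (by lia)
    have : (cokernel φ).IsStrictlyLE a :=
      ((cokernel φ).isStrictlyLE_iff a).2 fun j hj => hC j (by lia)
    obtain ⟨M, ⟨eM⟩⟩ := CochainComplex.exists_iso_single (cokernel φ) a
    -- the term in degree `a`
    have hMa : E.X a ≅ M := by
      haveI : IsIso ((cokernel.π φ).f a) := by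
        haveI := hepi a
        haveI : Mono ((cokernel.π φ).f a) :=
          (hT.map_of_exact (HomologicalComplex.eval C (.up ℤ) a)).exact.mono_g
            ((hSlt a (by lia)).eq_of_src _ _)
        exact isIso_of_mono_of_epi _
      exact asIso ((cokernel.π φ).f a) ≪≫ (HomologicalComplex.eval C (.up ℤ) a).mapIso eM ≪≫
        HomologicalComplex.singleObjXSelf (ComplexShape.up ℤ) a M
    have h₃ : Van A (DerivedCategory.Q.obj (cokernel φ)) i := by
      refine (van_single.{w, w'} (A := A) M a fun q hq => ?_).of_iso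
        ((DerivedCategory.singleFunctorIsoCompQ C a).app M ≪≫ DerivedCategory.Q.mapIso eM.symm)
      have := hE a q le_rfl (by lia) hq
      exact (extEquivOfIso hMa.symm).subsingleton
    exact Van.of_distTriang _ (DerivedCategory.triangleOfSES_distinguished hT) h₁ h₃

end Groth.Agent.H95.HyperVanish
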