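import Groth.Agent.Lib.Curves.LES
import Groth.Agent.Lib.ProjCoh.Coherent
import Groth.Agent.S0843
import Groth.Agent.S0844
import Groth.Agent.S0845
import Groth.Agent.H66.Cot.Graded
import Groth.Agent.Lib.Devissage.Closure
import Groth.Agent.Lib.GrothVanSupport
import Groth.Agent.Lib.Snapper.Twist
import Groth.Agent.Lib.ClSub.Quot
import Groth.Agent.Lib.ClSub.Sections
import Groth.Agent.Lib.ClSub.Basis
import Groth.Agent.Lib.ProjSpace.Dim
import Groth.Agent.Lib.ProjSpace.Basic

/-!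
# Cohomology of the twisted structure sheaf of a hypersurface
-/

set_option autoImplicit false
universe u

open CategoryTheory CategoryTheory.Limits AlgebraicGeometry TopologicalSpace Opposite
open Groth.Agent.Lib
open Groth.Agent.Lib.Curves.LES (mapK δK isoK exactK₁ exactK₂ exactK₃)
open Groth.Agent.Lib.ProjCoh.Coherent (tw twTensor isInvertible_tw isCoh_tw)

noncomputable section

namespace Groth.Agent.H95.HypersurfaceCoh

/-- A proper closed subset of an irreducible space has smaller dimension. -/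
theorem dim_le {X : Type u} [TopologicalSpace X] [IrreducibleSpace X] {S : Set X} (hS : IsClosed S)
    (hne : S ≠ Set.univ) {d : ℕ} (hX : topologicalKrullDim X ≤ ((d + 1 : ℕ) : WithBot ℕ∞)) :
    topologicalKrullDim S ≤ (d : WithBot ℕ∞) := by
  refine iSup_le fun p => ?_
  let g : IrreducibleCloseds S → IrreducibleCloseds X := fun Z =>
    ⟨Subtype.val '' (Z : Set S), Z.isIrreducible.image _ continuous_subtype_val.continuousOn,
      hS.isClosedEmbedding_subtypeVal.isClosedMap _ Z.isClosed⟩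
  have hg : StrictMono g := fun Z Z' h => by
    refine lt_of_le_of_ne (show (g Z : Set X) ⊆ g Z' from Set.image_mono h.le) fun he => h.ne ?_
    exact SetLike.coe_injective (Subtype.val_injective.image_injective (congrArg SetLike.coe he))
  let top : IrreducibleCloseds X := ⟨Set.univ, IrreducibleSpace.isIrreducible_univ X, isClosed_univ⟩
  have hlt : (p.map g hg).last < top := lt_of_le_of_ne (Set.subset_univ _) fun he => hne <| by
    refine Set.eq_univ_of_forall fun x => ?_
    have hx : x ∈ ((g p.last : IrreducibleCloseds X) : Set X) := by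
      rw [LTSeries.last_map] at he
      rw [he]; exact Set.mem_univ x
    obtain ⟨y, -, rfl⟩ := hx
    exact y.2
  have h := (Order.LTSeries.length_le_krullDim ((p.map g hg).snoc top hlt)).trans hX
  rw [RelSeries.snoc_length] at h
  have h' : p.length + 1 ≤ d + 1 := by exact_mod_cast h
  exact_mod_cast Nat.succ_le_succ_iff.1 h'

variable {N : ℕ} {k : Type u} [Field k]

local notation "ℙ" => CohB1.ProjSpace N k

theorem finrank_homog (r m : ℕ) :
    Module.finrank k ↥(MvPolynomial.homogeneousSubmodule (Fin (r + 1)) k m) = (r + m).choose r := by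
  rw [(H66.Cot.finrank_homogeneous (r + 1) m).2, show r + 1 + m - 1 = r + m by omega,
    Nat.choose_symm_add]

theorem finrank_h0_tw (a : ℕ) : Module.finrank k (Coh.HH ℙ (tw N k (a : ℤ)) 0) = (N + a).choose N := by
  obtain ⟨e⟩ := Groth.Agent.S0843.result k N a
  exact e.finrank_eq.trans (finrank_homog N a)

theorem finrank_top_tw (e : ℕ) (he : 1 ≤ e) :
    Module.finrank k (Coh.HH ℙ (tw N k (-(e : ℤ))) N) = (e - 1).choose N := by
  by_cases h : N + 1 ≤ e
  · obtain ⟨c, rfl⟩ := Nat.exists_eq_add_of_le h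
    obtain ⟨g⟩ := Groth.Agent.S0845.result k N c
    rw [show (N + 1 + c - 1) = N + c by omega, ← finrank_homog (k := k) N c, ← g.finrank_eq]
    push_cast
    rfl
  · haveI : Subsingleton (Coh.HH ℙ (tw N k (-(e : ℤ))) N) :=
      Groth.Agent.S0844.result k N _ N (by omega) (by omega)
    rw [Module.finrank_zero_of_subsingleton, Nat.choose_eq_zero_of_lt (by omega)]

/-- `h^0(O(m))`. -/
theorem h0 (hN : 1 ≤ N) (m : ℤ) :
    Module.finrank k (Coh.HH ℙ (tw N k m) 0) = (m + (N : ℤ)).toNat.choose N := by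
  by_cases hm : 0 ≤ m
  · obtain ⟨a, rfl⟩ := Int.eq_ofNat_of_zero_le hm
    rw [finrank_h0_tw, show ((a : ℤ) + (N : ℤ)).toNat = N + a by omega]
  · haveI : Subsingleton (Coh.HH ℙ (tw N k m) 0) := Groth.Agent.S0844.result k N m 0 (by omega) (by omega)
    rw [Module.finrank_zero_of_subsingleton, Nat.choose_eq_zero_of_lt (by omega)]

/-- `h^N(O(m))`. -/
theorem hTop (hN : 1 ≤ N) (m : ℤ) :
    Module.finrank k (Coh.HH ℙ (tw N k m) N) = (-m - 1).toNat.choose N := by
  by_cases hm : m < 0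
  · obtain ⟨e, rfl⟩ : ∃ e : ℕ, m = -(e : ℤ) := ⟨(-m).toNat, by omega⟩
    rw [finrank_top_tw e (by omega), show (-(-(e : ℤ)) - 1).toNat = e - 1 by omega]
  · haveI : Subsingleton (Coh.HH ℙ (tw N k m) N) := Groth.Agent.S0844.result k N m N (by omega) (by omega)
    rw [Module.finrank_zero_of_subsingleton, Nat.choose_eq_zero_of_lt (by omega)]

theorem vanish (m : ℤ) {q : ℕ} (h0 : q ≠ 0) (hN : q ≠ N) : Subsingleton (Coh.HH ℙ (tw N k m) q) :=
  Groth.Agent.S0844.result k N m q (fun h => h0 h.1) (fun h => hN h.1)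

variable (I : (CohB1.ProjSpace N k).IdealSheafData) {c : ℤ}
  (hI : Nonempty (ClSub.idealMod I ≅ tw N k c))

include hI in
theorem support_ne_univ : (I.support : Set (CohB1.ProjSpace N k)) ≠ Set.univ := by
  intro hsupp
  obtain ⟨e⟩ := hI
  haveI := ProjSpace.Basic.isIntegral_projSpace N k
  obtain rfl : I = ⊥ := Scheme.IdealSheafData.support_eq_top_iff.1 (SetLike.coe_injective hsupp)
  have hsub : ∀ U : (CohB1.ProjSpace N k).affineOpens, Subsingleton Γ(tw N k c, U.1) := fun U => by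
    haveI : Subsingleton Γ(ClSub.idealMod (⊥ : (CohB1.ProjSpace N k).IdealSheafData), U.1) := by
      refine ⟨fun a b => Lib.ClSub.Sections.idealModι_app_injective _ U.1 ?_⟩
      have ha := (Lib.ClSub.Sections.mem_range_idealModι_app_affine_iff _ U _).1 ⟨a, rfl⟩
      have hb := (Lib.ClSub.Sections.mem_range_idealModι_app_affine_iff _ U _).1 ⟨b, rfl⟩
      rw [Scheme.IdealSheafData.ideal_bot, Pi.bot_apply] at ha hb
      exact ((Submodule.mem_bot _).1 ha).trans ((Submodule.mem_bot _).1 hb).symm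
    exact (show Function.Surjective (e.hom.app U.1) from
      fun v => ⟨e.inv.app U.1 v, congr($(e.inv_hom_id).app U.1 v)⟩).subsingleton
  obtain ⟨x⟩ := (inferInstance : Nonempty (CohB1.ProjSpace N k))
  obtain ⟨U, g, hxU, hg⟩ := TensorMod.Gen.isInvertible_iff.1 (isInvertible_tw (n := N) (R := k) c) x
  obtain ⟨V, hV, hxV, hVU⟩ := exists_isAffineOpen_mem_and_subset (U := U) hxU
  haveI := hsub ⟨V, hV⟩
  haveI : Subsingleton Γ(CohB1.ProjSpace N k, V) := (hg V hVU).1.subsingleton
  haveI : Nonempty V := ⟨⟨x, hxV⟩⟩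
  exact false_of_nontrivial_of_subsingleton Γ(CohB1.ProjSpace N k, V)

include hI in
/-- The sequence `0 → O(n + c) → O(n) → O_X(n) → 0`. -/
theorem exists_seq (n : ℤ) : ∃ S : ShortComplex (CohB1.ProjSpace N k).Modules, S.ShortExact ∧
    Nonempty (S.X₁ ≅ tw N k (n + c)) ∧ Nonempty (S.X₂ ≅ tw N k n) ∧
    Nonempty (S.X₃ ≅ CohB1.tensorMod (ClSub.quotMod I) (tw N k n)) ∧
    Coh.IsCoh S.X₃ ∧ CohB1.support S.X₃ ⊆ (I.support : Set (CohB1.ProjSpace N k)) := by
  obtain ⟨e⟩ := hI
  have hM : PicF.IsInvertible (tw N k n) := isInvertible_tw n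
  refine ⟨Snapper.Twist.twistSeq (tw N k n) (Lib.ClSub.Quot.idealSeq I),
    Snapper.Twist.twistSeq_shortExact hM (Lib.ClSub.Quot.idealSeq_shortExact I),
    ⟨TensorMod.Basic.tensorIso (Iso.refl _) e ≪≫ twTensor n c⟩,
    ⟨TensorMod.Basic.rightUnit _⟩, ⟨TensorMod.Basic.comm _ _⟩,
    Snapper.Twist.isCoh_twist hM (Devissage.Closure.isCoh_push_structureModule I.subschemeι), ?_⟩
  show CohB1.support (CohB1.tensorMod (tw N k n) (ClSub.quotMod I)) ⊆ _
  rw [Snapper.Twist.support_twist hM, Lib.ClSub.Quot.support_quotMod]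

include hI in
set_option maxHeartbeats 1000000 in
/-- Vanishing above the dimension and in the middle, finiteness, and the dimensions. -/
theorem spec (hN : 1 ≤ N) (n : ℤ) :
    let C := CohB1.tensorMod (ClSub.quotMod I) (tw N k n)
    (∀ p, N ≤ p → Subsingleton (Coh.HH ℙ C p)) ∧
    (∀ p, p ≠ 0 → p + 1 ≠ N → Subsingleton (Coh.HH ℙ C p)) ∧
    (∀ p, Module.Finite k (Coh.HH ℙ C p)) ∧
    (2 ≤ N → Module.finrank k (Coh.HH ℙ C 0) =
        (n + (N : ℤ)).toNat.choose N - (n + c + (N : ℤ)).toNat.choose N ∧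
      Module.finrank k (Coh.HH ℙ C (N - 1)) =
        (-(n + c) - 1).toNat.choose N - (-n - 1).toNat.choose N) ∧
    (N = 1 → Module.finrank k (Coh.HH ℙ C 0) =
        ((n + (N : ℤ)).toNat.choose N - (n + c + (N : ℤ)).toNat.choose N) +
        ((-(n + c) - 1).toNat.choose N - (-n - 1).toNat.choose N)) := by
  intro C
  obtain ⟨S, hS, ⟨e₁⟩, ⟨e₂⟩, ⟨e₃⟩, hcoh, hsupp⟩ := exists_seq I hI n
  haveI := ProjSpace.Basic.irreducibleSpace_projSpace N k
  haveI : SheafOfModules.IsFiniteType (R := (CohB1.ProjSpace N k).ringCatSheaf) S.X₃ := hcoh.2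
  have hdimP : topologicalKrullDim (CohB1.ProjSpace N k) ≤ (N : WithBot ℕ∞) := by
    rw [ProjSpace.Dim.topologicalKrullDim_projSpace, ringKrullDim_eq_zero_of_field]
    simp
  have hdim : topologicalKrullDim (CohB1.support S.X₃) ≤ ((N - 1 : ℕ) : WithBot ℕ∞) := by
    refine dim_le (Modules.Support.isClosed_support _) (fun h => ?_)
      (by rwa [show N - 1 + 1 = N by omega])
    exact support_ne_univ I hI (Set.eq_univ_of_forall fun x => hsupp (h ▸ Set.mem_univ x))
  haveI : IsLocallyNoetherian (CohB1.ProjSpace N k) :=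
    LocallyOfFiniteType.isLocallyNoetherian (CohB1.ProjSpace.toSpec N k)
  haveI : CompactSpace (CohB1.ProjSpace N k) := QuasiCompact.compactSpace_of_compactSpace (CohB1.ProjSpace.toSpec N k)
  haveI : IsNoetherian (CohB1.ProjSpace N k) := {}
  have hhigh : ∀ p, N ≤ p → Subsingleton (Coh.HH ℙ S.X₃ p) := fun p hp =>
    GrothVanSupport.subsingleton_HH N hdimP S.X₃ hdim p (by omega)
  have hmid : ∀ p, p ≠ 0 → p + 1 ≠ N → Subsingleton (Coh.HH ℙ S.X₃ p) := fun p h0 h1 => by
    by_cases hp : N ≤ p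
    · exact hhigh p hp
    haveI : Subsingleton (Coh.HH ℙ S.X₂ p) :=
      haveI := vanish (k := k) (N := N) n h0 (by omega)
      (isoK k e₂ p).toEquiv.subsingleton
    haveI : Subsingleton (Coh.HH ℙ S.X₁ (p + 1)) :=
      haveI := vanish (k := k) (N := N) (n + c) (q := p + 1) (by omega) h1
      (isoK k e₁ (p + 1)).toEquiv.subsingleton
    refine ⟨fun a b => ?_⟩
    obtain ⟨a', rfl⟩ := (exactK₃ k hS p (p + 1) rfl a).1 (Subsingleton.elim _ _)
    obtain ⟨b', rfl⟩ := (exactK₃ k hS p (p + 1) rfl b).1 (Subsingleton.elim _ _)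
    rw [Subsingleton.elim a' b']
  haveI f1 : ∀ p, Module.Finite k (Coh.HH ℙ S.X₁ p) := fun p =>
    haveI := ProjCoh.Twist.finite_HH N k (n + c) p
    haveI : Module.Finite k (Coh.HH ℙ (tw N k (n + c)) p) := ProjCoh.Coherent.finite_HH _ (isCoh_tw _) p
    Module.Finite.equiv (isoK k e₁ p).symm
  haveI f2 : ∀ p, Module.Finite k (Coh.HH ℙ S.X₂ p) := fun p =>
    haveI : Module.Finite k (Coh.HH ℙ (tw N k n) p) := ProjCoh.Coherent.finite_HH _ (isCoh_tw _) p
    Module.Finite.equiv (isoK k e₂ p).symm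
  haveI f3 : ∀ p, Module.Finite k (Coh.HH ℙ S.X₃ p) := fun p => ProjCoh.Coherent.finite_HH _ hcoh p
  have hinj : Function.Injective (mapK k S.f 0) :=
    haveI := hS.mono_f
    Curves.LES.mapK_injective_of_mono k S.f
  have a0 : Module.finrank k (Coh.HH ℙ S.X₁ 0) = (n + c + (N : ℤ)).toNat.choose N :=
    (isoK k e₁ 0).finrank_eq.trans (h0 hN _)
  have b0 : Module.finrank k (Coh.HH ℙ S.X₂ 0) = (n + (N : ℤ)).toNat.choose N :=
    (isoK k e₂ 0).finrank_eq.trans (h0 hN _)
  have aN : Module.finrank k (Coh.HH ℙ S.X₁ N) = (-(n + c) - 1).toNat.choose N :=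
    (isoK k e₁ N).finrank_eq.trans (hTop hN _)
  have bN : Module.finrank k (Coh.HH ℙ S.X₂ N) = (-n - 1).toNat.choose N :=
    (isoK k e₂ N).finrank_eq.trans (hTop hN _)
  obtain ⟨m, hm⟩ : ∃ m, m + 1 = N := ⟨N - 1, by omega⟩
  haveI := hhigh N le_rfl
  have hsurjN : Function.Surjective (mapK k S.f N) := fun y =>
    (exactK₂ k hS N y).1 (Subsingleton.elim _ _)
  have e2 := (mapK k S.f N).finrank_range_add_finrank_ker
  rw [LinearMap.range_eq_top.2 hsurjN, finrank_top, LinearMap.exact_iff.1 (exactK₁ k hS m N hm)] at e2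
  have e3 := (δK k hS m N hm).finrank_range_add_finrank_ker
  rw [LinearMap.exact_iff.1 (exactK₃ k hS m N hm)] at e3
  have e4 := (mapK k S.g 0).finrank_range_add_finrank_ker
  rw [LinearMap.exact_iff.1 (exactK₂ k hS 0), LinearMap.finrank_range_of_inj hinj] at e4
  refine ⟨fun p hp => ?_, fun p h0 h1 => ?_, fun p => Module.Finite.equiv (isoK k e₃ p),
    fun h2 => ⟨?_, ?_⟩, fun h1 => ?_⟩
  · haveI := hhigh p hp
    exact (isoK k e₃ p).symm.toEquiv.subsingleton
  · haveI := hmid p h0 h1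
    exact (isoK k e₃ p).symm.toEquiv.subsingleton
  · rw [← (isoK k e₃ 0).finrank_eq]
    haveI : Subsingleton (Coh.HH ℙ S.X₁ 1) :=
      haveI : Subsingleton (Coh.HH ℙ (tw N k (n + c)) 1) :=
        Groth.Agent.S0844.result k N (n + c) 1 (fun h => absurd h.1 (by omega)) (fun h => absurd h.1 (by omega))
      (isoK k e₁ 1).toEquiv.subsingleton
    have hg : Function.Surjective (mapK k S.g 0) := fun y =>
      (exactK₃ k hS 0 1 rfl y).1 (Subsingleton.elim _ _)
    rw [LinearMap.range_eq_top.2 hg, finrank_top] at e4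
    omega
  · rw [show N - 1 = m by omega, ← (isoK k e₃ m).finrank_eq]
    haveI : Subsingleton (Coh.HH ℙ S.X₂ m) :=
      haveI : Subsingleton (Coh.HH ℙ (tw N k n) m) :=
        Groth.Agent.S0844.result k N n m (fun h => absurd h.1 (by omega)) (fun h => absurd h.1 (by omega))
      (isoK k e₂ m).toEquiv.subsingleton
    rw [show mapK k S.g m = 0 from LinearMap.ext fun x => by rw [Subsingleton.elim x 0, map_zero, map_zero],
      LinearMap.range_zero, finrank_bot] at e3
    omega
  · obtain rfl : m = 0 := by omega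
    rw [← (isoK k e₃ 0).finrank_eq]
    omega

end Groth.Agent.H95.HypersurfaceCoh
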