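import Groth.Agent.Lib.ExtFilt.Main
import Groth.Agent.Lib.ExtFilt.Lambda
import Groth.Agent.Lib.Bott.FreePow

/-!
# `0 → A ⊗ ⋀^b C → ⋀^{b+1} B → ⋀^{b+1} C → 0` for `0 → A → B → C → 0` with `A` invertible
-/

set_option autoImplicit false
set_option linter.style.haveILetI false
universe u

open CategoryTheory CategoryTheory.Limits AlgebraicGeometry Opposite TopologicalSpace

noncomputable section

namespace Groth.Agent.H95.WedgeLine

open Groth.Agent.Lib Groth.Agent.Lib.ExtFilt.Sheaf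
open Groth.Agent.Lib.TensorMod.Dual (rs)
open Groth.Agent.Lib.Modules.TensorSec (section_ext app_rs rs_zero)

variable {X : Scheme.{u}}

/-- Exterior powers beyond the rank vanish; the rank may vary. -/
theorem isZero_of_rank_lt {E L : X.Modules} {p : ℕ}
    (hE : ∀ x : X, ∃ (U : X.Opens) (a : ℕ), x ∈ U ∧ a < p ∧
      Nonempty (E.restrict U.ι ≅ FlatMod.freeMod (↑U) a))
    (hL : ExtPow.IsExtPow p E L) : IsZero L := by
  obtain ⟨φ, hφ⟩ := hL
  rw [IsZero.iff_id_eq_zero]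
  refine Modules.StalkModule.hom_ext_stalkMapₗ fun x => LinearMap.ext fun v => ?_
  obtain ⟨U, a, hxU, ha, ⟨i⟩⟩ := hE x
  obtain ⟨e₀, he₀⟩ := TensorMod.Basis.exists_basis_of_iso i
  obtain ⟨A, hAU, hxA⟩ := Modules.AffineHom.exists_affine hxU
  obtain ⟨b, -⟩ := FundLocal.WedgeDual.isFrame_wedge φ hφ A _ (he₀.res hAU) x hxA
  haveI : IsEmpty (Set.powersetCard (Fin a) p) := ⟨fun S => by
    have h1 := Finset.card_le_univ (S : Finset (Fin a))
    rw [Set.powersetCard.card_eq, Fintype.card_fin] at h1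
    omega⟩
  haveI : Subsingleton (L.presheaf.stalk x) := b.repr.toEquiv.subsingleton
  exact Subsingleton.elim _ _

theorem exists_fam {E : X.Modules} (hE : FlatMod.IsFinLocFree E) : Nonempty (Fam E) :=
  ⟨ExtFilt.Lambda.fam (fun i E hE => by
    haveI := Modules.AffineSections.isQCoh_of_isFinLocFree hE
    obtain ⟨L, hL⟩ := FundLocal.ExtPowExists.exists_isExtPow E i
    exact ⟨L, GrassGen.ExtPowFree.isFinLocFree hE hL, hL⟩) hE⟩

theorem fam_isExtPow {E : X.Modules} (F : Fam E) (i : ℕ) : ExtPow.IsExtPow i E (F.L i) :=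
  ⟨F.φ i, F.compat i⟩

variable {S : ShortComplex X.Modules} (F₂ : Fam S.X₂) (F₃ : Fam S.X₃)

/-- The exterior powers of an extension by a line bundle. -/
theorem exists_shortExact (hS : S.ShortExact) (h₁ : FlatMod.IsFinLocFreeOfRank 1 S.X₁)
    (h₂ : FlatMod.IsFinLocFree S.X₂) (h₃ : FlatMod.IsFinLocFree S.X₃) (b : ℕ) :
    ∃ T : ShortComplex X.Modules, T.ShortExact ∧ Nonempty (T.X₁ ≅ CohB1.tensorMod S.X₁ (F₃.L b)) ∧
      Nonempty (T.X₂ ≅ F₂.L (b + 1)) ∧ Nonempty (T.X₃ ≅ F₃.L (b + 1)) := by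
  have h₁' := TensorMod.LocFree.of_rank h₁
  obtain ⟨F₁⟩ := exists_fam h₁'
  have h : 1 + b = b + 1 := add_comm 1 b
  have h0 : 0 + (b + 1) = b + 1 := zero_add _
  have hz2 : IsZero (F₁.L 2) := isZero_of_rank_lt
    (fun x => by obtain ⟨U, hU, hi⟩ := h₁ x; exact ⟨U, 1, hU, by omega, hi⟩) (fam_isExtPow F₁ 2)
  -- the kernel piece
  obtain ⟨T, hT, e₁, e₂, e₃⟩ := exists_step F₁ F₂ F₃ hS h₁' h₂ h₃ h (𝟙 (F₂.L (b + 1))) (cokernel.π _)
    (Category.id_comp _)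
    (fun U s hs => by
      show (muHom F₁ F₂ S.f h).app U.1 s = 0
      cases b with
      | zero => rw [qHom_zero_injective F₁ F₂ F₃ hS h₁' h₂ h₃ 1 U s hs, map_zero]
      | succ b =>
        obtain ⟨t, ht⟩ := muHom_sub_mem F₁ F₂ F₃ hS h₁' h₂ h₃ (j := b) h (by omega) U s hs
        haveI : Subsingleton Γ(F₁.L 2, U.1) := Modules.AffineSections.subsingleton_sections hz2 U.1
        rw [ht]
        have ht0 : t = 0 := by
          haveI := qcoh F₁ 2
          haveI := qcoh F₂ b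
          obtain ⟨z, rfl⟩ := (γ (F₁.L 2) (F₂.L b) U).surjective t
          rw [Subsingleton.elim z 0, map_zero]
        rw [ht0, map_zero])
    (fun U s hs => by
      refine qHom_eq_zero_of_muHom_zero F₁ F₂ F₃ hS h₁' h₂ h₃ h U s ?_
      rwa [Scheme.Modules.Hom.id_app, ConcreteCategory.id_apply] at hs)
  -- the cokernel piece
  let μ := muHom F₁ F₂ S.f h
  obtain ⟨T', hT', e₁', e₂', e₃'⟩ := exists_step F₁ F₂ F₃ hS h₁' h₂ h₃ h0 (cokernel.π μ)
    (cokernel.desc μ (cokernel.π (muHom F₁ F₂ S.f h0))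
      (muHom_comp_cokernel F₁ F₂ S.f (i := 0) (j := b) h h0))
    (cokernel.π_desc _ _ _)
    (fun U s hs => by
      obtain ⟨t, ht⟩ := muHom_sub_mem F₁ F₂ F₃ hS h₁' h₂ h₃ (i := 0) (j := b) h0 h U s hs
      rw [ht]
      exact congr(($(cokernel.condition μ)).app U.1 t))
    (fun U s hs => section_ext _ _ _ fun x hx => by
      obtain ⟨W, hW, m, hxW, hm⟩ := Modules.LocalSections.exists_preimage_of_exact
        (h := ShortComplex.exact_of_g_is_cokernel
          (ShortComplex.mk μ (cokernel.π μ) (cokernel.condition μ)) (cokernelIsCokernel μ))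
        ((muHom F₁ F₂ S.f h0).app U.1 s) hs hx
      obtain ⟨V, hVW, hxV⟩ := Modules.AffineHom.exists_affine hxW
      refine ⟨V.1, hVW.trans hW, hxV, ?_⟩
      rw [rs_zero, ← app_rs]
      refine qHom_eq_zero_of_muHom_eq F₁ F₂ F₃ hS h₁' h₂ h₃ h0 V _ (i := 0) h (rs _ hVW m) ?_
      rw [app_rs, app_rs, hm, TensorMod.Dual.rs_rs])
  have hz : IsZero T'.X₃ := by
    haveI := epi_muHom_zero F₁ F₂ S.f h0
    rw [e₃']
    exact isZero_cokernel_of_epi _
  haveI : IsIso T'.f := (hT'.isIso_f_iff).2 hz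
  obtain ⟨a₀⟩ := ExtFilt.Lambda.nonempty_iso_of_isExtPow (fam_isExtPow F₁ 0) (ExtFilt.Lambda.isExtPow_zero S.X₁)
  obtain ⟨a₁⟩ := ExtFilt.Lambda.nonempty_iso_of_isExtPow (fam_isExtPow F₁ 1) (ExtFilt.Lambda.isExtPow_one S.X₁)
  refine ⟨T, hT, ⟨eqToIso e₁ ≪≫ TensorMod.Basic.tensorIso a₁ (Iso.refl _)⟩, ⟨eqToIso e₂⟩,
    ⟨eqToIso e₃ ≪≫ eqToIso e₂'.symm ≪≫ (asIso T'.f).symm ≪≫ eqToIso e₁' ≪≫
      TensorMod.Basic.tensorIso a₀ (Iso.refl _) ≪≫ TensorMod.Basic.leftUnit _⟩⟩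

end Groth.Agent.H95.WedgeLine
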