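import Groth.Prelude.Def_PicF2
import Groth.Agent.H95.WedgeLine
import Groth.Agent.H95.ExtPowPullQ
import Groth.Agent.Lib.DepthTwist.Zero
import Groth.Agent.Lib.Cyc.CH.FiltTensor
import Groth.Agent.H78.Existence.AmpleVanish
import Groth.Agent.Lib.Conormal92.SmoothRank
import Groth.Agent.Lib.FibreDim.Basic
import Groth.Agent.S7772

/-!
# Twisted Hodge cohomology of smooth hypersurface sections
-/

set_option autoImplicit false
set_option linter.style.haveILetI false
universe u

open CategoryTheory CategoryTheory.Limits AlgebraicGeometry Opposite TopologicalSpace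

noncomputable section

namespace Groth.Agent.H95.HypersurfaceHodge

open Groth.Agent.Lib
open Groth.Agent.Lib.TensorMod.Basic (assoc comm tensorIso leftUnit rightUnit)

variable {k : Type u} [Field k] {X Y : Scheme.{u}}

/-- The differentials of a smooth scheme over a field have rank at most the dimension. -/
theorem rank_le (π : X ⟶ Spec (CommRingCat.of k)) [Smooth π] [QuasiSeparated π] {n : ℕ}
    (hn : topologicalKrullDim X ≤ (n : WithBot ℕ∞)) (x : X) :
    ∃ (U : X.Opens) (a : ℕ), x ∈ U ∧ a ≤ n ∧ Nonempty ((Omega.sheaf π).restrict U.ι ≅ FlatMod.freeMod (↑U) a) := by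
  obtain ⟨U, a, hx, he, ha⟩ :=
    Kaehler.SmoothChart.exists_free_fibreDim (Kaehler.DOmega.isUniversal_dOmega π) x
  refine ⟨U, a, hx, ?_, he⟩
  have h1 := FibreDim.Basic.fibreDimAt_le_topologicalKrullDim (f := π) (x := x) (y := π.base x) rfl
  have h2 := (π.fiberι (π.base x)).isEmbedding.isInducing.topologicalKrullDim_le
  have h3 := (h1.trans h2).trans hn
  rw [ha] at h3
  exact_mod_cast h3

/-- The conormal sequence of a closed immersion of smooth schemes. -/
theorem exists_seq {S : Scheme.{u}} (f : X ⟶ S) (i : Y ⟶ X) [IsClosedImmersion i] [Smooth f]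
    [Smooth (i ≫ f)] [QuasiSeparated f] [QuasiSeparated (i ≫ f)] :
    ∃ (φ : Omega.conormal i ⟶ (Scheme.Modules.pullback i).obj (Omega.sheaf f))
      (c : (Scheme.Modules.pullback i).obj (Omega.sheaf f) ⟶ Omega.sheaf (i ≫ f)) (w : φ ≫ c = 0),
      (ShortComplex.mk φ c w).ShortExact := by
  have hX := Kaehler.DOmega.isUniversal_dOmega f
  have hZ := Kaehler.DOmega.isUniversal_dOmega (i ≫ f)
  obtain ⟨φ, hφ⟩ := Groth.Agent.H63.SectionOmega.exists_conormalDiff i (OmegaSh.dOmega f)
  obtain ⟨c, hc, -⟩ := Kaehler.Basic.existsUnique_diffCompat (h := i) (b := 𝟙 S)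
    (hsq := Category.comp_id _) hX (OmegaSh.dOmega (i ≫ f))
  obtain ⟨hepi, hex⟩ := Kaehler.Descend.epi_and_exact hX hZ hφ hc
  haveI := Conormal92.Affine.isQCoh_conormal i
  haveI : (Omega.sheaf f).IsQuasicoherent := Kaehler.Finite.isQuasicoherent hX
  haveI : ((Scheme.Modules.pullback i).obj (Omega.sheaf f)).IsQuasicoherent :=
    QCoh.Pullback.isQCoh_pullback i _
  haveI : Mono φ := QCohChart.Basic.mono_of_charts φ fun z => by
    obtain ⟨Y₀, hY₀, hz, -⟩ := AlgebraicGeometry.exists_isAffineOpen_mem_and_subset (U := (⊤ : S.Opens))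
      (x := f (i z)) trivial
    obtain ⟨V, hch, hzV, hV⟩ := Conormal92.Affine.exists_chart i z (W := f ⁻¹ᵁ Y₀) hz
    refine ⟨i ⁻¹ᵁ V, hch.affine_preimage, hzV, ?_⟩
    exact Conormal92.SplitInj.injective_app hX hφ hch hY₀ hV
      (Kaehler.FSmooth.formallySmooth_appLE
        (SmoothLift.Formal.isFormallySmoothHom_of_smooth (i ≫ f)) hY₀ hch.affine_preimage _)
  haveI : Epi c := hepi
  exact ⟨φ, c, Kaehler.Descend.zero hφ hc, { exact := hex }⟩

variable [X.Over (Spec (CommRingCat.of k))]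

variable (k) in
include k in
/-- Cohomology of a zero module. -/
theorem subsingleton_of_isZero {M : X.Modules} (h : IsZero M) (q : ℕ) : Subsingleton (Coh.HH X M q) := by
  refine subsingleton_of_forall_eq 0 fun x => ?_
  have h0 : Curves.LES.mapK k (0 : M ⟶ M) q x = 0 := by
    have := ProjCoh.Coherent.mapK_add k (0 : M ⟶ M) 0 q x
    rw [add_zero] at this
    exact left_eq_add.1 this
  rw [← h0, ← show 𝟙 M = (0 : M ⟶ M) from h.eq_of_src _ _, Curves.LES.mapK_id]
  rfl

variable (X) in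
/-- `i_* i^* E ≅ E ⊗ O/D`. -/
theorem nonempty_push_pull (D : X.IdealSheafData) {E : X.Modules} (hE : FlatMod.IsFinLocFree E) :
    Nonempty ((Coh.push D.subschemeι).obj ((Scheme.Modules.pullback D.subschemeι).obj E) ≅
      CohB1.tensorMod E (_root_.ClSub.quotMod D)) :=
  ⟨(Coh.push D.subschemeι).mapIso (rightUnit _).symm ≪≫
    ((Modules.ProjFormula.projIso D.subschemeι (E := E) (Modules.DualBasis.hasDBases_of_isFinLocFree hE)).app
        (Coh.structureModule D.subscheme)).symm⟩

variable (k) in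
include k in
/-- Restricting to a divisor: `H^a(D, i^*(E)) = 0` when `H^a(E)` and `H^{a+1}(E(-D))` vanish. -/
theorem subsingleton_pull (D : X.IdealSheafData) {E : X.Modules} (hE : FlatMod.IsFinLocFree E) (a : ℕ)
    (h₀ : Subsingleton (Coh.HH X E a))
    (h₁ : Subsingleton (Coh.HH X (CohB1.tensorMod E (_root_.ClSub.idealMod D)) (a + 1))) :
    Subsingleton (Coh.HH D.subscheme ((Scheme.Modules.pullback D.subschemeι).obj E) a) := by
  have hfl := TensorMod.FPConv.isFlat_of_isFinLocFree hE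
  have hS := Cyc.CH.shortExact_tensor_left' hfl (ClSub.Quot.idealSeq_shortExact D)
  set T := (ClSub.Quot.idealSeq D).map ((DCoh.tensorBi (X := X)).obj E) with hTdef
  haveI : Subsingleton (Coh.HH X T.X₂ a) :=
    (Curves.LES.isoK k (show T.X₂ ≅ E from rightUnit E) a).toEquiv.subsingleton
  haveI : Subsingleton (Coh.HH X T.X₁ (a + 1)) := h₁
  have hq : Subsingleton (Coh.HH X T.X₃ a) := by
    refine ⟨fun x y => ?_⟩
    obtain ⟨x', rfl⟩ := (Curves.LES.exactK₃ k hS a (a + 1) rfl x).1 (Subsingleton.elim _ _)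
    obtain ⟨y', rfl⟩ := (Curves.LES.exactK₃ k hS a (a + 1) rfl y).1 (Subsingleton.elim _ _)
    rw [Subsingleton.elim x' y']
  obtain ⟨e⟩ := nonempty_push_pull X D hE
  haveI : Subsingleton (Coh.HH X (CohB1.tensorMod E (_root_.ClSub.quotMod D)) a) := hq
  haveI : Subsingleton (Coh.HH X
      ((Coh.push D.subschemeι).obj ((Scheme.Modules.pullback D.subschemeι).obj E)) a) :=
    (Curves.LES.isoK k e a).toEquiv.subsingleton
  haveI := Modules.AffineSections.isQCoh_of_isFinLocFree (TensorMod.LocFree.isFinLocFree_pullback D.subschemeι hE)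
  exact (ZarCoh.Morph.affineEquiv D.subschemeι ((Scheme.Modules.pullback D.subschemeι).obj E) a).symm.toEquiv.subsingleton

variable [IsProper (X ↘ Spec (CommRingCat.of k))] [Smooth (X ↘ Spec (CommRingCat.of k))]

/-- Vanishing of `H^a(Ω^b_D(D))` for `a + b ≥ dim X`, for high multiples of an ample class. -/
theorem main {n : ℕ} (hn : topologicalKrullDim X ≤ (n : WithBot ℕ∞)) {L : X.Modules} (hL : CohB1.IsAmple L) :
    ∃ m₀ : ℕ, ∀ (m : ℕ), m₀ ≤ m →
      ∀ (s : Coh.structureModule X ⟶ CohB1.tensorPow L m) [Mono s]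
        [Smooth ((PicF2.zeroScheme (CohB1.tensorPow L m) s).subschemeι ≫ (X ↘ Spec (CommRingCat.of k)))]
        (a b : ℕ) (OmY : (PicF2.zeroScheme (CohB1.tensorPow L m) s).subscheme.Modules),
        ExtPow.IsExtPow b (Omega.sheaf ((PicF2.zeroScheme (CohB1.tensorPow L m) s).subschemeι ≫
          (X ↘ Spec (CommRingCat.of k)))) OmY →
        n ≤ a + b →
        Subsingleton (Coh.HH X (CohB1.tensorMod
          ((Coh.push (PicF2.zeroScheme (CohB1.tensorPow L m) s).subschemeι).obj OmY)
          (CohB1.tensorPow L m)) a) := by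
  classical
  have hΩ : FlatMod.IsFinLocFree (Omega.sheaf (X ↘ Spec (CommRingCat.of k))) :=
    Kaehler.LocFree.isFinLocFree_of_smooth (Kaehler.DOmega.isUniversal_dOmega (X ↘ Spec (CommRingCat.of k)))
  obtain ⟨W⟩ := WedgeLine.exists_fam hΩ
  have hcoh : ∀ b, Coh.IsCoh (W.L b) := fun b =>
    haveI := H78.Existence.AmpleVanish.isNoetherian_of_proper k (X := X)
    Perfect.Coherent.isCoh_of_isFinLocFree (W.free b)
  choose f hf using fun b : ℕ => H78.Existence.AmpleVanish.exists_subsingleton k hL (hcoh b)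
  refine ⟨(Finset.range (n + 1)).sup f + 1, fun m hm => ?_⟩
  have hvan : ∀ b, b ≤ n → ∀ j, 1 ≤ j → ∀ q,
      Subsingleton (Coh.HH X (CohB1.tensorMod (W.L b) (CohB1.tensorPow (CohB1.tensorPow L m) j)) (q + 1)) := by
    intro b hb j hj q
    have h1 : f b ≤ m := le_trans (Finset.le_sup (f := f) (Finset.mem_range.2 (show b < n + 1 by omega))) (le_trans (Nat.le_succ _) hm)
    haveI := hf b (m * j) (le_trans h1 (Nat.le_mul_of_pos_right m hj)) q
    exact (Curves.LES.isoK k (tensorIso (Iso.refl (W.L b)) (Ample.Pow.powMul L m j)) (q + 1)).toEquiv.subsingleton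
  intro s hsM hsm
  let M := CohB1.tensorPow L m
  let D := PicF2.zeroScheme M s
  let i := D.subschemeι
  intro a b OmY hOmY hab
  have hM : PicF.IsInvertible M := TensorMod.Invertible.isInvertible_tensorPow hL.1 m
  haveI : Mono s := hsM
  haveI : Smooth (i ≫ (X ↘ Spec (CommRingCat.of k))) := hsm
  obtain ⟨-, ⟨ε⟩, -⟩ := DepthTwist.Zero.divisor_spec hM s
  letI : D.subscheme.Over (Spec (CommRingCat.of k)) := ⟨i ≫ (X ↘ Spec (CommRingCat.of k))⟩
  let M' := (Scheme.Modules.pullback i).obj M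
  have hM' : PicF.IsInvertible M' := PicLoc.isInvertible_pullback i hM
  -- the conormal sheaf
  have hker : i.ker = D := Scheme.IdealSheafData.ker_subschemeι D
  let εC : CohB1.tensorMod M' (Omega.conormal i) ≅ Coh.structureModule D.subscheme :=
    tensorIso (Iso.refl _) (eqToIso (show Omega.conormal i =
        (Scheme.Modules.pullback i).obj (_root_.ClSub.idealMod D) by rw [Omega.conormal, hker])) ≪≫
      (TensorMod.Pullback.pullbackTensorIso i M _).symm ≪≫
      (Scheme.Modules.pullback i).mapIso ε ≪≫ PicLoc.pullbackStructureIso i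
  have hCinv : PicF.IsInvertible (Omega.conormal i) :=
    TensorMod.Invertible.isInvertible_of_iso
      (TensorMod.Invertible.cancelRight hM'
        ((comm _ _ ≪≫ TensorMod.Invertible.tensorDualIso hM') ≪≫ εC.symm ≪≫ comm _ _))
      (TensorMod.Invertible.isInvertible_dual hM')
  have hC1 := TensorMod.LocFree.of_isInvertible hCinv
  obtain ⟨φ, c, w, hseq⟩ := exists_seq (X ↘ Spec (CommRingCat.of k)) i
  have hΩY : FlatMod.IsFinLocFree (Omega.sheaf (i ≫ (X ↘ Spec (CommRingCat.of k)))) :=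
    Kaehler.LocFree.isFinLocFree_of_smooth
      (Kaehler.DOmega.isUniversal_dOmega (i ≫ (X ↘ Spec (CommRingCat.of k))))
  have hΩXY := TensorMod.LocFree.isFinLocFree_pullback i hΩ
  obtain ⟨F₂⟩ := WedgeLine.exists_fam hΩXY
  obtain ⟨G⟩ := WedgeLine.exists_fam hΩY
  -- vanishing beyond the rank
  have hzero : ∀ b, n ≤ b → IsZero (G.L b) := fun b hb => by
    refine WedgeLine.isZero_of_rank_lt (fun y => ?_) (WedgeLine.fam_isExtPow G b)
    obtain ⟨U₁, hy₁, ⟨i₁⟩⟩ := hC1 y
    obtain ⟨U, r, hy, hr, ⟨e₂⟩⟩ := rank_le (X ↘ Spec (CommRingCat.of k)) hn (i y)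
    obtain ⟨i₂⟩ := TensorMod.LocFree.pullback_iso_of_restrict_iso i e₂
    obtain ⟨U₃, a₃, hy₃, ⟨i₃⟩⟩ := hΩY y
    have := Conormal92.SmoothRank.rank_eq_add (ShortComplex.mk φ c w) hseq i₁ i₂ i₃ hy₁ hy hy₃
    exact ⟨U₃, a₃, hy₃, by omega, ⟨i₃⟩⟩
  -- the induction
  have key : ∀ a b j : ℕ, n ≤ a + b → 1 ≤ j →
      Subsingleton (Coh.HH D.subscheme (CohB1.tensorMod (CohB1.tensorPow M' j) (G.L b)) a) := by
    have hsmall : ∀ a b j : ℕ, n ≤ b →
        Subsingleton (Coh.HH D.subscheme (CohB1.tensorMod (CohB1.tensorPow M' j) (G.L b)) a) := fun a b j hb =>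
      subsingleton_of_isZero k
        (((DCoh.tensorBi (X := D.subscheme)).obj (CohB1.tensorPow M' j)).map_isZero (hzero b hb)) a
    intro a
    induction a with
    | zero => exact fun b j hab _ => hsmall 0 b j (by omega)
    | succ a ih =>
      intro b j hab hj
      by_cases hb : n ≤ b
      · exact hsmall (a + 1) b j hb
      obtain ⟨T, hT, ⟨t₁⟩, ⟨t₂⟩, ⟨t₃⟩⟩ := WedgeLine.exists_shortExact F₂ G hseq hC1 hΩXY hΩY b
      have hP := TensorMod.Invertible.isInvertible_tensorPow hM' (j + 1)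
      have hT' := Snapper.Twist.twistSeq_shortExact hP hT
      set T' := Snapper.Twist.twistSeq (CohB1.tensorPow M' (j + 1)) T
      haveI : Subsingleton (Coh.HH D.subscheme T'.X₃ a) :=
        haveI := ih (b + 1) (j + 1) (by omega) (by omega)
        (Curves.LES.isoK k (show T'.X₃ ≅ CohB1.tensorMod (CohB1.tensorPow M' (j + 1)) (G.L (b + 1)) from
          tensorIso (Iso.refl _) t₃) a).toEquiv.subsingleton
      obtain ⟨eW⟩ := ExtFilt.Lambda.nonempty_iso_of_isExtPow (WedgeLine.fam_isExtPow F₂ (b + 1))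
        (haveI := Modules.AffineSections.isQCoh_of_isFinLocFree hΩ
         ExtPowPullQ.isExtPow_pullback i (WedgeLine.fam_isExtPow W (b + 1)) (Iso.refl _))
      haveI : Subsingleton (Coh.HH D.subscheme T'.X₂ (a + 1)) := by
        let E := CohB1.tensorMod (CohB1.tensorPow M (j + 1)) (W.L (b + 1))
        have hE : FlatMod.IsFinLocFree E := TensorMod.LocFree.isFinLocFree_tensorMod
          (TensorMod.LocFree.of_rank (TensorMod.LocFree.of_isInvertible
            (TensorMod.Invertible.isInvertible_tensorPow hM (j + 1)))) (W.free (b + 1))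
        have h₀ : Subsingleton (Coh.HH X E (a + 1)) :=
          haveI := hvan (b + 1) (by omega) (j + 1) (by omega) a
          (Curves.LES.isoK k (comm (CohB1.tensorPow M (j + 1)) (W.L (b + 1))) (a + 1)).toEquiv.subsingleton
        have h₁ : Subsingleton (Coh.HH X (CohB1.tensorMod E (_root_.ClSub.idealMod D)) (a + 1 + 1)) :=
          haveI := hvan (b + 1) (by omega) j hj (a + 1)
          (Curves.LES.isoK k (tensorIso (comm _ _) (Iso.refl _) ≪≫
            assoc (W.L (b + 1)) (CohB1.tensorPow M (j + 1)) (_root_.ClSub.idealMod D) ≪≫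
            tensorIso (Iso.refl _) (assoc (CohB1.tensorPow M j) M _ ≪≫ tensorIso (Iso.refl _) ε ≪≫ rightUnit _))
            (a + 1 + 1)).toEquiv.subsingleton
        haveI := subsingleton_pull k D hE (a + 1) h₀ h₁
        exact (Curves.LES.isoK k (show T'.X₂ ≅ (Scheme.Modules.pullback i).obj E from
          tensorIso (Ample.Pow.pullbackPow i M (j + 1)).symm (t₂ ≪≫ eW) ≪≫
            (TensorMod.Pullback.pullbackTensorIso i _ _).symm) (a + 1)).toEquiv.subsingleton
      have h1 : Subsingleton (Coh.HH D.subscheme T'.X₁ (a + 1)) := by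
        refine ⟨fun x y => ?_⟩
        obtain ⟨x', rfl⟩ := (Curves.LES.exactK₁ k hT' a (a + 1) rfl x).1 (Subsingleton.elim _ _)
        obtain ⟨y', rfl⟩ := (Curves.LES.exactK₁ k hT' a (a + 1) rfl y).1 (Subsingleton.elim _ _)
        rw [Subsingleton.elim x' y']
      exact (Curves.LES.isoK k (show CohB1.tensorMod (CohB1.tensorPow M' j) (G.L b) ≅ T'.X₁ from
        tensorIso (Iso.refl _) ((leftUnit _).symm ≪≫ tensorIso εC.symm (Iso.refl _) ≪≫ assoc _ _ _) ≪≫
          (assoc (CohB1.tensorPow M' j) M' _).symm ≪≫ tensorIso (Iso.refl _) t₁.symm) (a + 1)).toEquiv.subsingleton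
  -- back to `X`
  haveI := key a b 1 hab le_rfl
  obtain ⟨eG⟩ := ExtFilt.Lambda.nonempty_iso_of_isExtPow hOmY (WedgeLine.fam_isExtPow G b)
  let eY : CohB1.tensorMod OmY M' ≅ CohB1.tensorMod (CohB1.tensorPow M' 1) (G.L b) :=
    comm _ _ ≪≫ tensorIso (Ample.Pow.powOne M').symm eG
  haveI : Subsingleton (Coh.HH D.subscheme (CohB1.tensorMod OmY M') a) :=
    (Curves.LES.isoK k eY a).toEquiv.subsingleton
  haveI : (CohB1.tensorMod OmY M').IsQuasicoherent :=
    Modules.AffineSections.isQCoh_of_isFinLocFree (TensorMod.LocFree.isFinLocFree_tensorMod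
      (GrassGen.ExtPowFree.isFinLocFree hΩY hOmY) (TensorMod.LocFree.of_rank (TensorMod.LocFree.of_isInvertible hM')))
  haveI : Subsingleton (Coh.HH X ((Coh.push i).obj (CohB1.tensorMod OmY M')) a) :=
    (ZarCoh.Morph.affineEquiv i (CohB1.tensorMod OmY M') a).toEquiv.subsingleton
  exact (Curves.LES.isoK k (show CohB1.tensorMod ((Coh.push i).obj OmY) M ≅ (Coh.push i).obj (CohB1.tensorMod OmY M') from
    comm _ _ ≪≫ (Modules.ProjFormula.projIso i (E := M) (Modules.DualBasis.hasDBases_of_isFinLocFree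
      (TensorMod.LocFree.of_rank (TensorMod.LocFree.of_isInvertible hM)))).app OmY ≪≫
      (Coh.push i).mapIso (comm _ _)) a).toEquiv.subsingleton

end Groth.Agent.H95.HypersurfaceHodge
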