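import Groth.Prelude.Def_KZero
import Mathlib

set_option linter.unusedSectionVars false

/-!
# The Hilbert function of a graded module in the Grothendieck group
-/

universe u

open CategoryTheory DirectSum

namespace Groth.Agent.H95.K0Hilbert

section Numeric

variable {G : Type u} [AddCommGroup G]

/-- Eventually a combination of binomial coefficients. -/
def IsPoly (f : ℕ → G) : Prop :=
  ∃ (r : ℕ) (c : ℕ → G) (N : ℕ), ∀ n, N ≤ n → f n = ∑ i ∈ Finset.range r, n.choose i • c i

lemma sum_pad {r s : ℕ} (h : r ≤ s) (c : ℕ → G) (n : ℕ) :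
    ∑ i ∈ Finset.range s, n.choose i • (if i < r then c i else 0) = ∑ i ∈ Finset.range r, n.choose i • c i := by
  rw [← Finset.sum_range_add_sum_Ico _ h, Finset.sum_eq_zero (s := Finset.Ico r s) (fun i hi => by
    rw [if_neg (by simp only [Finset.mem_Ico] at hi; omega), smul_zero]), add_zero]
  exact Finset.sum_congr rfl fun i hi => by rw [if_pos (Finset.mem_range.1 hi)]

lemma IsPoly.sub {f g : ℕ → G} (hf : IsPoly f) (hg : IsPoly g) : IsPoly fun n => f n - g n := by
  obtain ⟨r, c, N, h⟩ := hf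
  obtain ⟨r', c', N', h'⟩ := hg
  refine ⟨max r r', fun i => (if i < r then c i else 0) - if i < r' then c' i else 0, max N N', fun n hn => ?_⟩
  simp only [smul_sub, Finset.sum_sub_distrib]
  rw [sum_pad (le_max_left r r'), sum_pad (le_max_right r r'), h n (le_of_max_le_left hn),
    h' n (le_of_max_le_right hn)]

lemma choose_succ_sum (r : ℕ) (c : ℕ → G) (n : ℕ) :
    ∑ i ∈ Finset.range (r + 1), (n + 1).choose i • c i =
      ∑ i ∈ Finset.range (r + 1), n.choose i • c i + ∑ i ∈ Finset.range r, n.choose i • c (i + 1) := by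
  simp only [Finset.sum_range_succ', Nat.choose_succ_succ, add_smul, Finset.sum_add_distrib,
    Nat.choose_zero_right]
  abel

lemma IsPoly.shift {f : ℕ → G} (hf : IsPoly f) : IsPoly fun n => f (n + 1) := by
  obtain ⟨r, c, N, h⟩ := hf
  refine ⟨r + 1, fun i => (if i < r then c i else 0) + if i < r then (if i + 1 < r then c (i + 1) else 0) else 0, N,
    fun n hn => ?_⟩
  simp only [smul_add, Finset.sum_add_distrib]
  rw [h (n + 1) (by omega), ← sum_pad (Nat.le_succ r) c (n + 1), choose_succ_sum,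
    sum_pad (Nat.le_succ r) (fun i => if i + 1 < r then c (i + 1) else 0)]

lemma IsPoly.of_diff {f : ℕ → G} (hf : IsPoly fun n => f (n + 1) - f n) : IsPoly f := by
  obtain ⟨r, c, N, h⟩ := hf
  let C : G → ℕ → G := fun z i => match i with | 0 => z | j + 1 => c j
  let S : G → ℕ → G := fun z n => ∑ i ∈ Finset.range (r + 1), n.choose i • C z i
  have hS : ∀ z n, S z (n + 1) = S z n + ∑ i ∈ Finset.range r, n.choose i • c i := fun z n =>
    choose_succ_sum r (C z) n
  have hz : ∀ z n, S z n = z + S 0 n := fun z n => by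
    simp only [S, Finset.sum_range_succ', C, Nat.choose_zero_right, one_smul, add_zero]
    abel
  refine ⟨r + 1, C (f N - S 0 N), N, fun n hn => ?_⟩
  change f n = S (f N - S 0 N) n
  induction n, hn using Nat.le_induction with
  | base => rw [hz]; abel
  | succ m hm ih => rw [hS, ← ih, ← h m hm]; exact (add_sub_cancel _ _).symm

end Numeric

variable {A : Type u} [CommRing A]

/-- The class of a finite module. -/
noncomputable abbrev cls (X : Type u) [AddCommGroup X] [Module A X] :
    KZero.K0sub (fun X : ModuleCat.{u} A => Module.Finite A X) :=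
  KZero.clSub (fun X : ModuleCat.{u} A => Module.Finite A X) (ModuleCat.of A X)

lemma cls_exact {X Y Z : Type u} [AddCommGroup X] [Module A X] [AddCommGroup Y] [Module A Y]
    [AddCommGroup Z] [Module A Z] [Module.Finite A X] [Module.Finite A Y] [Module.Finite A Z]
    (f : X →ₗ[A] Y) (g : Y →ₗ[A] Z) (hf : Function.Injective f) (hg : Function.Surjective g)
    (h : Function.Exact f g) : cls (A := A) Y = cls (A := A) X + cls (A := A) Z := by
  let S : ShortComplex (ModuleCat.{u} A) := ShortComplex.mk (ModuleCat.ofHom f) (ModuleCat.ofHom g)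
    (by ext x; exact h.apply_apply_eq_zero x)
  have hS : S.ShortExact := ShortComplex.ShortExact.mk'
    ((ShortComplex.moduleCat_exact_iff S).2 fun y hy => (h y).1 hy)
    ((ModuleCat.mono_iff_injective _).2 hf) ((ModuleCat.epi_iff_surjective _).2 hg)
  have h1 : Module.Finite A (ModuleCat.of A X) := ‹Module.Finite A X›
  have h2 : Module.Finite A (ModuleCat.of A Y) := ‹Module.Finite A Y›
  have h3 : Module.Finite A (ModuleCat.of A Z) := ‹Module.Finite A Z›
  rw [cls, cls, cls, KZero.clSub, KZero.clSub, KZero.clSub, dif_pos h2, dif_pos h1, dif_pos h3,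
    ← QuotientAddGroup.mk_add, QuotientAddGroup.eq_iff_sub_mem, ← sub_sub]
  exact AddSubgroup.subset_closure ⟨S, h1, h2, h3, hS, rfl⟩

lemma cls_subsingleton (X : Type u) [AddCommGroup X] [Module A X] [Subsingleton X] :
    cls (A := A) X = 0 := by
  have : Module.Finite A X := ⟨⟨∅, Subsingleton.elim _ _⟩⟩
  have h := cls_exact (LinearMap.id : X →ₗ[A] X) (LinearMap.id : X →ₗ[A] X) Function.injective_id
    Function.surjective_id (fun x => by simp [Subsingleton.elim x 0])
  exact (add_eq_left.1 h.symm)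

variable {S : Type u} [CommRing S] [Algebra A S] (𝒜 : ℕ → Submodule A S) [GradedAlgebra 𝒜]
  {M : Type u} [AddCommGroup M] [Module A M] [Module S M] [IsScalarTower A S M]
  (ℳ : ℕ → Submodule A M) [DirectSum.Decomposition ℳ] [SetLike.GradedSMul 𝒜 ℳ]

omit [Module S M] [IsScalarTower A S M] in
/-- The component of degree `n`. -/
noncomputable def proj (n : ℕ) : M →ₗ[A] M :=
  (ℳ n).subtype ∘ₗ DirectSum.component A ℕ (fun i => ℳ i) n ∘ₗ (DirectSum.decomposeLinearEquiv ℳ).toLinearMap

omit [Module S M] [IsScalarTower A S M] in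
lemma proj_mem (n : ℕ) (x : M) : proj ℳ n x ∈ ℳ n := Subtype.prop _

omit [Module S M] [IsScalarTower A S M] in
lemma proj_same {n : ℕ} {x : M} (hx : x ∈ ℳ n) : proj ℳ n x = x :=
  DirectSum.decompose_of_mem_same ℳ hx

omit [Module S M] [IsScalarTower A S M] in
lemma proj_ne {n m : ℕ} {x : M} (hx : x ∈ ℳ m) (h : m ≠ n) : proj ℳ n x = 0 :=
  DirectSum.decompose_of_mem_ne ℳ hx h

include 𝒜 in
lemma proj_smul {d : ℕ} {e : S} (he : e ∈ 𝒜 d) (x : M) :
    (∀ n, proj ℳ (d + n) (e • x) = e • proj ℳ n x) ∧ ∀ n, n < d → proj ℳ n (e • x) = 0 := by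
  induction x using DirectSum.Decomposition.inductionOn ℳ with
  | zero => simp
  | @homogeneous i x =>
    have hx : e • (x : M) ∈ ℳ (d + i) := SetLike.GradedSMul.smul_mem he x.2
    refine ⟨fun n => ?_, fun n hn => proj_ne ℳ hx (by omega)⟩
    by_cases h : i = n
    · subst h; rw [proj_same ℳ hx, proj_same ℳ x.2]
    · rw [proj_ne ℳ hx (by omega), proj_ne ℳ x.2 h, smul_zero]
  | add x y hx hy =>
    exact ⟨fun n => by rw [smul_add, map_add, map_add, hx.1, hy.1, smul_add],
      fun n hn => by rw [smul_add, map_add, hx.2 n hn, hy.2 n hn, add_zero]⟩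

variable (h0 : ∀ s ∈ 𝒜 0, s ∈ Set.range (algebraMap A S))

include h0 in
lemma exists_const (s : S) : ∃ a : A, s - algebraMap A S a ∈ (HomogeneousIdeal.irrelevant 𝒜).toIdeal := by
  obtain ⟨a, ha⟩ := h0 _ (DirectSum.decompose 𝒜 s 0).2
  refine ⟨a, (HomogeneousIdeal.mem_irrelevant_iff 𝒜 _).2 ?_⟩
  rw [map_sub, GradedRing.proj_apply, GradedRing.proj_apply, ha,
    DirectSum.decompose_of_mem_same 𝒜 (show (DirectSum.decompose 𝒜 s 0 : S) ∈ 𝒜 0 from (DirectSum.decompose 𝒜 s 0).2),
    sub_self]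

include 𝒜 in
lemma proj_smul_irrelevant {n : ℕ} {t : M} (ht : t ∈ ℳ n) {s : S}
    (hs : s ∈ (HomogeneousIdeal.irrelevant 𝒜).toIdeal) : proj ℳ n (s • t) = 0 := by
  classical
  rw [← DirectSum.sum_support_decompose 𝒜 s, Finset.sum_smul, map_sum]
  refine Finset.sum_eq_zero fun i _ => ?_
  by_cases hi : i = 0
  · subst hi
    have : (DirectSum.decompose 𝒜 s 0 : S) = 0 := by
      rw [← GradedRing.proj_apply]; exact (HomogeneousIdeal.mem_irrelevant_iff 𝒜 _).1 hs
    rw [this, zero_smul, map_zero]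
  · exact proj_ne ℳ (SetLike.GradedSMul.smul_mem (DirectSum.decompose 𝒜 s i).2 ht) (by
      change i + n ≠ n
      omega)

variable [IsNoetherianRing S] [Module.Finite S M]

include h0 in
lemma isNoetherian_piece (n : ℕ) : IsNoetherian A (ℳ n) := by
  classical
  constructor
  intro W
  let W' : Submodule A M := W.map (ℳ n).subtype
  have hW' : ∀ w ∈ W', w ∈ ℳ n := by rintro _ ⟨w, -, rfl⟩; exact w.2
  have : IsNoetherian S M := isNoetherian_of_isNoetherianRing_of_finite S M
  obtain ⟨T, hT, hTs⟩ := (Submodule.fg_span_iff_fg_span_finset_subset (R := S) (W' : Set M)).1 (IsNoetherian.noetherian _)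
  refine Submodule.fg_of_fg_map_injective _ (ℳ n).injective_subtype ⟨T, le_antisymm (Submodule.span_le.2 hT) ?_⟩
  intro w hw
  have : w ∈ Submodule.span S (T : Set M) := hTs.symm ▸ Submodule.subset_span hw
  obtain ⟨c, -, hc⟩ := Submodule.mem_span_finset.1 this
  choose a ha using exists_const 𝒜 h0
  have : w = ∑ t ∈ T, a (c t) • t := by
    rw [← proj_same ℳ (hW' w hw), ← hc, map_sum]
    refine Finset.sum_congr rfl fun t ht => ?_
    have h1 := proj_smul_irrelevant 𝒜 ℳ (hW' t (hT ht)) (ha (c t))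
    rw [sub_smul, algebraMap_smul, map_sub, (proj ℳ n).map_smul (a (c t)), proj_same ℳ (hW' t (hT ht)), sub_eq_zero] at h1
    exact h1
  rw [this]
  exact sum_mem fun t ht => Submodule.smul_mem _ _ (Submodule.subset_span ht)

/-- The degree `n` part of `Q / P`. -/
abbrev Piece (P Q : Submodule S M) (n : ℕ) : Type u :=
  (↥(Q.restrictScalars A ⊓ ℳ n)) ⧸ (P.restrictScalars A).comap (Q.restrictScalars A ⊓ ℳ n).subtype

lemma mk_eq_zero' {P Q : Submodule S M} {n : ℕ} (x : ↥(Q.restrictScalars A ⊓ ℳ n)) :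
    (Submodule.Quotient.mk x : Piece ℳ P Q n) = 0 ↔ x.1 ∈ P :=
  Submodule.Quotient.mk_eq_zero _

include h0 in
lemma finite_piece (P Q : Submodule S M) (n : ℕ) : Module.Finite A (Piece ℳ P Q n) := by
  have := isNoetherian_piece 𝒜 ℳ h0 n
  have : IsNoetherian A (↥(Q.restrictScalars A ⊓ ℳ n)) :=
    isNoetherian_of_injective (Submodule.inclusion inf_le_right) (Submodule.inclusion_injective _)
  infer_instance

/-- A submodule is homogeneous. -/
def IsHomog (P : Submodule S M) : Prop := ∀ x ∈ P, ∀ n, proj ℳ n x ∈ P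

set_option maxHeartbeats 800000 in
include h0 in
lemma main (l : List S) : (∀ e ∈ l, e ∈ 𝒜 1) → ∀ P Q : Submodule S M, IsHomog ℳ P → IsHomog ℳ Q → P ≤ Q →
    (∀ r ∈ (HomogeneousIdeal.irrelevant 𝒜).toIdeal,
      ∃ t ∈ Ideal.span {x | x ∈ l}, ∀ q ∈ Q, (r - t) • q ∈ P) →
    IsPoly fun n => cls (A := A) (Piece ℳ P Q n) := by
  classical
  induction l with
  | nil =>
    intro _ P Q hP hQ hPQ hann
    have hkill : ∀ r ∈ (HomogeneousIdeal.irrelevant 𝒜).toIdeal, ∀ q ∈ Q, r • q ∈ P := by
      intro r hr q hq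
      obtain ⟨t, ht, h⟩ := hann r hr
      obtain rfl : t = 0 := by simpa using ht
      simpa using h q hq
    have : IsNoetherian S M := isNoetherian_of_isNoetherianRing_of_finite S M
    obtain ⟨T, hT⟩ := IsNoetherian.noetherian Q
    refine ⟨0, 0, (T.sup fun g => (DirectSum.decompose ℳ g).support.sup id) + 1, fun n hn => ?_⟩
    have hv : ∀ g ∈ T, proj ℳ n g = 0 := by
      intro g hg
      by_contra hne
      have h1 : n ∈ (DirectSum.decompose ℳ g).support := by
        rw [DFinsupp.mem_support_toFun]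
        exact fun h => hne (congrArg Subtype.val h)
      have := (Finset.le_sup (f := id) h1).trans (Finset.le_sup (f := fun g => (DirectSum.decompose ℳ g).support.sup id) hg)
      simp only [id_eq] at this
      omega
    have hall : ∀ q ∈ Q, proj ℳ n q ∈ P := by
      intro q hq
      rw [← hT] at hq
      obtain ⟨c, -, hc⟩ := Submodule.mem_span_finset.1 hq
      rw [← hc, map_sum]
      refine sum_mem fun g hg => ?_
      obtain ⟨a, ha⟩ := exists_const 𝒜 h0 (c g)
      have hgQ : g ∈ Q := hT ▸ Submodule.subset_span hg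
      have hh := hP _ (hkill _ ha g hgQ) n
      rw [sub_smul, algebraMap_smul, map_sub, (proj ℳ n).map_smul a, hv g hg, smul_zero, sub_zero] at hh
      exact hh
    have : Subsingleton (Piece ℳ P Q n) := Submodule.Quotient.subsingleton_iff.2 (eq_top_iff.2 fun x _ => by
      have h1 := hall x.1 x.2.1
      rwa [proj_same ℳ x.2.2] at h1)
    simpa using cls_subsingleton (A := A) (Piece ℳ P Q n)
  | cons e l ih =>
    intro hl P Q hP hQ hPQ hann
    have he : e ∈ 𝒜 1 := hl e List.mem_cons_self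
    have hsm : ∀ x n, proj ℳ (n + 1) (e • x) = e • proj ℳ n x := fun x n => by
      rw [add_comm]; exact (proj_smul 𝒜 ℳ he x).1 n
    let μ : M →ₗ[S] M := LinearMap.lsmul S M e
    let Q' : Submodule S M := Q ⊓ P.comap μ
    let P' : Submodule S M := P ⊔ Q.map μ
    have hQ' : IsHomog ℳ Q' := fun x hx n => ⟨hQ x hx.1 n, by
      change e • proj ℳ n x ∈ P
      rw [← hsm]; exact hP _ hx.2 _⟩
    have hP' : IsHomog ℳ P' := by
      intro x hx n
      obtain ⟨p, hp, _, ⟨q, hq, rfl⟩, rfl⟩ := Submodule.mem_sup.1 hx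
      rw [map_add]
      refine add_mem (Submodule.mem_sup_left (hP p hp n)) ?_
      change proj ℳ n (e • q) ∈ P'
      rcases n with _ | n
      · rw [(proj_smul 𝒜 ℳ he q).2 0 zero_lt_one]; exact zero_mem _
      · rw [hsm]; exact Submodule.mem_sup_right ⟨_, hQ q hq n, rfl⟩
    have hPQ' : P' ≤ Q := sup_le hPQ (Submodule.map_le_iff_le_comap.2 fun q hq => Q.smul_mem e hq)
    have key : ∀ R₁ R₂ : Submodule S M, (∀ q ∈ R₂, q ∈ Q ∧ e • q ∈ R₁) → P ≤ R₁ →
        ∀ r ∈ (HomogeneousIdeal.irrelevant 𝒜).toIdeal, ∃ t ∈ Ideal.span {x | x ∈ l}, ∀ q ∈ R₂, (r - t) • q ∈ R₁ := by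
      intro R₁ R₂ h2 h1 r hr
      obtain ⟨t, ht, h⟩ := hann r hr
      rw [show {x | x ∈ e :: l} = insert e {x | x ∈ l} by ext; simp] at ht
      obtain ⟨a, z, hz, rfl⟩ := Ideal.mem_span_insert.1 ht
      refine ⟨z, hz, fun q hq => ?_⟩
      have h3 : (r - z) • q = (r - (a * e + z)) • q + a • e • q := by
        rw [smul_smul, ← add_smul]; congr 1; ring
      rw [h3]
      exact add_mem (h1 (h q (h2 q hq).1)) (R₁.smul_mem _ (h2 q hq).2)
    have hK := ih (fun x hx => hl x (List.mem_cons_of_mem _ hx)) P Q' hP hQ'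
      (fun p hp => ⟨hPQ hp, P.smul_mem e hp⟩) (key P Q' (fun q hq => hq) le_rfl)
    have hC := ih (fun x hx => hl x (List.mem_cons_of_mem _ hx)) P' Q hP' hQ hPQ'
      (key P' Q (fun q hq => ⟨hq, Submodule.mem_sup_right ⟨q, hq, rfl⟩⟩) le_sup_left)
    refine IsPoly.of_diff ?_
    convert hC.shift.sub hK using 1
    funext n
    have := finite_piece 𝒜 ℳ h0 P Q n
    have := finite_piece 𝒜 ℳ h0 P Q (n + 1)
    have := finite_piece 𝒜 ℳ h0 P Q' n
    have := finite_piece 𝒜 ℳ h0 P' Q (n + 1)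
    let μn : ↥(Q.restrictScalars A ⊓ ℳ n) →ₗ[A] ↥(Q.restrictScalars A ⊓ ℳ (n + 1)) :=
      (μ.restrictScalars A).restrict fun x hx => ⟨Q.smul_mem e hx.1, by
        rw [add_comm]; exact SetLike.GradedSMul.smul_mem he hx.2⟩
    let f : Piece ℳ P Q n →ₗ[A] Piece ℳ P Q (n + 1) :=
      Submodule.mapQ _ _ μn fun x hx => P.smul_mem e hx
    have hfr : Module.Finite A (LinearMap.range f) := Module.Finite.of_surjective _ f.surjective_rangeRestrict
    let ι : Piece ℳ P Q' n →ₗ[A] Piece ℳ P Q n :=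
      Submodule.mapQ _ _ (Submodule.inclusion (inf_le_inf_right _ (fun x hx => hx.1))) fun x hx => hx
    let π : Piece ℳ P Q (n + 1) →ₗ[A] Piece ℳ P' Q (n + 1) :=
      Submodule.mapQ _ _ LinearMap.id fun x hx => Submodule.mem_sup_left hx
    have e1 : cls (A := A) (Piece ℳ P Q n) = cls (A := A) (Piece ℳ P Q' n) + cls (A := A) (LinearMap.range f) := by
      refine cls_exact ι f.rangeRestrict ?_ f.surjective_rangeRestrict ?_
      · rw [← LinearMap.ker_eq_bot, Submodule.eq_bot_iff]
        intro z hz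
        obtain ⟨x, rfl⟩ := Submodule.Quotient.mk_surjective _ z
        exact (mk_eq_zero' ℳ x).2 (((mk_eq_zero' ℳ (P := P) (Q := Q) ⟨x.1, x.2.1.1, x.2.2⟩).1 hz))
      · rw [LinearMap.exact_iff, LinearMap.ker_rangeRestrict]
        ext z
        obtain ⟨x, rfl⟩ := Submodule.Quotient.mk_surjective _ z
        constructor
        · intro hz
          exact ⟨Submodule.Quotient.mk ⟨x.1, ⟨⟨x.2.1, (mk_eq_zero' ℳ (P := P) (μn x)).1 hz⟩, x.2.2⟩⟩, rfl⟩
        · rintro ⟨w, hw⟩
          obtain ⟨y, rfl⟩ := Submodule.Quotient.mk_surjective _ w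
          rw [← hw]
          exact (mk_eq_zero' ℳ (P := P) _).2 y.2.1.2
    have e2 : cls (A := A) (Piece ℳ P Q (n + 1)) = cls (A := A) (LinearMap.range f) + cls (A := A) (Piece ℳ P' Q (n + 1)) := by
      refine cls_exact (LinearMap.range f).subtype π Subtype.val_injective ?_ ?_
      · intro z
        obtain ⟨x, rfl⟩ := Submodule.Quotient.mk_surjective _ z
        exact ⟨Submodule.Quotient.mk x, rfl⟩
      · rw [LinearMap.exact_iff, Submodule.range_subtype]
        ext z
        obtain ⟨x, rfl⟩ := Submodule.Quotient.mk_surjective _ z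
        constructor
        · intro hz
          obtain ⟨p, hp, _, ⟨q, hq, rfl⟩, hpq⟩ := Submodule.mem_sup.1
            ((mk_eq_zero' ℳ (P := P') x).1 hz)
          refine ⟨Submodule.Quotient.mk ⟨proj ℳ n q, hQ q hq n, proj_mem ℳ n q⟩, ?_⟩
          refine (Submodule.Quotient.eq _).2 ?_
          change e • proj ℳ n q - x.1 ∈ P
          have hx1 : x.1 = proj ℳ (n + 1) p + e • proj ℳ n q := by
            conv_lhs => rw [← proj_same ℳ x.2.2, show (x : M) = p + e • q from hpq.symm]
            rw [map_add, hsm]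
          rw [hx1, sub_add_cancel_right]
          exact neg_mem (hP p hp _)
        · rintro ⟨w, hw⟩
          obtain ⟨y, rfl⟩ := Submodule.Quotient.mk_surjective _ w
          rw [← hw]
          exact (mk_eq_zero' ℳ (P := P') _).2 (Submodule.mem_sup_right ⟨y.1, y.2.1, rfl⟩)
    rw [e1, e2]
    abel

include h0 in
theorem exists_coeffs (h1 : (HomogeneousIdeal.irrelevant 𝒜).toIdeal = Ideal.span (𝒜 1 : Set S)) :
    ∃ (r : ℕ) (a : Fin r → KZero.K0sub (fun X : ModuleCat.{u} A => Module.Finite A X)) (N : ℕ), ∀ n : ℕ, N ≤ n →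
      KZero.clSub (fun X : ModuleCat.{u} A => Module.Finite A X) (ModuleCat.of A ↥(ℳ n)) = ∑ i : Fin r, ((n.choose (i : ℕ) : ℕ) : ℤ) • a i := by
  classical
  obtain ⟨T, hT, hTs⟩ := (Submodule.fg_span_iff_fg_span_finset_subset (R := S) (𝒜 1 : Set S)).1 (IsNoetherian.noetherian _)
  obtain ⟨r, c, N, h⟩ := main 𝒜 ℳ h0 T.toList (fun e he => hT (Finset.mem_toList.1 he)) ⊥ ⊤
    (fun x hx n => by rw [(Submodule.mem_bot S).1 hx, map_zero]; exact zero_mem _)
    (fun x _ n => trivial) bot_le (fun s hs => ⟨s, by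
      rw [h1, ← Ideal.submodule_span_eq, hTs] at hs
      simpa [Finset.mem_toList] using hs, fun q _ => by rw [sub_self, zero_smul]; exact zero_mem _⟩)
  refine ⟨r, fun i => c i, N, fun n hn => ?_⟩
  simp only [natCast_zsmul]
  rw [Fin.sum_univ_eq_sum_range (fun i => n.choose i • c i), ← h n hn]
  have := finite_piece 𝒜 ℳ h0 ⊥ ⊤ n
  have := isNoetherian_piece 𝒜 ℳ h0 n
  let j : Piece ℳ (⊥ : Submodule S M) ⊤ n →ₗ[A] ℳ n :=
    Submodule.liftQ _ (Submodule.inclusion inf_le_right) fun x hx => Subtype.ext (show x.1 = 0 from hx)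
  have hj : Function.Bijective j := by
    constructor
    · rw [← LinearMap.ker_eq_bot, Submodule.eq_bot_iff]
      intro z hz
      obtain ⟨x, rfl⟩ := Submodule.Quotient.mk_surjective _ z
      exact (mk_eq_zero' ℳ x).2 (congrArg Subtype.val (LinearMap.mem_ker.1 hz))
    · exact fun x => ⟨Submodule.Quotient.mk ⟨x.1, trivial, x.2⟩, rfl⟩
  have h2 := cls_exact j (0 : ℳ n →ₗ[A] PUnit.{u + 1}) hj.1 (fun x => ⟨0, Subsingleton.elim _ _⟩)
    (fun y => ⟨fun _ => hj.2 y, fun _ => Subsingleton.elim _ _⟩)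
  rw [cls_subsingleton (A := A) PUnit.{u + 1}, add_zero] at h2
  exact h2

end Groth.Agent.H95.K0Hilbert
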