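import Groth.Agent.H95.AbsOmega
import Groth.Agent.Lib.Kaehler.Seq
import Groth.Agent.Lib.Kaehler.SmoothMono
import Groth.Agent.Lib.ExtFilt.Sheaf

/-!
# Vanishing along extensions by free sheaves
-/

set_option autoImplicit false
set_option linter.style.haveILetI false
universe u

open CategoryTheory CategoryTheory.Limits AlgebraicGeometry Opposite TopologicalSpace OmegaSh

noncomputable section

namespace Groth.Agent.H95.KodairaAbs

open Groth.Agent.Lib
open Groth.Agent.Lib.TensorMod.Basic (assoc comm tensorIso leftUnit rightUnit)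

variable (k : Type u) [Field k] {X : Scheme.{u}} [X.Over (Spec (CommRingCat.of k))]

/-- Twists of exterior powers of `E` have no cohomology in total degree at most `n`. -/
def Van (M : X.Modules) (n : ℕ) (E : X.Modules) : Prop :=
  ∀ b i j : ℕ, 1 ≤ j → b + i ≤ n → ∀ L : X.Modules, ExtPow.IsExtPow b E L →
    Subsingleton (Coh.HH X (CohB1.tensorMod L (CohB1.tensorPow M j)) i)

variable {M : X.Modules} (hM : PicF.IsInvertible M) {n : ℕ}

include k hM in
/-- The step: an extension by the structure sheaf. -/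
theorem van_step {S : ShortComplex X.Modules} (hS : S.ShortExact) (e : S.X₁ ≅ Coh.structureModule X)
    (h₂ : FlatMod.IsFinLocFree S.X₂) (h₃ : FlatMod.IsFinLocFree S.X₃) (h : Van M n S.X₃) :
    Van M n S.X₂ := by
  intro b i j hj hbi L hL
  obtain ⟨F₂⟩ := WedgeLine.exists_fam h₂
  obtain ⟨F₃⟩ := WedgeLine.exists_fam h₃
  obtain ⟨eL⟩ := ExtFilt.Lambda.nonempty_iso_of_isExtPow hL (WedgeLine.fam_isExtPow F₂ b)
  rcases b with _ | b
  · obtain ⟨e₁⟩ := ExtFilt.Lambda.nonempty_iso_of_isExtPow hL (ExtFilt.Lambda.isExtPow_zero _)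
    haveI := h 0 i j hj hbi _ (ExtFilt.Lambda.isExtPow_zero _)
    exact (Curves.LES.isoK k (tensorIso e₁ (Iso.refl _)) i).toEquiv.subsingleton
  have h₁ : FlatMod.IsFinLocFreeOfRank 1 S.X₁ := TensorMod.LocFree.of_isInvertible
    (TensorMod.Invertible.isInvertible_of_iso e.symm (PicLoc.isInvertible_structureModule X))
  obtain ⟨T, hT, ⟨t₁⟩, ⟨t₂⟩, ⟨t₃⟩⟩ := WedgeLine.exists_shortExact F₂ F₃ hS h₁ h₂ h₃ b
  have hT' := Snapper.Twist.twistSeq_shortExact (TensorMod.Invertible.isInvertible_tensorPow hM j) hT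
  set T' := Snapper.Twist.twistSeq (CohB1.tensorPow M j) T
  haveI : Subsingleton (Coh.HH X T'.X₁ i) :=
    haveI := h b i j hj (by omega) _ (WedgeLine.fam_isExtPow F₃ b)
    (Curves.LES.isoK k (show T'.X₁ ≅ CohB1.tensorMod (F₃.L b) (CohB1.tensorPow M j) from
      comm _ _ ≪≫ tensorIso (t₁ ≪≫ tensorIso e (Iso.refl _) ≪≫ leftUnit _) (Iso.refl _)) i).toEquiv.subsingleton
  haveI : Subsingleton (Coh.HH X T'.X₃ i) :=
    haveI := h (b + 1) i j hj hbi _ (WedgeLine.fam_isExtPow F₃ (b + 1))
    (Curves.LES.isoK k (show T'.X₃ ≅ CohB1.tensorMod (F₃.L (b + 1)) (CohB1.tensorPow M j) from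
      comm _ _ ≪≫ tensorIso t₃ (Iso.refl _)) i).toEquiv.subsingleton
  haveI : Subsingleton (Coh.HH X T'.X₂ i) := by
    refine ⟨fun x y => ?_⟩
    obtain ⟨x', rfl⟩ := (Curves.LES.exactK₂ k hT' i x).1 (Subsingleton.elim _ _)
    obtain ⟨y', rfl⟩ := (Curves.LES.exactK₂ k hT' i y).1 (Subsingleton.elim _ _)
    rw [Subsingleton.elim x' y']
  exact (Curves.LES.isoK k (show CohB1.tensorMod L (CohB1.tensorPow M j) ≅ T'.X₂ from
    tensorIso (eL ≪≫ t₂.symm) (Iso.refl _) ≪≫ comm _ _) i).toEquiv.subsingleton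

include k in
theorem van_iso {E E' : X.Modules} (e : E ≅ E') (h₁ : FlatMod.IsFinLocFree E') (h : Van M n E') :
    Van M n E := by
  intro b i j hj hbi L hL
  obtain ⟨F⟩ := WedgeLine.exists_fam h₁
  haveI := Modules.AffineSections.isQCoh_of_isFinLocFree (TensorMod.LocFree.of_iso e.symm h₁)
  have h' := ExtPowPullQ.isExtPow_pullback (𝟙 X) hL ((Scheme.Modules.pullbackId X).app E ≪≫ e)
  haveI := h b i j hj hbi _ h'
  exact (Curves.LES.isoK k (tensorIso ((Scheme.Modules.pullbackId X).app L).symm (Iso.refl _)) i).toEquiv.subsingleton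

/-- The quotient of a free module by its first summand. -/
theorem exists_coker_ι (r : ℕ) :
    Nonempty (cokernel (Sigma.ι (fun _ : Fin (r + 1) => Coh.structureModule X) 0) ≅ FlatMod.freeMod X r) := by
  let K := fun _ : Fin (r + 1) => Coh.structureModule X
  let π : ∐ K ⟶ FlatMod.freeMod X r :=
    Sigma.desc (Fin.cases 0 fun i => Sigma.ι (fun _ : Fin r => Coh.structureModule X) i)
  have h0 : Sigma.ι K 0 ≫ π = 0 := Sigma.ι_desc _ _
  have hs : ∀ i : Fin r, Sigma.ι K i.succ ≫ π = Sigma.ι (fun _ : Fin r => Coh.structureModule X) i :=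
    fun i => Sigma.ι_desc _ _
  refine ⟨⟨cokernel.desc _ π h0, Sigma.desc fun i => Sigma.ι K i.succ ≫ cokernel.π _, ?_, ?_⟩⟩
  · refine coequalizer.hom_ext (Sigma.hom_ext _ _ fun i => ?_)
    refine Fin.cases ?_ (fun i => ?_) i
    · simp [K, cokernel.condition, π]
    · rw [cokernel.π_desc_assoc, reassoc_of% hs i, Sigma.ι_desc, Category.comp_id]
  · refine Sigma.hom_ext _ _ fun i => ?_
    rw [Sigma.ι_desc_assoc, Category.assoc, cokernel.π_desc, hs i, Category.comp_id]

include k hM in
/-- An extension by a free sheaf. -/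
theorem van_free (r : ℕ) {S : ShortComplex X.Modules} (hS : S.ShortExact) (e : S.X₁ ≅ FlatMod.freeMod X r)
    (h₃ : FlatMod.IsFinLocFree S.X₃) (h : Van M n S.X₃) : Van M n S.X₂ := by
  induction r generalizing S with
  | zero =>
    have h0 : IsZero S.X₁ := (IsZero.iff_id_eq_zero _).2 (by
      rw [← e.hom_inv_id, show e.inv = 0 from Sigma.hom_ext _ _ fun i => i.elim0, comp_zero])
    haveI : IsIso S.g := (hS.isIso_g_iff).2 h0
    exact van_iso k (asIso S.g) h₃ h
  | succ r ih =>
    have hfree : FlatMod.IsFinLocFree (FlatMod.freeMod X r) := fun x =>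
      ⟨⊤, r, trivial, ⟨TensorMod.LocFree.restrictFreeModIso _ r⟩⟩
    let ι₀ := Sigma.ι (fun _ : Fin (r + 1) => Coh.structureModule X) 0
    haveI : Mono ι₀ := (SplitMono.mk (Sigma.desc (Fin.cases (𝟙 _) fun _ => 0)) (Sigma.ι_desc _ _)).mono
    let f := e.inv ≫ S.f
    haveI := hS.mono_f
    haveI := hS.epi_g
    haveI : Mono f := mono_comp _ _
    have hf : f ≫ S.g = 0 := by rw [Category.assoc, S.zero, comp_zero]
    have hfex : (ShortComplex.mk f S.g hf).Exact := ShortComplex.exact_of_iso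
      (ShortComplex.isoMk e (Iso.refl _) (Iso.refl _) (by simp [f]) (by simp)) hS.exact
    let g' : cokernel (ι₀ ≫ f) ⟶ S.X₃ := cokernel.desc _ S.g (by rw [Category.assoc, hf, comp_zero])
    let m : cokernel ι₀ ⟶ cokernel (ι₀ ≫ f) :=
      cokernel.desc _ (f ≫ cokernel.π _) ((Category.assoc _ _ _).symm.trans (cokernel.condition (ι₀ ≫ f)))
    have hmg : m ≫ g' = 0 := coequalizer.hom_ext (by simp [m, g', hf])
    haveI : Epi g' := by
      haveI : Epi (cokernel.π (ι₀ ≫ f) ≫ g') := by
        rw [show cokernel.π (ι₀ ≫ f) ≫ g' = S.g from cokernel.π_desc _ _ _]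
        infer_instance
      exact epi_of_epi (cokernel.π (ι₀ ≫ f)) g'
    haveI : Mono m := by
      refine Preadditive.mono_of_cancel_zero _ fun {T} t ht => ?_
      obtain ⟨A, p, hp, t', ht'⟩ := surjective_up_to_refinements_of_epi (cokernel.π ι₀) t
      have h2 : (t' ≫ f) ≫ cokernel.π (ι₀ ≫ f) = 0 := by
        exact (Category.assoc _ _ _).trans ((congrArg (t' ≫ ·) (cokernel.π_desc _ _ _ :
          cokernel.π ι₀ ≫ m = f ≫ cokernel.π _).symm).trans ((Category.assoc _ _ _).symm.trans
            (by rw [← ht', Category.assoc, ht, comp_zero])))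
      obtain ⟨A', p', hp', v, hv⟩ := ((ShortComplex.exact_iff_exact_up_to_refinements _).1
        (ShortComplex.exact_of_g_is_cokernel (ShortComplex.mk (ι₀ ≫ f) (cokernel.π _) (cokernel.condition _))
          (cokernelIsCokernel _))) (t' ≫ f) h2
      have h3 : p' ≫ t' = v ≫ ι₀ := by
        rw [← cancel_mono f, Category.assoc, Category.assoc]
        exact hv
      haveI := hp
      haveI := hp'
      rw [← cancel_epi p, comp_zero, ht', ← cancel_epi p', comp_zero, ← Category.assoc, h3, Category.assoc,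
        cokernel.condition, comp_zero]
    have hm : (ShortComplex.mk m g' hmg).Exact := by
      rw [ShortComplex.exact_iff_exact_up_to_refinements]
      intro A z hz
      obtain ⟨A', p, hp, z', hz'⟩ := surjective_up_to_refinements_of_epi (cokernel.π (ι₀ ≫ f)) z
      have h2 : z' ≫ S.g = 0 := by
        rw [← show cokernel.π (ι₀ ≫ f) ≫ g' = S.g from cokernel.π_desc _ _ _, ← Category.assoc, ← hz',
          Category.assoc, hz, comp_zero]
      obtain ⟨A'', p', hp', v, hv⟩ := ((ShortComplex.exact_iff_exact_up_to_refinements _).1 hfex) z' h2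
      haveI := hp
      haveI := hp'
      refine ⟨A'', p' ≫ p, inferInstance, v ≫ cokernel.π ι₀, ?_⟩
      show (p' ≫ p) ≫ z = (v ≫ cokernel.π ι₀) ≫ m
      rw [Category.assoc v, show cokernel.π ι₀ ≫ m = f ≫ cokernel.π _ from cokernel.π_desc _ _ _,
        ← Category.assoc v, ← show p' ≫ z' = v ≫ f from hv, Category.assoc, Category.assoc, hz']
    obtain ⟨ec⟩ := exists_coker_ι (X := X) r
    have hS' : (ShortComplex.mk m g' hmg).ShortExact := { exact := hm }
    have hfl : FlatMod.IsFinLocFree (cokernel (ι₀ ≫ f)) :=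
      ExtFilt.Sheaf.isFinLocFree_extension hS' (TensorMod.LocFree.of_iso ec.symm hfree) h₃
    have hv := ih hS' ec h₃ h
    have hS'' : (ShortComplex.mk (ι₀ ≫ f) (cokernel.π (ι₀ ≫ f)) (cokernel.condition _)).ShortExact :=
      { exact := ShortComplex.exact_of_g_is_cokernel _ (cokernelIsCokernel _) }
    have h2' := ExtFilt.Sheaf.isFinLocFree_extension hS'' (TensorMod.LocFree.of_rank
      (TensorMod.LocFree.of_isInvertible (PicLoc.isInvertible_structureModule X))) hfl
    have hres := van_step k hM hS'' (Iso.refl _) h2' hfl hv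
    exact hres

end Groth.Agent.H95.KodairaAbs
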