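import Mathlib.AlgebraicGeometry.Morphisms.RingHomProperties
import Mathlib.AlgebraicGeometry.Morphisms.QuasiCompact
import Mathlib.RingTheory.RingHom.EssFiniteType
import Mathlib.RingTheory.RingHom.Locally

set_option autoImplicit false
universe u
open CategoryTheory CategoryTheory.Limits AlgebraicGeometry TopologicalSpace

namespace Groth.Agent.H95.LocEFT

/-- locally essentially of finite type -/
def LEFT : MorphismProperty Scheme.{u} :=
  affineLocally (RingHom.Locally RingHom.EssFiniteType)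

lemma eft_locAway : RingHom.LocalizationAwayPreserves (RingHom.EssFiniteType : ∀ {R S : Type u} [CommRing R] [CommRing S], (R →+* S) → Prop) :=
  RingHom.EssFiniteType.isStableUnderBaseChange.localizationPreserves.away

lemma eft_compAway : RingHom.StableUnderCompositionWithLocalizationAway (RingHom.EssFiniteType : ∀ {R S : Type u} [CommRing R] [CommRing S], (R →+* S) → Prop) :=
  RingHom.EssFiniteType.stableUnderComposition.stableUnderCompositionWithLocalizationAway
    (by introv R _; exact RingHom.EssFiniteType.holdsForLocalization _ (Submonoid.powers r))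

instance left_hasRingHomProperty :
    HasRingHomProperty (LEFT.{u}) (RingHom.Locally RingHom.EssFiniteType) :=
  ⟨RingHom.locally_propertyIsLocal eft_locAway eft_compAway, rfl⟩

variable {X Y : Scheme.{u}} (f : X ⟶ Y)

/-- there is a cover by good affines over the affine `U` -/
def Good (U : Y.affineOpens) (T : Set X.affineOpens) : Prop :=
  (⋃ V ∈ T, ((V : X.Opens) : Set ↥X)) = ((f ⁻¹ᵁ (U : Y.Opens)) : Set ↥X) ∧
        ∀ V ∈ T, ∃ e : (V : X.Opens) ≤ f ⁻¹ᵁ (U : Y.Opens), (f.appLE (U : Y.Opens) (V : X.Opens) e).hom.EssFiniteType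

lemma left_of_cover (h : ∃ S : Set Y.affineOpens, (⋃ U ∈ S, ((U : Y.Opens) : Set ↥Y)) = Set.univ ∧
      ∀ U ∈ S, ∃ T : Set X.affineOpens, Good f U T) : LEFT f := by
  obtain ⟨S, hS, hT⟩ := h
  rw [HasRingHomProperty.iff_exists_appLE_locally (P := LEFT) eft_compAway.left
    RingHom.EssFiniteType.respectsIso]
  intro x
  have hx : f x ∈ (⋃ U ∈ S, ((U : Y.Opens) : Set ↥Y)) := hS.symm ▸ Set.mem_univ _
  simp only [Set.mem_iUnion] at hx
  obtain ⟨U, hU, hxU⟩ := hx
  obtain ⟨T, hT1, hT2⟩ := hT U hU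
  have hx' : x ∈ (⋃ V ∈ T, ((V : X.Opens) : Set ↥X)) := hT1.symm ▸ hxU
  simp only [Set.mem_iUnion] at hx'
  obtain ⟨V, hV, hxV⟩ := hx'
  obtain ⟨e, he⟩ := hT2 V hV
  exact ⟨U, V, hxV, e, he⟩

lemma good_of_left (h : LEFT f) (U : Y.affineOpens) :
    ∃ T : Set X.affineOpens, Good f U T := by
  refine ⟨{V | ∃ e : (V : X.Opens) ≤ f ⁻¹ᵁ (U : Y.Opens),
    (f.appLE (U : Y.Opens) (V : X.Opens) e).hom.EssFiniteType}, ?_, fun V hV => hV⟩
  ext x
  simp only [Set.mem_iUnion, Set.mem_setOf_eq, SetLike.mem_coe]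
  refine ⟨fun ⟨V, ⟨e, _⟩, hx⟩ => e hx, fun hx => ?_⟩
  obtain ⟨V, hV, hxV, e⟩ := Opens.isBasis_iff_nbhd.mp X.isBasis_affineOpens hx
  have h' := HasRingHomProperty.appLE (P := LEFT) f h U ⟨V, hV⟩ e
  rw [RingHom.locally_iff_isLocalization RingHom.EssFiniteType.respectsIso] at h'
  obtain ⟨s, hs, hfs⟩ := h'
  have hsup := hV.iSup_basicOpen_eq_self_iff.mpr hs
  have : x ∈ (⨆ i : {r // r ∈ (s : Set Γ(X, V))}, X.basicOpen i.1) := hsup.symm ▸ hxV
  rw [Opens.mem_iSup] at this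
  obtain ⟨⟨r, hr⟩, hrx⟩ := this
  refine ⟨⟨X.basicOpen r, hV.basicOpen r⟩, ⟨(X.basicOpen_le r).trans e, ?_⟩, hrx⟩
  rw [← f.appLE_map e (homOfLE (X.basicOpen_le r)).op]
  have : IsLocalization.Away r Γ(X, X.basicOpen r) := hV.isLocalization_basicOpen r
  exact hfs r hr _

lemma left_iff : LEFT f ↔ ∀ U : Y.affineOpens, ∃ T : Set X.affineOpens, Good f U T := by
  refine ⟨good_of_left f, fun h => left_of_cover f ⟨Set.univ, ?_, fun U _ => h U⟩⟩
  ext y
  simp only [Set.mem_univ, Set.mem_iUnion, exists_true_left, iff_true, SetLike.mem_coe]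
  obtain ⟨U, hU, hy, _⟩ := Opens.isBasis_iff_nbhd.mp Y.isBasis_affineOpens (Opens.mem_top y)
  exact ⟨⟨U, hU⟩, hy⟩

end Groth.Agent.H95.LocEFT
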