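import Groth.Prelude.Def_W4c6eohyperellchar2Gc
import Mathlib.LinearAlgebra.Dimension.Constructions
import Mathlib.LinearAlgebra.Pi
import Mathlib.Algebra.CharP.Two

/-!
# The final filtration of the nilpotent block
-/

open W4c6eohyperellchar2

namespace Groth.Agent.H95.NilBlock

universe u
variable {c : ℕ} {k : Type u} [Field k]

lemma mem_Nfil {i : ℕ} (_hi : i ≤ 2 * c) (v : GcMod c k) :
    v ∈ Nfil c k i ↔ (∀ j : Fin c, j.val + 1 ≤ 2 * c - i → v.1 j = 0) ∧
      (∀ j : Fin c, i ≤ j.val → v.2 j = 0) := by
  classical
  constructor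
  · intro h
    induction h using Submodule.span_induction with
    | mem x hx =>
      rcases hx with ⟨n, hn, rfl⟩ | ⟨n, hn, rfl⟩
      · refine ⟨fun j _ => rfl, fun j hj => ?_⟩
        simp only [Set.mem_Icc] at hn
        simp only [Y]
        rw [if_neg (by omega)]
      · refine ⟨fun j hj => ?_, fun j _ => rfl⟩
        simp only [Set.mem_Ioc] at hn
        simp only [X]
        rw [if_neg (by omega)]
    | zero => exact ⟨fun _ _ => rfl, fun _ _ => rfl⟩
    | add x y _ _ hx hy =>
      exact ⟨fun j hj => by simp [hx.1 j hj, hy.1 j hj], fun j hj => by simp [hx.2 j hj, hy.2 j hj]⟩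
    | smul r x _ hx =>
      exact ⟨fun j hj => by simp [hx.1 j hj], fun j hj => by simp [hx.2 j hj]⟩
  · rintro ⟨h1, h2⟩
    have e : v = (∑ j : Fin c, v.1 j • X c k (j.val + 1)) + ∑ j : Fin c, v.2 j • Y c k (j.val + 1) := by
      ext l <;> simp [X, Y, Prod.fst_sum, Prod.snd_sum, Finset.sum_apply, Fin.val_inj]
    rw [e]
    refine add_mem (Submodule.sum_mem _ fun j _ => ?_) (Submodule.sum_mem _ fun j _ => ?_)
    · by_cases hj : j.val + 1 ≤ 2 * c - i
      · rw [h1 j hj, zero_smul]; exact zero_mem _
      · exact Submodule.smul_mem _ _ (Submodule.subset_span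
          (Or.inr ⟨j.val + 1, ⟨by omega, j.2⟩, rfl⟩))
    · by_cases hj : i ≤ j.val
      · rw [h2 j hj, zero_smul]; exact zero_mem _
      · exact Submodule.smul_mem _ _ (Submodule.subset_span
          (Or.inl ⟨j.val + 1, ⟨by omega, le_min (by omega) j.2⟩, rfl⟩))

lemma finrank_Nfil {i : ℕ} (hi : i ≤ 2 * c) : Module.finrank k (Nfil c k i) = i := by
  classical
  let e : Nfil c k i ≃ₗ[k] (Fin (i - c) → k) × (Fin (min i c) → k) :=
    { toFun := fun v => (fun a => v.1.1 ⟨2 * c - i + a.val, by omega⟩,
        fun b => v.1.2 ⟨b.val, by omega⟩)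
      map_add' := fun _ _ => rfl
      map_smul' := fun _ _ => rfl
      invFun := fun w => ⟨(fun j => if h : j.val + 1 ≤ 2 * c - i then 0 else w.1 ⟨j.val - (2 * c - i), by omega⟩,
        fun j => if h : i ≤ j.val then 0 else w.2 ⟨j.val, by omega⟩),
        (mem_Nfil hi _).2 ⟨fun j hj => by simp [hj], fun j hj => by simp [hj]⟩⟩
      left_inv := fun v => by
        obtain ⟨h1, h2⟩ := (mem_Nfil hi _).1 v.2
        refine Subtype.ext (Prod.ext (funext fun j => ?_) (funext fun j => ?_)) <;> dsimp only
        · split_ifs with h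
          · exact (h1 j h).symm
          · exact congrArg v.1.1 (Fin.ext (by simp only; omega))
        · split_ifs with h
          · exact (h2 j h).symm
          · rfl
      right_inv := fun w => by
        refine Prod.ext (funext fun a => ?_) (funext fun b => ?_) <;> dsimp only
        · rw [dif_neg (by omega)]
          exact congrArg w.1 (Fin.ext (by simp only; omega))
        · rw [dif_neg (by omega)] }
  rw [e.finrank_eq, Module.finrank_prod, Module.finrank_fin_fun, Module.finrank_fin_fun]
  omega

variable [CharP k 2] [PerfectRing k 2] (a : ℕ → k)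

lemma NV_add (v w : GcMod c k) : NV c k a (v + w) = NV c k a v + NV c k a w := by
  simp only [NV]
  refine Prod.ext (by simp) (funext fun l => ?_)
  simp only [Prod.snd_add, Pi.add_apply, coefY, Prod.fst_add]
  rw [add_add_add_comm, ← Finset.sum_add_distrib]
  congr 1
  · split_ifs <;> simp
  · refine Finset.sum_congr rfl fun j _ => ?_
    split_ifs <;> simp [add_mul]

lemma NV_smul (r : k) (v : GcMod c k) : NV c k a (r • v) = ((frobeniusEquiv k 2).symm) r • NV c k a v := by
  simp only [NV]
  refine Prod.ext (by simp) (funext fun l => ?_)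
  simp only [Prod.smul_snd, Pi.smul_apply, coefY, Prod.smul_fst, smul_eq_mul, mul_add, Finset.mul_sum]
  congr 1
  · split_ifs <;> simp
  · refine Finset.sum_congr rfl fun j _ => ?_
    split_ifs <;> simp [mul_assoc]

/-- The image of a submodule under `NV`. -/
noncomputable def imV (W : Submodule k (GcMod c k)) : Submodule k (GcMod c k) where
  carrier := NV c k a '' W
  add_mem' := by
    rintro _ _ ⟨x, hx, rfl⟩ ⟨y, hy, rfl⟩
    exact ⟨x + y, W.add_mem hx hy, NV_add a x y⟩
  zero_mem' := ⟨0, W.zero_mem, by
    have h := NV_add a (0 : GcMod c k) 0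
    simpa using h⟩
  smul_mem' := by
    rintro r _ ⟨x, hx, rfl⟩
    exact ⟨r ^ 2 • x, W.smul_mem _ hx, by rw [NV_smul, frobeniusEquiv_symm_pow]⟩

lemma image_NV (ha : a c ≠ 0) {i : ℕ} (hi : i ≤ 2 * c) :
    NV c k a '' (Nfil c k i : Set (GcMod c k)) = (Nfil c k (i / 2) : Set (GcMod c k)) := by
  classical
  refine Set.Subset.antisymm ?_ ?_
  · rintro _ ⟨v, hv, rfl⟩
    obtain ⟨h1, h2⟩ := (mem_Nfil hi _).1 hv
    refine (mem_Nfil (by omega) _).2 ⟨fun _ _ => rfl, fun l hl => ?_⟩
    simp only [NV, coefY]
    rw [Finset.sum_eq_zero fun j _ => ?_, add_zero]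
    · split_ifs with h
      · rw [h2 _ (by simp only; omega), map_zero]
      · exact map_zero _
    · split_ifs with h
      · rw [h1 j (by omega), zero_mul, map_zero]
      · rfl
  · suffices h : Nfil c k (i / 2) ≤ imV a (Nfil c k i) from fun x hx => h hx
    rw [Nfil, Submodule.span_le, Set.union_subset_iff]
    constructor
    swap
    · rintro _ ⟨n, hn, rfl⟩
      simp only [Set.mem_Ioc] at hn
      omega
    rintro _ ⟨m, hm, rfl⟩
    simp only [Set.mem_Icc, le_min_iff] at hm
    induction m using Nat.strong_induction_on with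
    | _ m ih =>
      by_cases h : 2 * m ≤ c
      · refine ⟨Y c k (2 * m), (mem_Nfil hi _).2 ⟨fun _ _ => rfl, fun j hj => ?_⟩, ?_⟩
        · simp only [Y]; rw [if_neg (by omega)]
        · refine Prod.ext rfl (funext fun l => ?_)
          simp only [NV, coefY, Y]
          rw [Finset.sum_eq_zero fun j _ => by split_ifs <;> simp, add_zero]
          by_cases hl : l.val + 1 = m
          · rw [dif_pos (by omega), if_pos (by omega), if_pos hl, map_one]
          · rw [if_neg hl]
            split_ifs with h'
            · omega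
            · exact map_zero _
            · exact map_zero _
      · set j : Fin c := ⟨2 * (c - m), by omega⟩
        have hx : NV c k a (X c k (j.val + 1)) ∈ imV a (Nfil c k i) := by
          refine ⟨_, (mem_Nfil hi _).2 ⟨fun j' hj' => ?_, fun _ _ => rfl⟩, rfl⟩
          simp only [X]; rw [if_neg (by simp only [j]; omega)]
        have hval : ∀ l : Fin c, (NV c k a (X c k (j.val + 1))).2 l =
            if l.val + 1 ≤ m then ((frobeniusEquiv k 2).symm) (a (l.val + 1 + (c - m))) else 0 := by
          intro l
          simp only [NV, coefY, X, Pi.zero_apply]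
          rw [Finset.sum_eq_single j (fun j' _ hne => ?_) (by simp)]
          · have e1 : ((j.val + 1) % 2 = 1 ∧ l.val + 1 + j.val / 2 ≤ c) ↔ l.val + 1 ≤ m := by
              simp only [j]; omega
            simp only [e1, if_pos trivial]
            rw [show j.val / 2 = c - m by simp only [j]; omega]
            split_ifs <;> simp
          · have : ¬ j'.val + 1 = j.val + 1 := fun h => hne (Fin.ext (by omega))
            simp only [if_neg this, zero_mul, map_zero, ite_self]
        have hdec : NV c k a (X c k (j.val + 1)) = ((frobeniusEquiv k 2).symm) (a c) • Y c k m +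
            ∑ l : Fin c, (if l.val + 1 < m then ((frobeniusEquiv k 2).symm) (a (l.val + 1 + (c - m))) else 0) • Y c k (l.val + 1) := by
          refine Prod.ext (by simp [NV, Y, Prod.fst_sum]; exact (Finset.sum_eq_zero fun _ _ => by split_ifs <;> rfl).symm) (funext fun l => ?_)
          rw [hval l]
          simp only [Y, Prod.snd_add, Prod.smul_snd, Prod.snd_sum, Pi.add_apply, Pi.smul_apply,
            Finset.sum_apply, smul_eq_mul, mul_ite, mul_one, mul_zero]
          rw [Finset.sum_eq_single l (fun l' _ hne => if_neg fun h => hne (Fin.ext (by omega))) (by simp),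
            if_pos rfl]
          rcases lt_trichotomy (l.val + 1) m with hl | hl | hl
          · rw [if_pos hl.le, if_neg hl.ne, if_pos hl, zero_add]
          · rw [if_pos hl.le, if_pos hl, if_neg (by omega), add_zero]
            congr 2; omega
          · rw [if_neg (by omega), if_neg (by omega), if_neg (by omega), add_zero]
        have hrest : (∑ l : Fin c, (if l.val + 1 < m then ((frobeniusEquiv k 2).symm) (a (l.val + 1 + (c - m))) else 0) • Y c k (l.val + 1))
            ∈ imV a (Nfil c k i) := by
          refine Submodule.sum_mem _ fun l _ => ?_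
          split_ifs with hl
          · exact Submodule.smul_mem _ _ (ih _ hl ⟨by omega, by omega, l.2⟩)
          · rw [zero_smul]; exact zero_mem _
        have hsa : ((frobeniusEquiv k 2).symm) (a c) ≠ 0 := fun h => ha ((map_eq_zero_iff _ (RingEquiv.injective _)).1 h)
        have hmem := (imV a (Nfil c k i)).smul_mem (((frobeniusEquiv k 2).symm) (a c))⁻¹ (sub_mem hx hrest)
        rwa [hdec, add_sub_cancel_right, smul_smul, inv_mul_cancel₀ hsa, one_smul] at hmem

omit [CharP k 2] [PerfectRing k 2] in
lemma preimage_NF (ha : a c ≠ 0) {i : ℕ} (hi : i ≤ 2 * c) :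
    NF c k a ⁻¹' (Nfil c k i : Set (GcMod c k)) = (Nfil c k (c + (i + 1) / 2) : Set (GcMod c k)) := by
  classical
  have hi' : c + (i + 1) / 2 ≤ 2 * c := by omega
  ext v
  rw [Set.mem_preimage, SetLike.mem_coe, SetLike.mem_coe, mem_Nfil hi, mem_Nfil hi']
  simp only [NF, coefX]
  constructor
  · rintro ⟨h1, h2⟩
    refine ⟨fun j hj => ?_, fun j hj => absurd j.2 (by omega)⟩
    obtain ⟨n, hn⟩ : ∃ n, j.val = n := ⟨_, rfl⟩
    induction n using Nat.strong_induction_on generalizing j with
    | _ n ih =>
      by_cases h : 2 * (j.val + 1) ≤ c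
      · have := h1 ⟨2 * j.val + 1, by omega⟩ (by simp only; omega)
        rw [if_pos (by simp only; omega), dif_pos (by simp only; omega)] at this
        rw [show (⟨(2 * j.val + 1 + 1) / 2 - 1, by omega⟩ : Fin c) = j from Fin.ext (by simp only; omega)] at this
        exact pow_eq_zero_iff two_ne_zero |>.1 this
      · have h3 := h2 ⟨2 * (c - (j.val + 1)), by omega⟩ (by simp only; omega)
        rw [if_pos (by simp only; omega), Finset.sum_eq_single j (fun j' _ hne => ?_) (by simp)] at h3
        · rw [if_pos (by simp only; omega)] at h3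
          rw [show j.val + 1 + 2 * (c - (j.val + 1)) / 2 = c by omega] at h3
          exact pow_eq_zero_iff two_ne_zero |>.1 ((mul_eq_zero.1 h3).resolve_right ha)
        · split_ifs with h4
          · rcases Nat.lt_or_gt_of_ne (fun h5 : j'.val = j.val => hne (Fin.ext h5)) with h5 | h5
            · rw [ih j'.val (by omega) j' (by omega) rfl]; simp
            · simp only at h4; omega
          · rfl
  · rintro ⟨h1, -⟩
    refine ⟨fun l hl => ?_, fun l hl => ?_⟩
    · split_ifs with h4 h5
      · rw [h1 _ (by simp only; omega)]; simp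
      · simp
      · rfl
    · split_ifs with h4
      · refine Finset.sum_eq_zero fun j _ => ?_
        split_ifs with h5
        · rw [h1 j (by omega)]; simp
        · rfl
      · rfl

end Groth.Agent.H95.NilBlock
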