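import Mathlib

/-!
# `Ext¹` between the two branches of a node
-/

universe u

open CategoryTheory CategoryTheory.Abelian

namespace Groth.Agent.H95.NodeExt

variable {k : Type u} [Field k] {A : Type u} [CommRing A] [Algebra k A]

theorem finrank_ext_one (x y : A) (_hxy : x * y = 0) (hann : ∀ a, y * a = 0 → a ∈ Ideal.span {x})
    (hdec : ∀ a : A, ∃ (c : k) (b b' : A), a = algebraMap k A c + x * b + y * b')
    (hne : (1 : A) ∉ Ideal.span {x, y}) :
    Module.finrank k (Ext (ModuleCat.of A (A ⧸ Ideal.span {y})) (ModuleCat.of A (A ⧸ Ideal.span {x})) 1) = 1 := by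
  classical
  let Y : Submodule A A := Ideal.span {y}
  let N := A ⧸ Ideal.span {x}
  have hsp : ∀ z : Y, ∃ a, y * a = z.1 := fun z => by
    obtain ⟨a, ha⟩ := Ideal.mem_span_singleton'.1 z.2
    exact ⟨a, by rw [← ha, mul_comm]⟩
  choose c hc using hsp
  have hu : ∀ (z : Y) a, y * a = z.1 → Ideal.Quotient.mk (Ideal.span {x}) a = Ideal.Quotient.mk _ (c z) := by
    intro z a ha
    rw [Ideal.Quotient.eq]
    exact hann _ (by rw [mul_sub, ha, hc, sub_self])
  let φ : Y →ₗ[A] N :=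
    { toFun := fun z => Ideal.Quotient.mk _ (c z)
      map_add' := fun z w => by
        rw [← map_add]
        exact (hu _ _ (by rw [mul_add, hc, hc]; rfl)).symm
      map_smul' := fun r z => by
        change _ = r • Ideal.Quotient.mk (Ideal.span {x}) (c z)
        rw [Algebra.smul_def, Ideal.Quotient.algebraMap_eq, ← map_mul]
        exact (hu _ _ (by rw [mul_left_comm, hc]; rfl)).symm }
  let S : ShortComplex (ModuleCat.{u} A) := ShortComplex.mk (ModuleCat.ofHom Y.subtype)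
    (ModuleCat.ofHom Y.mkQ) (by
      ext z
      exact (Submodule.Quotient.mk_eq_zero _).2 z.2)
  have hS : S.ShortExact := by
    refine ShortComplex.ShortExact.mk' ?_ ((ModuleCat.mono_iff_injective _).2 Subtype.val_injective)
      ((ModuleCat.epi_iff_surjective _).2 (Submodule.mkQ_surjective _))
    rw [ShortComplex.moduleCat_exact_iff]
    intro a ha
    exact ⟨⟨a, (Submodule.Quotient.mk_eq_zero _).1 ha⟩, rfl⟩
  let v : Ext S.X₃ (ModuleCat.of A N) 1 := hS.extClass.comp (Ext.mk₀ (ModuleCat.ofHom φ)) (add_zero 1)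
  have : Projective S.X₂ := (IsProjective.iff_projective A).1 inferInstance
  refine finrank_eq_one v ?_ ?_
  · intro h0
    obtain ⟨g, hg⟩ := Ext.contravariant_sequence_exact₁ hS _ _ _ h0
    obtain ⟨g, rfl⟩ := (Ext.mk₀_bijective _ _).2 g
    rw [Ext.mk₀_comp_mk₀] at hg
    have e := (Ext.mk₀_bijective _ _).1 hg
    have e' := ConcreteCategory.congr_hom e (⟨y, Ideal.subset_span rfl⟩ : Y)
    change g.hom y = Ideal.Quotient.mk _ (c _) at e'
    rw [← hu _ 1 (mul_one y), map_one] at e'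
    obtain ⟨n, hn⟩ := Ideal.Quotient.mk_surjective (g.hom (1 : A))
    have e2 : g.hom y = Ideal.Quotient.mk (Ideal.span {x}) (y * n) := by
      calc g.hom y = g.hom (y • (1 : A)) := by rw [smul_eq_mul, mul_one]
        _ = y • g.hom (1 : A) := map_smul _ _ _
        _ = _ := by rw [← hn]; rfl
    rw [e2, ← map_one (Ideal.Quotient.mk (Ideal.span {x})), Ideal.Quotient.eq] at e'
    obtain ⟨b, hb⟩ := Ideal.mem_span_singleton'.1 e'
    exact hne (Ideal.mem_span_pair.2 ⟨-b, n, by linear_combination -hb⟩)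
  · intro e
    obtain ⟨g, hg⟩ := Ext.contravariant_sequence_exact₃ hS (ModuleCat.of A N) e
      (Ext.eq_zero_of_projective (n := 0) _) (show 1 + 0 = 1 from rfl)
    obtain ⟨g, rfl⟩ := (Ext.mk₀_bijective _ _).2 g
    obtain ⟨a, ha⟩ := Ideal.Quotient.mk_surjective (g.hom (⟨y, Ideal.subset_span rfl⟩ : Y))
    obtain ⟨t, b, b', hab⟩ := hdec a
    refine ⟨t, ?_⟩
    let h : S.X₂ ⟶ ModuleCat.of A N := ModuleCat.ofHom (LinearMap.toSpanSingleton A N (Ideal.Quotient.mk _ b'))
    have hsplit : ∀ z : Y, g.hom z =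
        algebraMap k A t • Ideal.Quotient.mk (Ideal.span {x}) (c z) + z.1 • Ideal.Quotient.mk (Ideal.span {x}) b' := by
      intro z
      have hz : z = c z • (⟨y, Ideal.subset_span rfl⟩ : Y) := Subtype.ext (by
        change z.1 = c z * y
        rw [mul_comm, hc])
      calc g.hom z = g.hom (c z • (⟨y, Ideal.subset_span rfl⟩ : Y)) := by rw [← hz]
        _ = c z • g.hom (⟨y, Ideal.subset_span rfl⟩ : Y) := map_smul _ _ _
        _ = Ideal.Quotient.mk (Ideal.span {x}) (c z * a) := by rw [← ha]; rfl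
        _ = Ideal.Quotient.mk (Ideal.span {x}) (algebraMap k A t * c z + z.1 * b') := by
          rw [Ideal.Quotient.eq]
          refine Ideal.mem_span_singleton.2 ⟨c z * b, ?_⟩
          rw [hab, ← hc]; ring
        _ = _ := by rw [map_add, map_mul, map_mul]; rfl
    change t • hS.extClass.comp (Ext.mk₀ (ModuleCat.ofHom φ)) (add_zero 1) = e
    rw [← hg, ← Ext.comp_smul, ← Ext.mk₀_smul, eq_comm, ← sub_eq_zero]
    refine (show _ = hS.extClass.comp (Ext.mk₀ (S.f ≫ h)) (add_zero 1) from ?_).trans ?_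
    · rw [sub_eq_add_neg, ← Ext.comp_neg, ← Ext.comp_add, ← Ext.mk₀_neg, ← Ext.mk₀_add, ← sub_eq_add_neg]
      congr 2
      ext z
      change g.hom z - algebraMap k A t • Ideal.Quotient.mk (Ideal.span {x}) (c z) = z.1 • Ideal.Quotient.mk (Ideal.span {x}) b'
      rw [hsplit, add_sub_cancel_left]
    · rw [← Ext.mk₀_comp_mk₀, ← Ext.comp_assoc_of_second_deg_zero, hS.extClass_comp, Ext.zero_comp]

theorem finrank_ext_one_node (k : Type u) [Field k] :
    Module.finrank k (Ext
      (ModuleCat.of (MvPowerSeries (Fin 2) k ⧸ Ideal.span {(MvPowerSeries.X (0 : Fin 2) : MvPowerSeries (Fin 2) k) * MvPowerSeries.X (1 : Fin 2)})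
        ((MvPowerSeries (Fin 2) k ⧸ Ideal.span {(MvPowerSeries.X (0 : Fin 2) : MvPowerSeries (Fin 2) k) * MvPowerSeries.X (1 : Fin 2)}) ⧸ Ideal.span {Ideal.Quotient.mk (Ideal.span {(MvPowerSeries.X (0 : Fin 2) : MvPowerSeries (Fin 2) k) * MvPowerSeries.X (1 : Fin 2)}) (MvPowerSeries.X (1 : Fin 2))}))
      (ModuleCat.of (MvPowerSeries (Fin 2) k ⧸ Ideal.span {(MvPowerSeries.X (0 : Fin 2) : MvPowerSeries (Fin 2) k) * MvPowerSeries.X (1 : Fin 2)})
        ((MvPowerSeries (Fin 2) k ⧸ Ideal.span {(MvPowerSeries.X (0 : Fin 2) : MvPowerSeries (Fin 2) k) * MvPowerSeries.X (1 : Fin 2)}) ⧸ Ideal.span {Ideal.Quotient.mk (Ideal.span {(MvPowerSeries.X (0 : Fin 2) : MvPowerSeries (Fin 2) k) * MvPowerSeries.X (1 : Fin 2)}) (MvPowerSeries.X (0 : Fin 2))})) 1) = 1 := by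
  classical
  refine finrank_ext_one (k := k) (Ideal.Quotient.mk _ (MvPowerSeries.X 0)) (Ideal.Quotient.mk _ (MvPowerSeries.X 1))
    (by rw [← map_mul, Ideal.Quotient.eq_zero_iff_mem]; exact Ideal.subset_span rfl) ?_ ?_ ?_
  · intro a ha
    obtain ⟨a, rfl⟩ := Ideal.Quotient.mk_surjective a
    rw [← map_mul, Ideal.Quotient.eq_zero_iff_mem, Ideal.mem_span_singleton'] at ha
    obtain ⟨b, hb⟩ := ha
    refine Ideal.mem_span_singleton'.2 ⟨Ideal.Quotient.mk _ b, ?_⟩
    rw [← map_mul]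
    congr 1
    have hX : (MvPowerSeries.X 1 : MvPowerSeries (Fin 2) k) ≠ 0 := fun h => by
      simpa [MvPowerSeries.coeff_X] using congrArg (MvPowerSeries.coeff (Finsupp.single (1 : Fin 2) 1)) h
    exact mul_left_cancel₀ hX (by rw [← hb]; ring)
  · intro a
    obtain ⟨f, rfl⟩ := Ideal.Quotient.mk_surjective a
    let f₁ : MvPowerSeries (Fin 2) k := fun d => if d 0 = 0 then MvPowerSeries.coeff d f else 0
    have hc₁ : ∀ d, MvPowerSeries.coeff d f₁ = if d 0 = 0 then MvPowerSeries.coeff d f else 0 := fun d => rfl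
    obtain ⟨a, ha⟩ : MvPowerSeries.X (0 : Fin 2) ∣ f - f₁ := MvPowerSeries.X_dvd_iff.2 fun m hm => by
      rw [map_sub, hc₁, if_pos hm, sub_self]
    obtain ⟨b, hb⟩ : MvPowerSeries.X (1 : Fin 2) ∣ f₁ - MvPowerSeries.C (MvPowerSeries.constantCoeff f) :=
      MvPowerSeries.X_dvd_iff.2 fun m hm => by
        rw [map_sub, hc₁, MvPowerSeries.coeff_C]
        by_cases h0 : m 0 = 0
        · have : m = 0 := by ext i; fin_cases i <;> simp [h0, hm]
          subst this
          simp
        · rw [if_neg h0, if_neg (fun h => h0 (by simp [h])), sub_zero]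
    refine ⟨MvPowerSeries.constantCoeff f, Ideal.Quotient.mk _ a, Ideal.Quotient.mk _ b, ?_⟩
    rw [show ∀ I : Ideal (MvPowerSeries (Fin 2) k), ∀ t, algebraMap k (MvPowerSeries (Fin 2) k ⧸ I) t = Ideal.Quotient.mk I (algebraMap k (MvPowerSeries (Fin 2) k) t) from fun _ _ => rfl, ← map_mul, ← map_mul,
      ← map_add, ← map_add, ← ha, ← hb, show algebraMap k (MvPowerSeries (Fin 2) k) = MvPowerSeries.C from rfl]
    congr 1; ring
  · intro h
    obtain ⟨a, b, h⟩ := Ideal.mem_span_pair.1 h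
    obtain ⟨a, rfl⟩ := Ideal.Quotient.mk_surjective a
    obtain ⟨b, rfl⟩ := Ideal.Quotient.mk_surjective b
    rw [← map_mul, ← map_mul, ← map_add, ← map_one (Ideal.Quotient.mk _), Ideal.Quotient.eq,
      Ideal.mem_span_singleton'] at h
    obtain ⟨e, he⟩ := h
    simpa using congrArg MvPowerSeries.constantCoeff he

end Groth.Agent.H95.NodeExt
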