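import Groth.Prelude.Def_W4c1arstab1appArSing
import Mathlib.RingTheory.Filtration
import Mathlib.RingTheory.MvPowerSeries.Equiv
import Mathlib.RingTheory.MvPowerSeries.Inverse
import Mathlib.RingTheory.PowerSeries.Expand
import Mathlib.RingTheory.Ideal.MinimalPrime.Basic
import Mathlib.RingTheory.Flat.EquationalCriterion
import Mathlib.RingTheory.RingHom.Flat

/-!
# The node with the involution exchanging its coordinates
-/

universe u

open scoped TensorProduct

namespace Groth.Agent.H95.NodeSwap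

variable {k : Type u} [Field k]

local notation "MPS" => MvPowerSeries (Fin 2) k
local notation "PS" => PowerSeries k
local notation "A₁" => ArSing.ring k 1

lemma hom_ext {T : Type u} [CommRing T] [Algebra k T] [IsNoetherianRing T] [IsLocalRing T]
    (ψ ψ' : MPS →ₐ[k] T) (J : Ideal T) (hJ : J ≠ ⊤)
    (h : ∀ i, ψ (MvPowerSeries.X i) = ψ' (MvPowerSeries.X i)) (hm : ∀ i, ψ (MvPowerSeries.X i) ∈ J) :
    ψ = ψ' := by
  classical
  have key : ∀ n : ℕ, ∀ f, ψ f - ψ' f ∈ J ^ n := by
    intro n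
    induction n with
    | zero => intro f; simp
    | succ n ih =>
      intro f
      let f₁ : MPS := fun d => if d 0 = 0 then MvPowerSeries.coeff d f else 0
      have hc₁ : ∀ d, MvPowerSeries.coeff d f₁ = if d 0 = 0 then MvPowerSeries.coeff d f else 0 := fun d => rfl
      obtain ⟨a, ha⟩ : MvPowerSeries.X (0 : Fin 2) ∣ f - f₁ := MvPowerSeries.X_dvd_iff.2 fun m hm => by
        rw [map_sub, hc₁, if_pos hm, sub_self]
      obtain ⟨b, hb⟩ : MvPowerSeries.X (1 : Fin 2) ∣ f₁ - MvPowerSeries.C (MvPowerSeries.constantCoeff f) :=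
        MvPowerSeries.X_dvd_iff.2 fun m hm => by
          rw [map_sub, hc₁, MvPowerSeries.coeff_C]
          by_cases h0 : m 0 = 0
          · have : m = 0 := by ext i; fin_cases i <;> simp [h0, hm]
            subst this
            simp
          · rw [if_neg h0, if_neg (fun h => h0 (by simp [h])), sub_zero]
      have hf : f = algebraMap k MPS (MvPowerSeries.constantCoeff f) + MvPowerSeries.X 0 * a + MvPowerSeries.X 1 * b := by
        rw [← ha, ← hb, show algebraMap k MPS = MvPowerSeries.C from rfl]; ring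
      rw [hf]
      simp only [map_add, map_mul, AlgHom.commutes]
      rw [← h 0, ← h 1]
      have : ∀ i g, ψ (MvPowerSeries.X i) * (ψ g - ψ' g) ∈ J ^ (n + 1) := fun i g => by
        rw [pow_succ']
        exact Ideal.mul_mem_mul (hm i) (ih g)
      convert add_mem (this 0 a) (this 1 b) using 1
      ring
  refine AlgHom.ext fun f => sub_eq_zero.1 ?_
  rw [← Ideal.mem_bot, ← Ideal.iInf_pow_eq_bot_of_isLocalRing J hJ, Ideal.mem_iInf]
  exact fun n => key n f

lemma hom_ext₁ {T : Type u} [CommRing T] [Algebra k T] [IsNoetherianRing T] [IsLocalRing T]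
    (ψ ψ' : PS →ₐ[k] T) (J : Ideal T) (hJ : J ≠ ⊤)
    (h : ψ PowerSeries.X = ψ' PowerSeries.X) (hm : ψ PowerSeries.X ∈ J) :
    ψ = ψ' := by
  have key : ∀ n : ℕ, ∀ f, ψ f - ψ' f ∈ J ^ n := by
    intro n
    induction n with
    | zero => intro f; simp
    | succ n ih =>
      intro f
      obtain ⟨a, ha⟩ : PowerSeries.X ∣ f - PowerSeries.C (PowerSeries.constantCoeff f) :=
        PowerSeries.X_dvd_iff.2 (by simp)
      have hf : f = algebraMap k PS (PowerSeries.constantCoeff f) + PowerSeries.X * a := by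
        rw [← ha, show algebraMap k PS = PowerSeries.C from rfl]; ring
      rw [hf]
      simp only [map_add, map_mul, AlgHom.commutes]
      rw [← h, pow_succ', add_sub_add_left_eq_sub, ← mul_sub]
      exact Ideal.mul_mem_mul hm (ih a)
  refine AlgHom.ext fun f => sub_eq_zero.1 ?_
  rw [← Ideal.mem_bot, ← Ideal.iInf_pow_eq_bot_of_isLocalRing J hJ, Ideal.mem_iInf]
  exact fun n => key n f

variable (k) in
/-- The branch coordinate `u = x + y`. -/
noncomputable def uu : MPS := MvPowerSeries.X 0 + MvPowerSeries.X 1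
variable (k) in
/-- The branch coordinate `v = y - x`. -/
noncomputable def vv : MPS := MvPowerSeries.X 1 - MvPowerSeries.X 0

lemma hsu : PowerSeries.HasSubst (uu k) :=
  PowerSeries.HasSubst.of_constantCoeff_zero (by simp [uu])

lemma hsv : PowerSeries.HasSubst (vv k) :=
  PowerSeries.HasSubst.of_constantCoeff_zero (by simp [vv])

lemma uv_eq : uu k * vv k = ArSing.eqn k 1 := by
  simp only [uu, vv, ArSing.eqn]; ring

variable (k) in
/-- The images of `x, y` on the branches. -/
noncomputable def pt (a b : k) : Fin 2 → PS := ![PowerSeries.C a * PowerSeries.X, PowerSeries.C b * PowerSeries.X]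

lemma hasSubst_pt (a b : k) : MvPowerSeries.HasSubst (pt k a b) :=
  MvPowerSeries.hasSubst_of_constantCoeff_zero fun i => by
    fin_cases i <;> (change PowerSeries.constantCoeff (PowerSeries.C _ * PowerSeries.X) = 0; simp)

/-- Restriction to a line through the origin. -/
noncomputable def ev (a b : k) : MPS →ₐ[k] PS := MvPowerSeries.substAlgHom (hasSubst_pt a b)

lemma ev_X0 (a b : k) : ev a b (MvPowerSeries.X 0) = PowerSeries.C a * PowerSeries.X :=
  MvPowerSeries.substAlgHom_X (hasSubst_pt a b) 0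

lemma ev_X1 (a b : k) : ev a b (MvPowerSeries.X 1) = PowerSeries.C b * PowerSeries.X :=
  MvPowerSeries.substAlgHom_X (hasSubst_pt a b) 1

/-- The restriction to a branch. -/
noncomputable def br (a b : k) (h : b ^ 2 = a ^ 2) : A₁ →ₐ[k] PS :=
  Ideal.Quotient.liftₐ _ (ev a b) fun x hx => by
    obtain ⟨c, rfl⟩ := Ideal.mem_span_singleton'.1 hx
    rw [map_mul]
    rw [ArSing.eqn, map_sub, map_pow, map_pow, ev_X0, ev_X1, mul_pow, mul_pow, ← map_pow, ← map_pow, h]
    simp

variable (h2 : (2 : k) ≠ 0)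

/-- The branch `v = 0`. -/
noncomputable def π₁ : A₁ →ₐ[k] PS := br (2⁻¹ : k) 2⁻¹ rfl
/-- The branch `u = 0`. -/
noncomputable def π₂ : A₁ →ₐ[k] PS := br (-2⁻¹ : k) 2⁻¹ (by ring)

lemma π₁_x : π₁ (ArSing.x k 1) = PowerSeries.C 2⁻¹ * PowerSeries.X := ev_X0 _ _
lemma π₁_y : π₁ (ArSing.y k 1) = PowerSeries.C 2⁻¹ * PowerSeries.X := ev_X1 _ _
lemma π₂_x : π₂ (ArSing.x k 1) = PowerSeries.C (-2⁻¹) * PowerSeries.X := ev_X0 _ _
lemma π₂_y : π₂ (ArSing.y k 1) = PowerSeries.C 2⁻¹ * PowerSeries.X := ev_X1 _ _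

/-- The class of `u`. -/
local notation "U" => ArSing.x k 1 + ArSing.y k 1
local notation "V" => ArSing.y k 1 - ArSing.x k 1

include h2 in
lemma half : (PowerSeries.C (2⁻¹ : k) * 2 : PS) = 1 := by
  rw [← map_ofNat PowerSeries.C 2, ← map_mul, inv_mul_cancel₀ h2, map_one]

include h2 in
lemma π₁_U : π₁ U = PowerSeries.X := by
  rw [map_add, π₁_x, π₁_y]; linear_combination PowerSeries.X * half h2
lemma π₁_V : π₁ V = 0 := by rw [map_sub, π₁_x, π₁_y, sub_self]
lemma π₂_U : π₂ U = 0 := by rw [map_add, π₂_x, π₂_y, map_neg]; ring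
include h2 in
lemma π₂_V : π₂ V = PowerSeries.X := by
  rw [map_sub, π₂_x, π₂_y, map_neg]; linear_combination PowerSeries.X * half h2

lemma UV : (U : A₁) * V = 0 := by
  rw [← map_add, ← map_sub, ← map_mul, Ideal.Quotient.eq_zero_iff_mem]
  exact Ideal.mem_span_singleton.2 (dvd_of_eq uv_eq.symm)

/-- `F ↦ F(u)`. -/
noncomputable def su : PS →ₐ[k] A₁ := (Ideal.Quotient.mkₐ k _).comp (PowerSeries.substAlgHom hsu)
/-- `G ↦ G(v)`. -/
noncomputable def sv : PS →ₐ[k] A₁ := (Ideal.Quotient.mkₐ k _).comp (PowerSeries.substAlgHom hsv)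

lemma su_X : (su PowerSeries.X : A₁) = U := by
  simp [su, PowerSeries.substAlgHom_X, uu, map_add]

lemma sv_X : (sv PowerSeries.X : A₁) = V := by
  simp [sv, PowerSeries.substAlgHom_X, vv, map_sub]

/-- Glueing a pair of branch functions. -/
noncomputable def glue (F G : PS) : A₁ := su F + sv G - algebraMap k A₁ (PowerSeries.constantCoeff F)

lemma dvd_split (F : PS) : ∃ F', F = algebraMap k PS (PowerSeries.constantCoeff F) + PowerSeries.X * F' := by
  obtain ⟨a, ha⟩ : PowerSeries.X ∣ F - PowerSeries.C (PowerSeries.constantCoeff F) :=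
    PowerSeries.X_dvd_iff.2 (by simp)
  exact ⟨a, by rw [← ha, show algebraMap k PS = PowerSeries.C from rfl]; ring⟩

lemma glue_mul (F G F' G' : PS) (h : PowerSeries.constantCoeff G = PowerSeries.constantCoeff F)
    (h' : PowerSeries.constantCoeff G' = PowerSeries.constantCoeff F') :
    glue (F * F') (G * G') = glue F G * glue F' G' := by
  obtain ⟨a, ha⟩ := dvd_split F
  obtain ⟨b, hb⟩ := dvd_split G
  obtain ⟨a', ha'⟩ := dvd_split F'
  obtain ⟨b', hb'⟩ := dvd_split G'
  rw [h] at hb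
  rw [h'] at hb'
  set c := PowerSeries.constantCoeff F
  set c' := PowerSeries.constantCoeff F'
  simp only [glue, map_mul]
  rw [show PowerSeries.constantCoeff F = c from rfl, show PowerSeries.constantCoeff F' = c' from rfl, ha, hb, ha', hb']
  simp only [map_add, map_mul, AlgHom.commutes, su_X, sv_X]
  linear_combination (-(su a * sv b') - su a' * sv b) * (UV (k := k))

lemma constantCoeff_eq (q : A₁) : PowerSeries.constantCoeff (π₂ q) = PowerSeries.constantCoeff (π₁ q) := by
  obtain ⟨f, rfl⟩ := Ideal.Quotient.mk_surjective q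
  change PowerSeries.constantCoeff (ev (-2⁻¹ : k) 2⁻¹ f) = PowerSeries.constantCoeff (ev (2⁻¹ : k) 2⁻¹ f)
  have key : ∀ a b : k, PowerSeries.constantCoeff (ev a b f) = MvPowerSeries.constantCoeff f := by
    intro a b
    let c₂ : MPS →ₐ[k] k :=
      { MvPowerSeries.constantCoeff with commutes' := fun r => MvPowerSeries.constantCoeff_C r }
    let c₁ : MPS →ₐ[k] k :=
      { PowerSeries.constantCoeff.comp (ev a b).toRingHom with
        commutes' := fun r => by
          change PowerSeries.constantCoeff (ev a b (algebraMap k MPS r)) = _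
          rw [AlgHom.commutes]
          exact PowerSeries.constantCoeff_C r }
    have h0 : ∀ i, c₁ (MvPowerSeries.X i) = 0 := fun i => by
      change PowerSeries.constantCoeff (ev a b (MvPowerSeries.X i)) = 0
      fin_cases i <;> simp [ev_X0, ev_X1]
    exact AlgHom.congr_fun (hom_ext c₁ c₂ ⊥ bot_ne_top (fun i => (h0 i).trans (MvPowerSeries.constantCoeff_X i).symm)
      (fun i => (Submodule.mem_bot k).2 (h0 i))) f
  rw [key, key]

instance : IsLocalRing A₁ :=
  have : Nontrivial A₁ := Ideal.Quotient.nontrivial_iff.2 (by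
    rw [Ne, Ideal.span_singleton_eq_top, MvPowerSeries.isUnit_iff_constantCoeff]
    simp [ArSing.eqn])
  .of_surjective' (Ideal.Quotient.mk _) Ideal.Quotient.mk_surjective

variable (k) in
/-- The ideal of the node. -/
noncomputable def J : Ideal A₁ := RingHom.ker (PowerSeries.constantCoeff.comp (π₁ (k := k)).toRingHom)

lemma J_ne : J k ≠ ⊤ := RingHom.ker_ne_top _

lemma x_mem : ArSing.x k 1 ∈ J k := by
  simp [J, RingHom.mem_ker, π₁_x]

lemma y_mem : ArSing.y k 1 ∈ J k := by
  simp [J, RingHom.mem_ker, π₁_y]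

include h2 in
lemma glue_π (q : A₁) : glue (π₁ q) (π₂ q) = q := by
  let Ψ : MPS →ₐ[k] A₁ :=
    { toFun := fun f => glue (π₁ (Ideal.Quotient.mk _ f)) (π₂ (Ideal.Quotient.mk _ f))
      map_one' := by simp [glue]
      map_mul' := fun f g => by
        simp only [map_mul]
        exact glue_mul _ _ _ _ (constantCoeff_eq _) (constantCoeff_eq _)
      map_zero' := by simp [glue]
      map_add' := fun f g => by simp [glue]; ring
      commutes' := fun r => by
        change glue (π₁ (algebraMap k A₁ r)) (π₂ (algebraMap k A₁ r)) = algebraMap k A₁ r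
        simp only [glue, AlgHom.commutes]
        rw [show algebraMap k PS r = PowerSeries.C r from rfl, PowerSeries.constantCoeff_C]
        ring }
  obtain ⟨f, rfl⟩ := Ideal.Quotient.mk_surjective q
  have hu2 : IsUnit (2 : A₁) := by
    rw [← map_ofNat (algebraMap k A₁) 2]
    exact (IsUnit.mk0 _ h2).map _
  have hXU : (glue PowerSeries.X 0 : A₁) = U ∧ (glue 0 PowerSeries.X : A₁) = V := by
    constructor <;> simp [glue, su_X, sv_X]
  have hx : Ψ (MvPowerSeries.X 0) = ArSing.x k 1 := by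
    change glue (π₁ (ArSing.x k 1)) (π₂ (ArSing.x k 1)) = _
    apply hu2.mul_right_cancel
    simp only [glue, π₁_x, π₂_x, map_neg, map_mul, PowerSeries.constantCoeff_X, mul_zero, map_zero, sub_zero,
      ← PowerSeries.algebraMap_eq (R := k), AlgHom.commutes, su_X, sv_X]
    have h := congrArg (algebraMap k A₁) (inv_mul_cancel₀ h2)
    rw [map_mul, map_one, map_ofNat] at h
    linear_combination (2 * ArSing.x k 1) * h
  have hy : Ψ (MvPowerSeries.X 1) = ArSing.y k 1 := by
    change glue (π₁ (ArSing.y k 1)) (π₂ (ArSing.y k 1)) = _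
    apply hu2.mul_right_cancel
    simp only [glue, π₁_y, π₂_y, map_mul, PowerSeries.constantCoeff_X, mul_zero, map_zero, sub_zero,
      ← PowerSeries.algebraMap_eq (R := k), AlgHom.commutes, su_X, sv_X]
    have h := congrArg (algebraMap k A₁) (inv_mul_cancel₀ h2)
    rw [map_mul, map_one, map_ofNat] at h
    linear_combination (2 * ArSing.y k 1) * h
  have := hom_ext Ψ (Ideal.Quotient.mkₐ k _) (J k) J_ne
    (fun i => by fin_cases i; exacts [hx, hy])
    (fun i => by fin_cases i; exacts [hx ▸ x_mem, hy ▸ y_mem])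
  exact AlgHom.congr_fun this f

variable (k) in
/-- The constant coefficient as an algebra map. -/
noncomputable def ε : PS →ₐ[k] k :=
  { (PowerSeries.constantCoeff : PS →+* k) with commutes' := fun r => PowerSeries.constantCoeff_C r }

lemma ε_apply (F : PS) : ε k F = PowerSeries.constantCoeff F := rfl

variable (k) in
/-- The maximal ideal of the branch. -/
noncomputable def m₁ : Ideal PS := RingHom.ker (PowerSeries.constantCoeff : PS →+* k)

lemma m₁_ne : m₁ k ≠ ⊤ := RingHom.ker_ne_top _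

lemma X_mem : (PowerSeries.X : PS) ∈ m₁ k := PowerSeries.constantCoeff_X

include h2 in
lemma π₁_glue (F G : PS) (h : PowerSeries.constantCoeff G = PowerSeries.constantCoeff F) :
    π₁ (glue F G) = F := by
  have e1 : (π₁ (k := k)).comp su = AlgHom.id k PS := hom_ext₁ _ _ (m₁ k) m₁_ne
    (by simp [su_X, π₁_U h2]) (by simp [su_X, π₁_U h2, X_mem])
  have e2 : (π₁ (k := k)).comp sv = (Algebra.ofId k PS).comp (ε k) := hom_ext₁ _ _ (m₁ k) m₁_ne
    (by rw [AlgHom.comp_apply, sv_X, π₁_V, AlgHom.comp_apply, ε_apply, PowerSeries.constantCoeff_X, map_zero])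
    (by rw [AlgHom.comp_apply, sv_X, π₁_V]; exact zero_mem _)
  rw [glue, map_sub, map_add, AlgHom.commutes, show π₁ (su F) = F from AlgHom.congr_fun e1 F,
    show π₁ (sv G) = (Algebra.ofId k PS) (ε k G) from AlgHom.congr_fun e2 G, ε_apply, h, Algebra.ofId_apply]
  ring

include h2 in
lemma π₂_glue (F G : PS) : π₂ (glue F G) = G := by
  have e1 : (π₂ (k := k)).comp sv = AlgHom.id k PS := hom_ext₁ _ _ (m₁ k) m₁_ne
    (by simp [sv_X, π₂_V h2]) (by simp [sv_X, π₂_V h2, X_mem])
  have e2 : (π₂ (k := k)).comp su = (Algebra.ofId k PS).comp (ε k) := hom_ext₁ _ _ (m₁ k) m₁_ne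
    (by rw [AlgHom.comp_apply, su_X, π₂_U, AlgHom.comp_apply, ε_apply, PowerSeries.constantCoeff_X, map_zero])
    (by rw [AlgHom.comp_apply, su_X, π₂_U]; exact zero_mem _)
  rw [glue, map_sub, map_add, AlgHom.commutes, show π₂ (sv G) = G from AlgHom.congr_fun e1 G,
    show π₂ (su F) = (Algebra.ofId k PS) (ε k F) from AlgHom.congr_fun e2 F, ε_apply, Algebra.ofId_apply]
  ring

include h2 in
lemma eq_of_π {a b : A₁} (h₁ : π₁ a = π₁ b) (hb : π₂ a = π₂ b) : a = b := by
  rw [← glue_π h2 a, ← glue_π h2 b, h₁, hb]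

variable (k) in
/-- `t ↦ -t`. -/
noncomputable def neg : PS →ₐ[k] PS :=
  { PowerSeries.rescale (-1 : k) with
    commutes' := fun r => by
      change PowerSeries.rescale (-1 : k) (PowerSeries.C r) = PowerSeries.C r
      ext n; rw [PowerSeries.coeff_rescale, PowerSeries.coeff_C]; split_ifs with h <;> simp [h] }

lemma neg_X : neg k PowerSeries.X = -PowerSeries.X := by
  change PowerSeries.rescale (-1 : k) PowerSeries.X = _
  ext n; rw [PowerSeries.coeff_rescale, map_neg, PowerSeries.coeff_X]; split_ifs with h <;> simp [h]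

include h2 in
theorem main (σ : A₁ ≃ₐ[k] A₁) (hx : σ (ArSing.x k 1) = ArSing.y k 1)
    (hy : σ (ArSing.y k 1) = ArSing.x k 1)
    (φ : A₁ →ₐ[k] A₁) (hφu : φ (ArSing.x k 1 + ArSing.y k 1) = ArSing.x k 1 + ArSing.y k 1)
    (hφv : φ (ArSing.y k 1 - ArSing.x k 1) = (ArSing.y k 1 - ArSing.x k 1) ^ 2) :
    (∀ a : A₁, σ a = a ↔ a ∈ φ.range) ∧ Function.Injective φ ∧
    Ideal.span (Set.range fun a : A₁ => σ a - a) = Ideal.span {V} ∧
    (V : A₁) ∉ nonZeroDivisors A₁ ∧
    Ideal.span {(V : A₁)} ∈ minimalPrimes A₁ ∧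
    ¬ φ.toRingHom.Flat := by
  let sq : PS →ₐ[k] PS := PowerSeries.expand 2 two_ne_zero
  have hsqX : sq PowerSeries.X = PowerSeries.X ^ 2 := PowerSeries.expand_X 2 two_ne_zero
  have hext : ∀ (ψ ψ' : A₁ →ₐ[k] PS), ψ U = ψ' U → ψ V = ψ' V →
      ψ U ∈ m₁ k → ψ V ∈ m₁ k → ψ = ψ' := by
    intro ψ ψ' e1 e2 m1 m2
    have hx2 : ∀ θ : A₁ →ₐ[k] PS, θ (ArSing.x k 1) = PowerSeries.C 2⁻¹ * (θ U - θ V) ∧
        θ (ArSing.y k 1) = PowerSeries.C 2⁻¹ * (θ U + θ V) := by
      intro θ
      constructor <;> rw [map_add, map_sub]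
      · linear_combination (-θ (ArSing.x k 1)) * half h2
      · linear_combination (-θ (ArSing.y k 1)) * half h2
    have := hom_ext (ψ.comp (Ideal.Quotient.mkₐ k _)) (ψ'.comp (Ideal.Quotient.mkₐ k _)) (m₁ k) m₁_ne
      (fun i => by
        fin_cases i
        · exact (hx2 ψ).1.trans (by rw [e1, e2]; exact (hx2 ψ').1.symm)
        · exact (hx2 ψ).2.trans (by rw [e1, e2]; exact (hx2 ψ').2.symm))
      (fun i => by
        fin_cases i
        · exact (hx2 ψ).1.symm ▸ Ideal.mul_mem_left _ _ (sub_mem m1 m2)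
        · exact (hx2 ψ).2.symm ▸ Ideal.mul_mem_left _ _ (add_mem m1 m2))
    ext q
    obtain ⟨f, rfl⟩ := Ideal.Quotient.mk_surjective q
    exact congrArg _ (AlgHom.congr_fun this f)
  have hσU : σ U = U := by rw [map_add, hx, hy, add_comm]
  have hσV : σ V = -V := by rw [map_sub, hx, hy, neg_sub]
  have s1 : π₁.comp σ.toAlgHom = π₁ := hext _ _ (congrArg π₁ hσU)
    ((congrArg π₁ hσV).trans (by rw [map_neg, π₁_V, neg_zero]))
    (by change π₁ (σ U) ∈ _; rw [hσU, π₁_U h2]; exact X_mem)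
    (by change π₁ (σ V) ∈ _; rw [hσV, map_neg, π₁_V, neg_zero]; exact zero_mem _)
  have s2 : π₂.comp σ.toAlgHom = (neg k).comp π₂ := hext _ _
    (by change π₂ (σ U) = neg k (π₂ U); rw [hσU, π₂_U, map_zero])
    (by change π₂ (σ V) = neg k (π₂ V); rw [hσV, map_neg, π₂_V h2, neg_X])
    (by change π₂ (σ U) ∈ _; rw [hσU, π₂_U]; exact zero_mem _)
    (by change π₂ (σ V) ∈ _; rw [hσV, map_neg, π₂_V h2]; exact neg_mem X_mem)
  have p1 : π₁.comp φ = π₁ := hext _ _ (congrArg π₁ hφu)
    (by change π₁ (φ V) = _; rw [hφv, map_pow, π₁_V]; simp)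
    (by change π₁ (φ U) ∈ _; rw [hφu, π₁_U h2]; exact X_mem)
    (by change π₁ (φ V) ∈ _; rw [hφv, map_pow, π₁_V]; simp)
  have p2 : π₂.comp φ = sq.comp π₂ := hext _ _
    (by change π₂ (φ U) = sq (π₂ U); rw [hφu, π₂_U, map_zero])
    (by change π₂ (φ V) = sq (π₂ V); rw [hφv, map_pow, π₂_V h2, hsqX])
    (by change π₂ (φ U) ∈ _; rw [hφu, π₂_U]; exact zero_mem _)
    (by change π₂ (φ V) ∈ _; rw [hφv, map_pow, π₂_V h2, pow_two]; exact Ideal.mul_mem_left _ _ X_mem)
  have s1' : ∀ a, π₁ (σ a) = π₁ a := fun a => AlgHom.congr_fun s1 a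
  have s2' : ∀ a, π₂ (σ a) = neg k (π₂ a) := fun a => AlgHom.congr_fun s2 a
  have p1' : ∀ a, π₁ (φ a) = π₁ a := fun a => AlgHom.congr_fun p1 a
  have p2' : ∀ a, π₂ (φ a) = sq (π₂ a) := fun a => AlgHom.congr_fun p2 a
  have hneg : ∀ (G : PS) n, PowerSeries.coeff n (neg k G) = (-1 : k) ^ n * PowerSeries.coeff n G :=
    fun G n => PowerSeries.coeff_rescale G (-1) n
  have hmemV : ∀ a : A₁, π₁ a = 0 → a ∈ Ideal.span {(V : A₁)} := by
    intro a ha
    obtain ⟨w, hw⟩ : PowerSeries.X ∣ π₂ a := PowerSeries.X_dvd_iff.2 (by rw [constantCoeff_eq, ha, map_zero])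
    refine Ideal.mem_span_singleton.2 ⟨glue (PowerSeries.C (PowerSeries.constantCoeff w)) w, eq_of_π h2 ?_ ?_⟩
    · rw [map_mul, π₁_V, zero_mul, ha]
    · rw [map_mul, π₂_V h2, π₂_glue h2, hw]
  have hU0 : (U : A₁) ≠ 0 := fun h => PowerSeries.X_ne_zero (R := k) (by rw [← π₁_U h2, h, map_zero])
  have hspan : ∀ a, a ∈ Ideal.span {(V : A₁)} ↔ π₁ a = 0 := fun a => ⟨fun h => by
    obtain ⟨c, rfl⟩ := Ideal.mem_span_singleton'.1 h
    rw [map_mul, π₁_V, mul_zero], hmemV a⟩
  refine ⟨fun a => ⟨fun h => ?_, ?_⟩, fun a b h => ?_, le_antisymm ?_ ?_, ?_, ?_, ?_⟩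
  · have hev : neg k (π₂ a) = π₂ a := by rw [← s2', h]
    let H : PS := PowerSeries.mk fun n => PowerSeries.coeff (2 * n) (π₂ a)
    have hH : sq H = π₂ a := by
      ext n
      change PowerSeries.coeff n (PowerSeries.expand 2 two_ne_zero H) = _
      by_cases hn : 2 ∣ n
      · obtain ⟨m, rfl⟩ := hn
        rw [PowerSeries.coeff_expand_mul, PowerSeries.coeff_mk]
      · rw [PowerSeries.coeff_expand_of_not_dvd _ _ _ hn]
        have h3 := hneg (π₂ a) n
        rw [hev, Odd.neg_one_pow (by rwa [← Nat.not_even_iff_odd, even_iff_two_dvd]), neg_one_mul] at h3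
        have h4 : (2 : k) * PowerSeries.coeff n (π₂ a) = 0 := by linear_combination h3
        exact ((mul_eq_zero.1 h4).resolve_left h2).symm
    refine ⟨glue (π₁ a) H, eq_of_π h2 ?_ ?_⟩
    · change π₁ (φ _) = _
      rw [p1', π₁_glue h2]
      rw [← PowerSeries.coeff_zero_eq_constantCoeff_apply, PowerSeries.coeff_mk, mul_zero,
        PowerSeries.coeff_zero_eq_constantCoeff_apply, constantCoeff_eq]
    · change π₂ (φ _) = _
      rw [p2', π₂_glue h2, hH]
  · rintro ⟨b, rfl⟩
    refine eq_of_π h2 (by rw [s1']) ?_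
    rw [s2']
    change neg k (π₂ (φ b)) = π₂ (φ b)
    rw [p2']
    ext n
    rw [hneg]
    change (-1 : k) ^ n * PowerSeries.coeff n (PowerSeries.expand 2 two_ne_zero (π₂ b)) = PowerSeries.coeff n (PowerSeries.expand 2 two_ne_zero (π₂ b))
    by_cases hn : 2 ∣ n
    · rw [Even.neg_one_pow (even_iff_two_dvd.2 hn), one_mul]
    · rw [PowerSeries.coeff_expand_of_not_dvd _ _ _ hn, mul_zero]
  · refine eq_of_π h2 (by rw [← p1' a, h, p1']) ?_
    have h' : sq (π₂ a) = sq (π₂ b) := by rw [← p2', h, p2']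
    ext n
    have := congrArg (PowerSeries.coeff (2 * n)) h'
    simpa [sq, PowerSeries.coeff_expand_mul] using this
  · rw [Ideal.span_le]
    rintro _ ⟨a, rfl⟩
    exact hmemV _ (by rw [map_sub, s1', sub_self])
  · rw [Ideal.span_singleton_le_iff_mem]
    have h3 : σ V - V ∈ Ideal.span (Set.range fun a : A₁ => σ a - a) := Ideal.subset_span ⟨V, rfl⟩
    rw [hσV] at h3
    have h4 := Ideal.mul_mem_left _ (algebraMap k A₁ (-2⁻¹)) h3
    convert h4 using 1
    have h5 := congrArg (algebraMap k A₁) (inv_mul_cancel₀ h2)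
    rw [map_mul, map_one, map_ofNat] at h5
    rw [map_neg]
    linear_combination (-(V : A₁)) * h5
  · intro h
    exact hU0 ((mem_nonZeroDivisors_iff.1 h).2 U UV)
  · refine ⟨⟨?_, bot_le⟩, ?_⟩
    · have : Ideal.span {(V : A₁)} = RingHom.ker (π₁ (k := k)).toRingHom := by
        ext a; exact hspan a
      rw [this]
      exact RingHom.ker_isPrime _
    · rintro P ⟨hP, -⟩ hle
      rw [Ideal.span_singleton_le_iff_mem]
      have : (U : A₁) * V ∈ P := UV (k := k) ▸ P.zero_mem
      refine (hP.mem_or_mem this).resolve_left fun hu => ?_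
      have h5 := (hspan U).1 (hle hu)
      rw [π₁_U h2] at h5
      exact PowerSeries.X_ne_zero h5
  · intro hflat
    obtain ⟨κ, hκ, c, y, hc, hsum⟩ : ∃ (κ : Type) (_ : Fintype κ) (c : κ → A₁) (y : κ → A₁),
        (∀ j, (U : A₁) * c j = 0) ∧ (V : A₁) = ∑ j, φ (c j) * y j := by
      let i : Module A₁ A₁ := φ.toRingHom.toAlgebra.toModule
      have hfl : @Module.Flat A₁ A₁ _ _ i := hflat
      have h := @Module.Flat.isTrivialRelation_of_sum_smul_eq_zero A₁ A₁ _ _ i hfl (Fin 1) _ (fun _ => U) (fun _ => V)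
        (by rw [Fin.sum_univ_one]; change φ U * V = 0; rw [hφu]; exact UV)
      obtain ⟨n, a, y, hy, ha⟩ := h
      exact ⟨Fin n, inferInstance, a 0, y, fun j => by simpa using ha j, hy 0⟩
    have hX : (PowerSeries.X : PS) ^ 2 ∣ π₂ V := by
      rw [hsum, map_sum]
      refine Finset.dvd_sum fun j _ => ?_
      have h0 : π₁ (c j) = 0 := by
        have h1 := congrArg π₁ (hc j)
        rw [map_mul, π₁_U h2, map_zero] at h1
        exact (mul_eq_zero.1 h1).resolve_left PowerSeries.X_ne_zero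
      obtain ⟨d, hd⟩ := Ideal.mem_span_singleton'.1 (hmemV _ h0)
      rw [map_mul, p2', ← hd, map_mul, map_mul, π₂_V h2, hsqX]
      exact (Dvd.intro_left _ rfl).mul_right _
    rw [π₂_V h2] at hX
    have h1 := PowerSeries.X_pow_dvd_iff.1 hX 1 one_lt_two
    simp at h1

end Groth.Agent.H95.NodeSwap
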