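import Groth.Prelude.Def_PP16

/-!
# Principal parts vanishing along a section
-/

universe u

open scoped TensorProduct

namespace Groth.Agent.H95.PPSection

variable (R SY SX : Type u) [CommRing R] [CommRing SY] [CommRing SX] [Algebra R SY] [Algebra R SX]
  [Algebra SY SX] [IsScalarTower R SY SX] (σ : SX →ₐ[R] R)

lemma sup_pow_le {T : Type u} [CommSemiring T] (K J : Ideal T) (j : ℕ) : (K ⊔ J) ^ j ≤ K ⊔ J ^ j := by
  induction j with
  | zero => rw [pow_zero, pow_zero]; exact le_sup_right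
  | succ j ih =>
    rw [pow_succ, pow_succ]
    refine (mul_le_mul_left ih (K ⊔ J)).trans ?_
    rw [Ideal.mul_le]
    intro x hx y hy
    obtain ⟨a, ha, b, hb, rfl⟩ := Submodule.mem_sup.1 hx
    obtain ⟨a', ha', b', hb', rfl⟩ := Submodule.mem_sup.1 hy
    rw [add_mul, mul_add b]
    exact add_mem (Ideal.mem_sup_left (Ideal.mul_mem_right _ _ ha))
      (add_mem (Ideal.mem_sup_left (Ideal.mul_mem_left _ _ ha')) (Ideal.mem_sup_right (Ideal.mul_mem_mul hb hb')))

lemma augIdeal_eq_span (n : ℕ) (B : Type u) [CommRing B] [Algebra R B] :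
    PP16.augIdeal n R B = Ideal.span ((Ideal.Quotient.mk (KaehlerDifferential.ideal R B ^ (n + 1))) ''
      Set.range fun s : B => (1 : B) ⊗ₜ[R] s - s ⊗ₜ[R] (1 : B)) :=
  (congrArg (Ideal.map (Ideal.Quotient.mk (KaehlerDifferential.ideal R B ^ (n + 1))))
    (KaehlerDifferential.span_range_eq_ideal R B).symm).trans (Ideal.map_span _ _)

set_option maxHeartbeats 1000000 in
lemma mem_smul (n : ℕ) (I : Ideal SX) (z₀ : PP16.P n R SX)
    (hK : z₀ ∈ I.map (algebraMap SX (PP16.P n R SX))) (hT : z₀ ∈ PP16.augIdeal n R SX) :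
    z₀ ∈ I • (PP16.augIdeal n R SX).restrictScalars SX := by
  let JX := KaehlerDifferential.ideal R SX
  let ε : PP16.P n R SX →ₐ[SX] SX := Ideal.Quotient.liftₐ (JX ^ (n + 1))
    (Algebra.TensorProduct.lift (AlgHom.id SX SX) (AlgHom.id R SX) (fun _ _ => Commute.all _ _)) (fun x hx => by
      have hx' : x ∈ JX := Ideal.pow_le_self (Nat.succ_ne_zero n) hx
      have e : (Algebra.TensorProduct.lift (AlgHom.id SX SX) (AlgHom.id R SX) (fun _ _ => Commute.all _ _)).restrictScalars R =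
          Algebra.TensorProduct.lmul' R :=
        Algebra.TensorProduct.ext' fun a c => by simp
      change (Algebra.TensorProduct.lift (AlgHom.id SX SX) (AlgHom.id R SX) (fun _ _ => Commute.all _ _)).restrictScalars R x = 0
      rw [e]; exact hx')
  let ρ : PP16.P n R SX →ₗ[SX] PP16.P n R SX :=
    LinearMap.id - (Algebra.linearMap SX (PP16.P n R SX)) ∘ₗ ε.toLinearMap
  have hρT : ∀ z ∈ PP16.augIdeal n R SX, ρ z = z := by
    intro z hz
    have : PP16.augIdeal n R SX ≤ RingHom.ker ε.toRingHom := by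
      rw [augIdeal_eq_span R n SX, Ideal.span_le]
      rintro _ ⟨_, ⟨s, rfl⟩, rfl⟩
      change Algebra.TensorProduct.lift (AlgHom.id SX SX) (AlgHom.id R SX) (fun _ _ => Commute.all _ _)
        ((1 : SX) ⊗ₜ[R] s - s ⊗ₜ[R] (1 : SX)) = 0
      simp
    change z - algebraMap SX _ (ε z) = z
    rw [show ε z = 0 from this hz, map_zero, sub_zero]
  have hρmem : ∀ z, ρ z ∈ PP16.augIdeal n R SX := by
    intro z
    obtain ⟨w, rfl⟩ := Ideal.Quotient.mk_surjective z
    induction w using TensorProduct.induction_on with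
    | zero => simp
    | tmul a c =>
      have he : ε (Ideal.Quotient.mk (JX ^ (n + 1)) (a ⊗ₜ[R] c)) = a * c := by
        change Algebra.TensorProduct.lift (AlgHom.id SX SX) (AlgHom.id R SX) (fun _ _ => Commute.all _ _) (a ⊗ₜ[R] c) = _
        simp
      have hm : (a ⊗ₜ[R] (1 : SX)) * ((1 : SX) ⊗ₜ[R] c - c ⊗ₜ[R] (1 : SX)) = a ⊗ₜ[R] c - (a * c) ⊗ₜ[R] (1 : SX) := by
        rw [mul_sub, Algebra.TensorProduct.tmul_mul_tmul, Algebra.TensorProduct.tmul_mul_tmul, mul_one, one_mul, mul_one]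
      have : ρ (Ideal.Quotient.mk (JX ^ (n + 1)) (a ⊗ₜ[R] c)) =
          Ideal.Quotient.mk (JX ^ (n + 1)) ((a ⊗ₜ[R] (1 : SX)) * ((1 : SX) ⊗ₜ[R] c - c ⊗ₜ[R] (1 : SX))) := by
        rw [hm, map_sub, ← he, LinearMap.sub_apply, LinearMap.id_apply, LinearMap.comp_apply]
        rfl
      rw [this]
      exact Ideal.mem_map_of_mem (Ideal.Quotient.mk (JX ^ (n + 1))) (Ideal.mul_mem_left _ _ (KaehlerDifferential.one_smul_sub_smul_one_mem_ideal R c))
    | add a c ha hc => rw [map_add, map_add]; exact add_mem ha hc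
  have h5 : z₀ ∈ (I • (⊤ : Submodule SX (PP16.P n R SX))).map ρ :=
    ⟨_, by rw [Ideal.smul_top_eq_map]; exact hK, hρT _ hT⟩
  rw [Submodule.map_smul''] at h5
  refine Submodule.smul_mono le_rfl ?_ h5
  rintro _ ⟨z, -, rfl⟩
  exact hρmem z

theorem main (n : ℕ) :
    (∀ y ∈ PP16.augIdeal n R SY,
        PP16.map n R SY R SX y ∈
          RingHom.ker σ.toRingHom • (PP16.augIdeal n R SX).restrictScalars SX) ↔
      (∀ b : SY, algebraMap SY SX b ∈ RingHom.ker σ.toRingHom →
        algebraMap SY SX b ∈ RingHom.ker σ.toRingHom ^ (n + 1)) := by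
  set I : Ideal SX := RingHom.ker σ.toRingHom with hI
  let JX := KaehlerDifferential.ideal R SX
  have hσI : ∀ a : SX, a - algebraMap R SX (σ a) ∈ I := fun a => by
    rw [hI, RingHom.mem_ker]
    change σ (a - algebraMap R SX (σ a)) = 0
    rw [map_sub, AlgHom.commutes, Algebra.algebraMap_self, RingHom.id_apply, sub_self]
  constructor
  · intro h b hb
    let φ : SX ⊗[R] SX →ₐ[R] SX ⧸ I ^ (n + 1) :=
      Algebra.TensorProduct.lift ((Algebra.ofId R _).comp σ) (Ideal.Quotient.mkₐ R _) (fun _ _ => Commute.all _ _)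
    have hφ : ∀ a c, φ (a ⊗ₜ c) = algebraMap R _ (σ a) * Ideal.Quotient.mk _ c := fun a c =>
      Algebra.TensorProduct.lift_tmul ..
    have hJ : JX.map φ.toRingHom ≤ I.map (Ideal.Quotient.mk (I ^ (n + 1))) := by
      simp only [JX]
      rw [← KaehlerDifferential.span_range_eq_ideal, Ideal.map_span, Ideal.span_le]
      rintro _ ⟨_, ⟨s, rfl⟩, rfl⟩
      change φ ((1 : SX) ⊗ₜ[R] s - s ⊗ₜ[R] (1 : SX)) ∈ _
      rw [map_sub, hφ, hφ, map_one, map_one, map_one, one_mul, mul_one]
      exact Ideal.mem_map_of_mem _ (hσI s)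
    let Φ : PP16.P n R SX →ₐ[R] SX ⧸ I ^ (n + 1) := Ideal.Quotient.liftₐ (JX ^ (n + 1)) φ (fun x hx => by
      have h1 := Ideal.pow_right_mono hJ (n + 1)
      rw [← Ideal.map_pow, ← Ideal.map_pow, Ideal.map_quotient_self, le_bot_iff] at h1
      exact (Submodule.mem_bot _).1 (h1.le (Ideal.mem_map_of_mem φ.toRingHom hx)))
    have key : ∀ z ∈ I • (PP16.augIdeal n R SX).restrictScalars SX, Φ z = 0 := by
      intro z hz
      refine Submodule.smul_induction_on hz (fun x hx t _ => ?_) (fun x y hx hy => ?_)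
      ·
        have hx0 : Φ (algebraMap SX (PP16.P n R SX) x) = 0 := by
          change φ (x ⊗ₜ[R] (1 : SX)) = 0
          rw [hφ, map_one, mul_one, show σ x = 0 from hx, map_zero]
        rw [Algebra.smul_def, map_mul, hx0, zero_mul]
      · rw [map_add, hx, hy, add_zero]
    have h2 := key _ (h (Ideal.Quotient.mk _ ((1 : SY) ⊗ₜ[R] b - b ⊗ₜ[R] (1 : SY)))
      (Ideal.mem_map_of_mem _ (KaehlerDifferential.one_smul_sub_smul_one_mem_ideal R b)))
    rw [PP16.map_mk, map_sub, PP16.tensorMap_tmul, PP16.tensorMap_tmul, map_one] at h2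
    change φ ((1 : SX) ⊗ₜ[R] algebraMap SY SX b - algebraMap SY SX b ⊗ₜ[R] (1 : SX)) = 0 at h2
    rw [map_sub, hφ, hφ, map_one, map_one, map_one, one_mul, mul_one,
      show σ (algebraMap SY SX b) = 0 from hb, map_zero, sub_zero, Ideal.Quotient.eq_zero_iff_mem] at h2
    exact h2
  · intro h
    let K : Ideal (PP16.P n R SX) := I.map (algebraMap SX (PP16.P n R SX))
    have hgen : PP16.augIdeal n R SY ≤ (K ⊓ PP16.augIdeal n R SX).comap (PP16.map n R SY R SX).toRingHom := by
      rw [augIdeal_eq_span R n SY, Ideal.span_le]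
      rintro _ ⟨_, ⟨b, rfl⟩, rfl⟩
      change PP16.map n R SY R SX (Ideal.Quotient.mk _ ((1 : SY) ⊗ₜ[R] b - b ⊗ₜ[R] (1 : SY))) ∈ K ⊓ PP16.augIdeal n R SX
      rw [PP16.map_mk, map_sub, PP16.tensorMap_tmul, PP16.tensorMap_tmul, map_one]
      refine ⟨?_, Ideal.mem_map_of_mem _ (KaehlerDifferential.one_smul_sub_smul_one_mem_ideal R _)⟩
      set b' := algebraMap SY SX b
      have hc : b' - algebraMap R SX (σ b') ∈ I ^ (n + 1) := by
        rw [IsScalarTower.algebraMap_apply R SY SX (σ b'), ← map_sub]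
        apply h
        rw [map_sub, ← IsScalarTower.algebraMap_apply]
        exact hσI b'
      set c := b' - algebraMap R SX (σ b')
      have hd : (1 : SX) ⊗ₜ[R] b' - b' ⊗ₜ[R] (1 : SX) = (1 : SX) ⊗ₜ[R] c - c ⊗ₜ[R] (1 : SX) := by
        rw [TensorProduct.tmul_sub, TensorProduct.sub_tmul,
          show (algebraMap R SX (σ b')) = σ b' • (1 : SX) from Algebra.algebraMap_eq_smul_one _,
          TensorProduct.smul_tmul]
        abel
      rw [hd, map_sub]
      refine sub_mem ?_ (Ideal.mem_map_of_mem (algebraMap SX (PP16.P n R SX)) (Ideal.pow_le_self (Nat.succ_ne_zero n) hc))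
      let g : SX →+* PP16.P n R SX := (PP16.dn n R SX).toRingHom
      have h1 : I.map g ≤ K ⊔ PP16.augIdeal n R SX := by
        rw [Ideal.map_le_iff_le_comap]
        intro x hx
        have : g x = algebraMap SX (PP16.P n R SX) x + Ideal.Quotient.mk _ ((1 : SX) ⊗ₜ[R] x - x ⊗ₜ[R] (1 : SX)) := by
          rw [map_sub]
          exact (add_sub_cancel _ _).symm
        rw [Ideal.mem_comap, this]
        exact add_mem (Ideal.mem_sup_left (Ideal.mem_map_of_mem _ hx))
          (Ideal.mem_sup_right (Ideal.mem_map_of_mem _ (KaehlerDifferential.one_smul_sub_smul_one_mem_ideal R x)))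
      have h2 : g c ∈ (K ⊔ PP16.augIdeal n R SX) ^ (n + 1) := by
        have := Ideal.mem_map_of_mem g hc
        rw [Ideal.map_pow] at this
        exact Ideal.pow_right_mono h1 (n + 1) this
      have h3 : (K ⊔ PP16.augIdeal n R SX) ^ (n + 1) ≤ K := by
        refine (sup_pow_le K (PP16.augIdeal n R SX) (n + 1)).trans (sup_le le_rfl ?_)
        exact le_of_eq_of_le ((Ideal.map_pow _ _ _).symm.trans (Ideal.map_quotient_self _)) bot_le
      exact h3 h2
    intro y hy
    obtain ⟨hK, hT⟩ := hgen hy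
    exact mem_smul R SX n I _ hK hT

end Groth.Agent.H95.PPSection
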