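import Groth.Prelude.Def_W4c5modbuncurvesppStab
import Mathlib.Algebra.Order.Round
import Mathlib.Data.Finset.Max
import Mathlib.Tactic.Linarith
import Mathlib.Tactic.LinearCombination
import Mathlib.Algebra.BigOperators.Field

/-!
# Stability polytopes
-/

universe u

open PhiStab

namespace Groth.Agent.H95.Polytope

variable {V E : Type u} [Fintype V] [Fintype E] [DecidableEq V] [DecidableEq E] (ends : E → V × V)

/-- Adjacency inside a vertex set. -/
def R (U : Finset V) (a b : V) : Prop := a ∈ U ∧ b ∈ U ∧ LabGraph.Adj ends a b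

/-- Connectedness of the induced subgraph. -/
def ConnIn (U : Finset V) : Prop :=
  U.Nonempty ∧ ∀ v ∈ U, ∀ w ∈ U, Relation.ReflTransGen (R ends U) v w

omit [Fintype V] [Fintype E] [DecidableEq V] [DecidableEq E] in
lemma adj_symm {a b : V} (h : LabGraph.Adj ends a b) : LabGraph.Adj ends b a :=
  h.imp fun _ he => he.symm

omit [Fintype V] [Fintype E] [DecidableEq V] [DecidableEq E] in
lemma R_symm {U : Finset V} {a b : V} (h : R ends U a b) : R ends U b a :=
  ⟨h.2.1, h.1, adj_symm ends h.2.2⟩

omit [Fintype V] [Fintype E] [DecidableEq V] [DecidableEq E] in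
lemma RT_symm {U : Finset V} {a b : V} (h : Relation.ReflTransGen (R ends U) a b) :
    Relation.ReflTransGen (R ends U) b a := by
  induction h with
  | refl => exact .refl
  | tail _ h ih => exact .head (R_symm ends h) ih

omit [Fintype V] [DecidableEq E] in
lemma connected_indEnds (U : Finset V) : LabGraph.Connected (indEnds ends U) ↔ ConnIn ends U := by
  constructor
  · rintro ⟨⟨v⟩, h⟩
    refine ⟨⟨v.1, v.2⟩, fun a ha b hb => ?_⟩
    refine (h ⟨a, ha⟩ ⟨b, hb⟩).lift Subtype.val ?_
    rintro x y ⟨e, he⟩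
    exact ⟨x.2, y.2, e.1, he.imp (fun h => congrArg (fun q : {v : V // v ∈ U} × {v : V // v ∈ U} => (q.1.1, q.2.1)) h)
      (fun h => congrArg (fun q : {v : V // v ∈ U} × {v : V // v ∈ U} => (q.1.1, q.2.1)) h)⟩
  · rintro ⟨⟨v, hv⟩, h⟩
    refine ⟨⟨⟨v, hv⟩⟩, fun a b => ?_⟩
    have h' := h a.1 a.2 b.1 b.2
    have key : ∀ c, Relation.ReflTransGen (R ends U) a.1 c → ∀ hc : c ∈ U,
        Relation.ReflTransGen (LabGraph.Adj (indEnds ends U)) a ⟨c, hc⟩ := by
      intro c hc
      induction hc with
      | refl => exact fun _ => .refl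
      | tail _ h1 ih =>
        intro hc
        obtain ⟨h2, -, e, he⟩ := h1
        have hin : e ∈ inner ends U := by
          simp only [PhiStab.inner, Finset.mem_filter, Finset.mem_univ, true_and]
          rcases he with he | he <;> rw [he] <;> exact ⟨by assumption, by assumption⟩
        refine (ih h2).tail ⟨⟨e, hin⟩, he.imp (fun h => ?_) (fun h => ?_)⟩
        · exact Prod.ext (Subtype.ext (congrArg Prod.fst h)) (Subtype.ext (congrArg Prod.snd h))
        · exact Prod.ext (Subtype.ext (congrArg Prod.fst h)) (Subtype.ext (congrArg Prod.snd h))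
    exact key b.1 h' b.2

/-- No edge joins `A` and `B`. -/
def Sep (A B : Finset V) : Prop := ∀ a ∈ A, ∀ b ∈ B, ¬ LabGraph.Adj ends a b

omit [Fintype V] [Fintype E] [DecidableEq E] in
lemma exists_split {U : Finset V} (hU : U.Nonempty) (h : ¬ ConnIn ends U) :
    ∃ A B : Finset V, A.Nonempty ∧ B.Nonempty ∧ Disjoint A B ∧ A ∪ B = U ∧ Sep ends A B := by
  classical
  simp only [ConnIn, hU, true_and] at h
  push Not at h
  obtain ⟨v, hv, w, hw, hvw⟩ := h
  refine ⟨U.filter (Relation.ReflTransGen (R ends U) v), U.filter (fun x => ¬ Relation.ReflTransGen (R ends U) v x),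
    ⟨v, Finset.mem_filter.2 ⟨hv, .refl⟩⟩, ⟨w, Finset.mem_filter.2 ⟨hw, hvw⟩⟩,
    Finset.disjoint_filter_filter_not _ _ _, Finset.filter_union_filter_not_eq _ _, ?_⟩
  intro a ha b hb hab
  rw [Finset.mem_filter] at ha hb
  exact hb.2 (ha.2.tail ⟨ha.1, hb.1, hab⟩)

omit [Fintype E] [DecidableEq E] in
lemma connIn_union {S A B : Finset V} (hconn : LabGraph.Connected ends) (hS : ConnIn ends S)
    (hdSB : Disjoint S B) (hall : Aᶜ = S ∪ B) (hsep : Sep ends A B) : ConnIn ends (S ∪ B) := by
  classical
  obtain ⟨s, hs⟩ := hS.1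
  refine ⟨⟨s, Finset.mem_union_left _ hs⟩, ?_⟩
  have hRS : ∀ a b, R ends S a b → R ends (S ∪ B) a b := fun a b h =>
    ⟨Finset.mem_union_left _ h.1, Finset.mem_union_left _ h.2.1, h.2.2⟩
  have key : ∀ v, v ∈ S ∪ B → Relation.ReflTransGen (R ends (S ∪ B)) v s := by
    intro v
    have hp := hconn.2 v s
    induction hp using Relation.ReflTransGen.head_induction_on with
    | refl => exact fun _ => .refl
    | @head a c hac _ ih =>
      intro ha
      rcases Finset.mem_union.1 ha with haS | haB
      · exact (hS.2 a haS s hs).lift id hRS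
      · have hc : c ∈ S ∪ B := by
          rw [← hall, Finset.mem_compl]
          exact fun hcA => hsep c hcA a haB (adj_symm ends hac)
        exact (ih hc).head ⟨ha, hc, hac⟩
  intro v hv w hw
  exact (key v hv).trans (RT_symm ends (key w hw))

variable (φ : V → ℝ) (m : V → ℤ) (N : Finset E)

/-- The defect of a vertex set. -/
noncomputable def F (U : Finset V) : ℝ :=
  (degOn ends m N U : ℝ) - (∑ v ∈ U, φ v) + (LabGraph.cut ends U : ℝ) / 2

/-- Indicator. -/
def ind (U : Finset V) (v : V) : ℝ := if v ∈ U then 1 else 0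

omit [Fintype V] in
lemma F_eq (U : Finset V) :
    F ends φ m N U = ∑ v ∈ U, ((m v : ℝ) - φ v) + ∑ e : E,
      ((if e ∈ N then ind U (ends e).1 * ind U (ends e).2 else 0) +
        (ind U (ends e).1 + ind U (ends e).2 - 2 * (ind U (ends e).1 * ind U (ends e).2)) / 2) := by
  classical
  rw [F, degOn, Finset.sum_add_distrib, ← Finset.sum_div, Finset.sum_sub_distrib]
  have h1 : ((N ∩ inner ends U).card : ℝ) = ∑ e : E, (if e ∈ N then ind U (ends e).1 * ind U (ends e).2 else 0) := by
    rw [show N ∩ inner ends U = Finset.univ.filter (fun e => e ∈ N ∧ (ends e).1 ∈ U ∧ (ends e).2 ∈ U) by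
      ext e; simp [PhiStab.inner], Finset.card_filter, Nat.cast_sum]
    refine Finset.sum_congr rfl fun e _ => ?_
    simp only [ind]
    split_ifs <;> simp_all
  have h2 : (LabGraph.cut ends U : ℝ) = ∑ e : E, (ind U (ends e).1 + ind U (ends e).2 - 2 * (ind U (ends e).1 * ind U (ends e).2)) := by
    rw [LabGraph.cut, Finset.card_filter, Nat.cast_sum]
    refine Finset.sum_congr rfl fun e _ => ?_
    simp only [ind]
    split_ifs <;> simp_all <;> norm_num
  push_cast
  rw [h1, h2]
  ring

omit [Fintype V] in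
lemma F_union {A B : Finset V} (hd : Disjoint A B) (hsep : Sep ends A B) :
    F ends φ m N (A ∪ B) = F ends φ m N A + F ends φ m N B := by
  classical
  have hi : ∀ v, ind (A ∪ B) v = ind A v + ind B v := by
    intro v
    simp only [ind, Finset.mem_union]
    by_cases h1 : v ∈ A
    · simp [h1, Finset.disjoint_left.1 hd h1]
    · simp [h1]
  have hc : ∀ e : E, ind A (ends e).1 * ind B (ends e).2 = 0 ∧ ind B (ends e).1 * ind A (ends e).2 = 0 := by
    intro e
    simp only [ind]
    refine ⟨?_, ?_⟩ <;> split_ifs with h1 h2 <;> simp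
    · exact hsep _ h1 _ h2 ⟨e, Or.inl rfl⟩
    · exact hsep _ h2 _ h1 ⟨e, Or.inr rfl⟩
  simp only [F_eq, Finset.sum_union hd]
  rw [add_add_add_comm, ← Finset.sum_add_distrib]
  congr 1
  refine Finset.sum_congr rfl fun e _ => ?_
  obtain ⟨h1, h2⟩ := hc e
  simp only [hi]
  split_ifs <;> ring_nf <;> linarith [h1, h2]

lemma F_compl (U : Finset V) (htot : (totDeg m N : ℝ) = ∑ v, φ v) :
    F ends φ m N Uᶜ = ∑ e : E, (ind U (ends e).1 + ind U (ends e).2 - 2 * (ind U (ends e).1 * ind U (ends e).2)) * (if e ∈ N then 0 else 1) - F ends φ m N U := by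
  classical
  have hi : ∀ v, ind Uᶜ v = 1 - ind U v := by
    intro v
    simp only [ind, Finset.mem_compl]
    split_ifs <;> simp
  rw [eq_sub_iff_add_eq, F_eq, F_eq]
  have h0 : ∑ v ∈ Uᶜ, ((m v : ℝ) - φ v) + ∑ v ∈ U, ((m v : ℝ) - φ v) = -(N.card : ℝ) := by
    rw [Finset.sum_compl_add_sum, Finset.sum_sub_distrib, ← htot, totDeg]
    push_cast; ring
  have h1 : (N.card : ℝ) = ∑ e : E, (if e ∈ N then (1 : ℝ) else 0) := by simp
  rw [add_add_add_comm, h0, ← Finset.sum_add_distrib, h1, ← Finset.sum_neg_distrib, ← Finset.sum_add_distrib]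
  refine Finset.sum_congr rfl fun e _ => ?_
  simp only [hi]
  split_ifs <;> ring

lemma F_split {S A B : Finset V} (hd : Disjoint A B) (hU : A ∪ B = Sᶜ) (hsep : Sep ends A B)
    (htot : (totDeg m N : ℝ) = ∑ v, φ v) :
    F ends φ m N S = F ends φ m N Aᶜ + F ends φ m N Bᶜ := by
  classical
  rw [← compl_compl S, ← hU, F_compl ends φ m N _ htot, F_compl ends φ m N _ htot, F_compl ends φ m N _ htot,
    F_union ends φ m N hd hsep, sub_add_sub_comm, ← Finset.sum_add_distrib]
  congr 1
  refine Finset.sum_congr rfl fun e _ => ?_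
  rw [← add_mul]
  congr 1
  have hi : ∀ v, ind (A ∪ B) v = ind A v + ind B v := by
    intro v
    simp only [ind, Finset.mem_union]
    by_cases h1 : v ∈ A
    · simp [h1, Finset.disjoint_left.1 hd h1]
    · simp [h1]
  have h1 : ind A (ends e).1 * ind B (ends e).2 = 0 := by
    simp only [ind]; split_ifs with h1 h2 <;> simp
    exact hsep _ h1 _ h2 ⟨e, Or.inl rfl⟩
  have h2 : ind B (ends e).1 * ind A (ends e).2 = 0 := by
    simp only [ind]; split_ifs with h1 h2 <;> simp
    exact hsep _ h2 _ h1 ⟨e, Or.inr rfl⟩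
  simp only [hi]
  linear_combination (-2 : ℝ) * h1 - 2 * h2

lemma semistable_of_elementary (hconn : LabGraph.Connected ends) (htot : (totDeg m N : ℝ) = ∑ v, φ v)
    (h : ∀ S, IsElementary ends S → 0 ≤ F ends φ m N S) (S : Finset V) (hS : S.Nonempty)
    (hS' : S ≠ Finset.univ) : 0 ≤ F ends φ m N S := by
  classical
  have stage1 : ∀ n, ∀ S : Finset V, Sᶜ.card = n → ConnIn ends S → S ≠ Finset.univ → 0 ≤ F ends φ m N S := by
    intro n
    induction n using Nat.strong_induction_on with
    | _ n ih =>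
      intro S hn hS hne
      have hne' : Sᶜ.Nonempty := by rwa [Finset.nonempty_iff_ne_empty, ne_eq, Finset.compl_eq_empty_iff]
      by_cases hc : ConnIn ends Sᶜ
      · exact h S ⟨(connected_indEnds ends S).2 hS, (connected_indEnds ends Sᶜ).2 hc⟩
      · obtain ⟨A, B, hA, hB, hd, hU, hsep⟩ := exists_split ends hne' hc
        rw [F_split ends φ m N hd hU hsep htot]
        have hmem : ∀ x, x ∈ A ∪ B ↔ x ∉ S := fun x => by rw [hU, Finset.mem_compl]
        have hdA : Disjoint S A := Finset.disjoint_left.2 fun x hx hxA => (hmem x).1 (Finset.mem_union_left _ hxA) hx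
        have hdB : Disjoint S B := Finset.disjoint_left.2 fun x hx hxB => (hmem x).1 (Finset.mem_union_right _ hxB) hx
        have eA : Aᶜ = S ∪ B := by
          ext x
          have hm := hmem x
          have hd' := fun (h : x ∈ A) => Finset.disjoint_left.1 hd h
          have hdA' := fun (h : x ∈ S) => Finset.disjoint_left.1 hdA h
          simp only [Finset.mem_compl, Finset.mem_union] at hm ⊢
          tauto
        have eB : Bᶜ = S ∪ A := by
          ext x
          have hm := hmem x
          have hd' := fun (h : x ∈ A) => Finset.disjoint_left.1 hd h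
          have hdB' := fun (h : x ∈ S) => Finset.disjoint_left.1 hdB h
          simp only [Finset.mem_compl, Finset.mem_union] at hm ⊢
          tauto
        have hcard : A.card + B.card = n := by rw [← Finset.card_union_of_disjoint hd, hU, hn]
        have cA := ih A.card (by have := hB.card_pos; omega) Aᶜ (by rw [compl_compl])
          (eA ▸ connIn_union ends hconn hS hdB eA hsep)
          (fun h' => hA.ne_empty (by rw [← compl_compl A, h', Finset.compl_univ]))
        have cB := ih B.card (by have := hA.card_pos; omega) Bᶜ (by rw [compl_compl])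
          (eB ▸ connIn_union ends hconn hS hdA eB (fun a ha b hb hab => hsep b hb a ha (adj_symm ends hab)))
          (fun h' => hB.ne_empty (by rw [← compl_compl B, h', Finset.compl_univ]))
        linarith
  obtain ⟨n, hn⟩ : ∃ n, S.card = n := ⟨_, rfl⟩
  induction n using Nat.strong_induction_on generalizing S with
  | _ n ih =>
    by_cases hc : ConnIn ends S
    · exact stage1 _ S rfl hc hS'
    · obtain ⟨A, B, hA, hB, hd, hU, hsep⟩ := exists_split ends hS hc
      subst hU
      rw [F_union ends φ m N hd hsep]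
      rw [Finset.card_union_of_disjoint hd] at hn
      have hlt : ∀ T : Finset V, T.card < n → T ≠ Finset.univ := fun T hT h' => by
        have h2 := Finset.card_le_univ (A ∪ B)
        rw [Finset.card_union_of_disjoint hd, hn, ← Finset.card_univ, ← h'] at h2
        omega
      have hAc := hA.card_pos
      have hBc := hB.card_pos
      have cA := ih A.card (by omega) A hA (hlt A (by omega)) rfl
      have cB := ih B.card (by omega) B hB (hlt B (by omega)) rfl
      linarith

/-- The boundary of an edge weighting. -/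
noncomputable def bd (f : E → ℝ) (v : V) : ℝ :=
  ∑ e : E, f e * ((if (ends e).1 = v then 1 else 0) - (if (ends e).2 = v then 1 else 0))

omit [Fintype V] [DecidableEq E] in
lemma bd_add (f g : E → ℝ) (v : V) : bd ends (f + g) v = bd ends f v + bd ends g v := by
  simp [bd, add_mul, Finset.sum_add_distrib]

omit [Fintype V] in
lemma bd_single (e : E) (δ : ℝ) (v : V) :
    bd ends (Pi.single e δ) v = δ * ((if (ends e).1 = v then 1 else 0) - (if (ends e).2 = v then 1 else 0)) := by
  rw [bd, Finset.sum_eq_single e (fun e' _ he => by rw [Pi.single_eq_of_ne he, zero_mul]) (by simp), Pi.single_eq_same]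

omit [Fintype V] [DecidableEq E] in
lemma bd_eq_zero {f : E → ℝ} {B : Finset V} (hf : ∀ e, f e ≠ 0 → e ∈ inner ends B) {v : V} (hv : v ∉ B) :
    bd ends f v = 0 := by
  refine Finset.sum_eq_zero fun e _ => ?_
  by_cases h : f e = 0
  · rw [h, zero_mul]
  · have := hf e h
    simp only [PhiStab.inner, Finset.mem_filter, Finset.mem_univ, true_and] at this
    have h1 : (ends e).1 ≠ v := by rintro rfl; exact hv this.1
    have h2 : (ends e).2 ≠ v := by rintro rfl; exact hv this.2
    rw [if_neg h1, if_neg h2, sub_zero, mul_zero]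

omit [DecidableEq E] [Fintype V] in
lemma sum_bd (f : E → ℝ) (U : Finset V) :
    ∑ v ∈ U, bd ends f v = ∑ e : E, f e * (ind U (ends e).1 - ind U (ends e).2) := by
  simp only [bd]
  rw [Finset.sum_comm]
  refine Finset.sum_congr rfl fun e _ => ?_
  rw [← Finset.mul_sum, Finset.sum_sub_distrib, Finset.sum_ite_eq, Finset.sum_ite_eq]
  rfl

omit [Fintype V] in
lemma grow {A : Finset V} (hA : ConnIn ends A) {r : V} (hr : r ∈ A) :
    ∃ T : Finset E, T ⊆ inner ends A ∧ ∀ ψ : V → ℝ, ∃ f : E → ℝ, (∀ e, |f e| ≤ 1 / 2) ∧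
      (∀ e, f e ≠ 0 → e ∈ T) ∧ ∀ v ∈ A, v ≠ r → ∃ z : ℤ, ψ v + bd ends f v = z := by
  classical
  let P : Finset V → Prop := fun B => ∃ T : Finset E, T ⊆ inner ends B ∧ ∀ ψ : V → ℝ, ∃ f : E → ℝ,
    (∀ e, |f e| ≤ 1 / 2) ∧ (∀ e, f e ≠ 0 → e ∈ T) ∧ ∀ v ∈ B, v ≠ r → ∃ z : ℤ, ψ v + bd ends f v = z
  have step : ∀ B, B ⊆ A → r ∈ B → B ≠ A → P B → ∃ B', B' ⊆ A ∧ B.card < B'.card ∧ r ∈ B' ∧ P B' := by
    intro B hBA hrB hne ⟨T, hT, hf⟩
    obtain ⟨x, hxA, hxB⟩ : ∃ x ∈ A, x ∉ B := by
      by_contra h
      push Not at h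
      exact hne (Finset.Subset.antisymm hBA h)
    obtain ⟨b, w, hb, hw, hwA, e, he⟩ : ∃ b w, b ∈ B ∧ w ∉ B ∧ w ∈ A ∧ LabGraph.Adj ends b w := by
      have hp := hA.2 r hr x hxA
      clear hxA
      induction hp with
      | refl => exact absurd hrB hxB
      | @tail a c _ hac ih =>
        by_cases ha : a ∈ B
        · exact ⟨a, c, ha, hxB, hac.2.1, hac.2.2⟩
        · exact ih ha
    have hbw : b ≠ w := by rintro rfl; exact hw hb
    have heT : e ∉ T := fun h => by
      have := hT h
      simp only [PhiStab.inner, Finset.mem_filter, Finset.mem_univ, true_and] at this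
      rcases he with he | he <;> rw [he] at this
      · exact hw this.2
      · exact hw this.1
    refine ⟨insert w B, Finset.insert_subset hwA hBA, by rw [Finset.card_insert_of_notMem hw]; omega,
      Finset.mem_insert_of_mem hrB, insert e T, ?_, fun ψ => ?_⟩
    · intro e' he'
      simp only [PhiStab.inner, Finset.mem_filter, Finset.mem_univ, true_and, Finset.mem_insert]
      rcases Finset.mem_insert.1 he' with rfl | he'
      · rcases he with he | he <;> rw [he] <;> simp [hb]
      · have := hT he'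
        simp only [PhiStab.inner, Finset.mem_filter, Finset.mem_univ, true_and] at this
        exact ⟨Or.inr this.1, Or.inr this.2⟩
    · set s : ℝ := (if (ends e).1 = w then 1 else 0) - (if (ends e).2 = w then 1 else 0)
      have hs : s = 1 ∨ s = -1 := by
        rcases he with he | he <;> simp [s, he, hbw]
      set δ : ℝ := s * ((round (ψ w) : ℝ) - ψ w)
      obtain ⟨f, hf1, hf2, hf3⟩ := hf (fun v => ψ v + bd ends (Pi.single e δ) v)
      have hfe : f e = 0 := by
        by_contra h
        exact heT (hf2 e h)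
      refine ⟨f + Pi.single e δ, fun e' => ?_, fun e' he' => ?_, fun v hv hvr => ?_⟩
      · by_cases h : e' = e
        · subst h
          rw [Pi.add_apply, hfe, zero_add, Pi.single_eq_same, abs_mul]
          have habs : |s| = 1 := by rcases hs with h | h <;> simp [h]
          rw [habs, one_mul, abs_sub_comm]
          exact abs_sub_round (ψ w)
        · rw [Pi.add_apply, Pi.single_eq_of_ne h, add_zero]; exact hf1 e'
      · by_cases h : e' = e
        · exact h ▸ Finset.mem_insert_self _ _
        · rw [Pi.add_apply, Pi.single_eq_of_ne h, add_zero] at he'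
          exact Finset.mem_insert_of_mem (hf2 e' he')
      · rcases Finset.mem_insert.1 hv with rfl | hv
        · refine ⟨round (ψ v), ?_⟩
          rw [bd_add, bd_eq_zero ends (fun e' he' => hT (hf2 e' he')) hw, bd_single, zero_add]
          change ψ v + δ * s = _
          rcases hs with h | h <;> simp only [δ, h] <;> ring
        · obtain ⟨z, hz⟩ := hf3 v hv hvr
          exact ⟨z, by rw [bd_add]; linarith⟩
  have key : ∀ n, ∃ B, B ⊆ A ∧ r ∈ B ∧ P B ∧ (B = A ∨ n < B.card) := by
    intro n
    induction n with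
    | zero =>
      refine ⟨{r}, Finset.singleton_subset_iff.2 hr, Finset.mem_singleton_self r,
        ⟨∅, Finset.empty_subset _, fun ψ => ⟨0, fun e => by norm_num, fun e he => absurd rfl he, fun v hv hvr => ?_⟩⟩,
        Or.inr (by simp)⟩
      exact absurd (Finset.mem_singleton.1 hv) hvr
    | succ n ih =>
      obtain ⟨B, hBA, hrB, hP, hor⟩ := ih
      by_cases h : B = A
      · exact ⟨B, hBA, hrB, hP, Or.inl h⟩
      · obtain ⟨B', h1, h2, h3, h4⟩ := step B hBA hrB h hP
        have := hor.resolve_left h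
        exact ⟨B', h1, h3, h4, Or.inr (by omega)⟩
  obtain ⟨B, hBA, -, hP, hor⟩ := key A.card
  rcases hor with rfl | h
  · exact hP
  · exact absurd (Finset.card_le_card hBA) (by omega)

lemma exists_stable (hconn : LabGraph.Connected ends) (b : ℤ) (h₁ : (∑ v : V, φ v) = (b : ℝ))
    (hnd : Nondegenerate ends φ) {S : Finset V} (hS : IsElementary ends S) :
    ∃ (m : V → ℤ) (N : Finset E), totDeg m N = b ∧ IsStable ends φ m N ∧ F ends φ m N S < 1 := by
  classical
  obtain ⟨hS1, hS2⟩ := hS
  rw [connected_indEnds] at hS1 hS2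
  obtain ⟨a, ha⟩ := hS1.1
  obtain ⟨c, hc⟩ := hS2.1
  obtain ⟨r₁, r₂, hr₁, hr₂, e₀, he₀⟩ : ∃ x y, x ∈ S ∧ y ∈ Sᶜ ∧ LabGraph.Adj ends x y := by
    have hp := hconn.2 a c
    rw [Finset.mem_compl] at hc
    induction hp with
    | refl => exact absurd ha hc
    | @tail x y _ hxy ih =>
      by_cases hx : x ∈ S
      · exact ⟨x, y, hx, Finset.mem_compl.2 hc, hxy⟩
      · exact ih hx
  obtain ⟨T₁, hT₁, hf₁⟩ := grow ends hS1 hr₁
  obtain ⟨T₂, hT₂, hf₂⟩ := grow ends hS2 hr₂
  have hr : r₁ ≠ r₂ := fun h => Finset.mem_compl.1 hr₂ (h ▸ hr₁)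
  have hcut : ∀ e, e ∈ inner ends S ∨ e ∈ inner ends Sᶜ → ind S (ends e).1 = ind S (ends e).2 := by
    intro e he
    simp only [PhiStab.inner, Finset.mem_filter, Finset.mem_univ, true_and, Finset.mem_compl] at he
    rcases he with ⟨h1, h2⟩ | ⟨h1, h2⟩ <;> simp [ind, h1, h2]
  let T : Finset E := insert e₀ (T₁ ∪ T₂)
  let N : Finset E := Finset.univ \ T
  let ψ : V → ℝ := fun v => φ v - ∑ e : E, if e ∈ T then 0 else
    ((if (ends e).1 = v then (1 : ℝ) else 0) + (if (ends e).2 = v then 1 else 0)) / 2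
  have he₀1 : e₀ ∉ inner ends S := fun h => by
    simp only [PhiStab.inner, Finset.mem_filter, Finset.mem_univ, true_and] at h
    rcases he₀ with he | he <;> rw [he] at h
    · exact Finset.mem_compl.1 hr₂ h.2
    · exact Finset.mem_compl.1 hr₂ h.1
  have he₀2 : e₀ ∉ inner ends Sᶜ := fun h => by
    simp only [PhiStab.inner, Finset.mem_filter, Finset.mem_univ, true_and, Finset.mem_compl] at h
    rcases he₀ with he | he <;> rw [he] at h
    · exact h.1 hr₁
    · exact h.2 hr₁
  obtain ⟨f₂, hf₂1, hf₂2, hf₂3⟩ := hf₂ ψ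
  obtain ⟨f₁, hf₁1, hf₁2, hf₁3⟩ := hf₁ ψ
  set s : ℝ := (if (ends e₀).1 = r₂ then 1 else 0) - (if (ends e₀).2 = r₂ then 1 else 0)
  have hs : s = 1 ∨ s = -1 := by rcases he₀ with he | he <;> simp [s, he, hr]
  set w := ψ r₂ + bd ends f₂ r₂
  set δ : ℝ := s * ((round w : ℝ) - w)
  set f : E → ℝ := f₁ + f₂ + Pi.single e₀ δ
  have hbd₁ : ∀ v, v ∉ S → bd ends f₁ v = 0 := fun v hv => bd_eq_zero ends (fun e he => hT₁ (hf₁2 e he)) hv
  have hbd₂ : ∀ v, v ∈ S → bd ends f₂ v = 0 := fun v hv => bd_eq_zero ends (fun e he => hT₂ (hf₂2 e he))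
    (fun h => Finset.mem_compl.1 h hv)
  have hbd₀ : ∀ v, v ≠ r₁ → v ≠ r₂ → bd ends (Pi.single e₀ δ) v = 0 := by
    intro v h1 h2
    rw [bd_single]
    rcases he₀ with he | he <;> simp [he, h1.symm, h2.symm]
  have hint : ∀ v, v ≠ r₁ → ∃ z : ℤ, ψ v + bd ends f v = z := by
    intro v hv
    by_cases hvS : v ∈ S
    · obtain ⟨z, hz⟩ := hf₁3 v hvS hv
      refine ⟨z, ?_⟩
      rw [bd_add, bd_add, hbd₂ v hvS, hbd₀ v hv (fun h => Finset.mem_compl.1 hr₂ (h ▸ hvS))]
      linarith
    · by_cases hv2 : v = r₂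
      · subst hv2
        refine ⟨round w, ?_⟩
        rw [bd_add, bd_add, hbd₁ v hvS, bd_single]
        change ψ v + (0 + bd ends f₂ v + δ * s) = _
        rcases hs with h | h <;> simp only [δ, w, h] <;> ring
      · obtain ⟨z, hz⟩ := hf₂3 v (Finset.mem_compl.2 hvS) hv2
        refine ⟨z, ?_⟩
        rw [bd_add, bd_add, hbd₁ v hvS, hbd₀ v hv hv2]
        linarith
  have hsumψ : ∑ v, ψ v = ((b - N.card : ℤ) : ℝ) := by
    simp only [ψ, Finset.sum_sub_distrib, h₁]
    rw [Finset.sum_comm]
    push_cast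
    congr 1
    have : (N.card : ℝ) = ∑ e : E, if e ∈ T then (0 : ℝ) else 1 := by
      rw [Finset.sum_ite, Finset.sum_const_zero, zero_add, Finset.sum_const, nsmul_eq_mul, mul_one]
      congr 2; ext e; simp [N]
    rw [this]
    refine Finset.sum_congr rfl fun e _ => ?_
    split_ifs with he
    · simp
    · rw [← Finset.sum_div, Finset.sum_add_distrib, Finset.sum_ite_eq, Finset.sum_ite_eq]
      simp
  have hint' : ∀ v, ∃ z : ℤ, ψ v + bd ends f v = z := by
    intro v
    by_cases hv : v = r₁
    · subst hv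
      have hsum : ∑ x, (ψ x + bd ends f x) = ((b - N.card : ℤ) : ℝ) := by
        rw [Finset.sum_add_distrib, sum_bd, hsumψ]
        simp [ind]
      choose z hz using fun x : {x // x ∈ Finset.univ.erase v} => hint x.1 (Finset.ne_of_mem_erase x.2)
      refine ⟨(b - N.card) - ∑ x ∈ (Finset.univ.erase v).attach, z x, ?_⟩
      rw [← Finset.add_sum_erase _ _ (Finset.mem_univ v),
        ← Finset.sum_attach (Finset.univ.erase v)] at hsum
      push_cast at hsum ⊢
      rw [Finset.sum_congr rfl fun x _ => hz x] at hsum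
      linarith
    · exact hint v hv
  choose m hm using hint'
  have htot : totDeg m N = b := by
    have : ((∑ v, m v : ℤ) : ℝ) = ((b - N.card : ℤ) : ℝ) := by
      push_cast
      rw [← Finset.sum_congr rfl fun v _ => hm v, Finset.sum_add_distrib, sum_bd, hsumψ]
      simp [ind]
    have h2 := Int.cast_injective this
    rw [totDeg, h2]; ring
  have hfb : ∀ e, |f e| ≤ 1 / 2 ∧ (f e ≠ 0 → e ∈ T) := by
    intro e
    by_cases h : e = e₀
    · subst h
      have h1 : f₁ e = 0 := by by_contra h; exact he₀1 (hT₁ (hf₁2 e h))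
      have h2 : f₂ e = 0 := by by_contra h; exact he₀2 (hT₂ (hf₂2 e h))
      refine ⟨?_, fun _ => Finset.mem_insert_self _ _⟩
      simp only [f, Pi.add_apply, h1, h2, Pi.single_eq_same, zero_add, δ, abs_mul]
      have habs : |s| = 1 := by rcases hs with h | h <;> simp [h]
      rw [habs, one_mul, abs_sub_comm]
      exact abs_sub_round w
    · simp only [f, Pi.add_apply, Pi.single_eq_of_ne h, add_zero]
      by_cases h1 : f₁ e = 0
      · rw [h1, zero_add]
        exact ⟨hf₂1 e, fun h2 => Finset.mem_insert_of_mem (Finset.mem_union_right _ (hf₂2 e h2))⟩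
      · have h2 : f₂ e = 0 := by
          by_contra h2
          have a1 := hT₁ (hf₁2 e h1)
          have a2 := hT₂ (hf₂2 e h2)
          simp only [PhiStab.inner, Finset.mem_filter, Finset.mem_univ, true_and, Finset.mem_compl] at a1 a2
          exact a2.1 a1.1
        rw [h2, add_zero]
        exact ⟨hf₁1 e, fun _ => Finset.mem_insert_of_mem (Finset.mem_union_left _ (hf₁2 e h1))⟩
  have hF : ∀ U, F ends φ m N U = ∑ e : E, (if e ∈ T then
      f e * (ind U (ends e).1 - ind U (ends e).2) +
        (ind U (ends e).1 + ind U (ends e).2 - 2 * (ind U (ends e).1 * ind U (ends e).2)) / 2 else 0) := by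
    intro U
    have hsψ : ∑ v ∈ U, ψ v = ∑ v ∈ U, φ v - ∑ e : E, (if e ∈ T then 0 else (ind U (ends e).1 + ind U (ends e).2) / 2) := by
      simp only [ψ, Finset.sum_sub_distrib]
      rw [Finset.sum_comm]
      congr 1
      refine Finset.sum_congr rfl fun e _ => ?_
      split_ifs with he
      · simp
      · rw [← Finset.sum_div, Finset.sum_add_distrib, Finset.sum_ite_eq, Finset.sum_ite_eq]
        rfl
    rw [F_eq, Finset.sum_congr rfl fun v _ => show ((m v : ℝ) - φ v) = ψ v + bd ends f v - φ v by rw [hm v],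
      Finset.sum_sub_distrib, Finset.sum_add_distrib, sum_bd, hsψ]
    rw [show ∀ a b c d : ℝ, a - b + c - a + d = (-b + c) + d from fun a b c d => by ring,
      ← Finset.sum_neg_distrib, ← Finset.sum_add_distrib, ← Finset.sum_add_distrib]
    refine Finset.sum_congr rfl fun e _ => ?_
    by_cases he : e ∈ T
    · have : e ∉ N := by simp [N, he]
      simp only [if_pos he, if_neg this]; ring
    · have : e ∈ N := by simp [N, he]
      have hf0 : f e = 0 := by by_contra h; exact he ((hfb e).2 h)
      simp only [if_neg he, if_pos this, hf0]; ring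
  have hss : IsSemistable ends φ m N := by
    intro U _ _
    have h0 : 0 ≤ F ends φ m N U := by
      rw [hF]
      refine Finset.sum_nonneg fun e _ => ?_
      split_ifs with he
      · have := abs_le.1 (hfb e).1
        simp only [ind]
        split_ifs <;> linarith
      · exact le_rfl
    rw [F] at h0
    linarith
  have hst := hnd m N (by rw [h₁, htot]) hss
  refine ⟨m, N, htot, hst, ?_⟩
  have hScne : Sᶜ ≠ Finset.univ := fun h => by
    have := h ▸ Finset.mem_univ a
    exact Finset.mem_compl.1 this ha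
  have hpos := hst Sᶜ hS2.1 hScne
  have hpos' : 0 < F ends φ m N Sᶜ := by rw [F]; linarith
  rw [F_compl ends φ m N S (by rw [htot, h₁])] at hpos'
  refine lt_of_lt_of_le (sub_pos.1 hpos') (le_of_eq ?_)
  rw [Finset.sum_eq_single e₀ (fun e _ he => ?_) (by simp)]
  · have : e₀ ∉ N := by simp [N, T]
    rw [if_neg this, mul_one]
    simp only [ind]
    rcases he₀ with he | he <;> rw [he] <;> simp [hr₁, Finset.mem_compl.1 hr₂]
  · by_cases heN : e ∈ N
    · rw [if_pos heN, mul_zero]
    · have heT : e ∈ T := by simpa [N] using heN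
      have heq : ind S (ends e).1 = ind S (ends e).2 := by
        rcases Finset.mem_insert.1 heT with h | h
        · exact absurd h he
        · exact hcut e ((Finset.mem_union.1 h).imp (fun h => hT₁ h) (fun h => hT₂ h))
      rw [heq]
      simp only [ind]
      split_ifs <;> norm_num

omit φ m N in
theorem main (hconn : LabGraph.Connected ends) (b : ℤ) (φ₁ φ₂ : V → ℝ) (h₁ : (∑ v : V, φ₁ v) = (b : ℝ))
    (h₂ : (∑ v : V, φ₂ v) = (b : ℝ)) (hnd : Nondegenerate ends φ₁) :
    (∀ (m : V → ℤ) (N : Finset E), totDeg m N = b → IsStable ends φ₁ m N → IsSemistable ends φ₂ m N) ↔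
      InClosedPolytope ends φ₁ φ₂ := by
  classical
  have hne : ∀ S : Finset V, IsElementary ends S → S.Nonempty ∧ S ≠ Finset.univ := by
    intro S hS
    obtain ⟨⟨v, hv⟩⟩ := hS.1.1
    obtain ⟨⟨w, hw⟩⟩ := hS.2.1
    exact ⟨⟨v, hv⟩, fun h => Finset.mem_compl.1 hw (h ▸ Finset.mem_univ w)⟩
  constructor
  · intro h S hS d hd
    obtain ⟨m, N, htot, hst, hlt⟩ := exists_stable ends φ₁ hconn b h₁ hnd hS
    have hss := h m N htot hst S (hne S hS).1 (hne S hS).2
    have hle : degOn ends m N S ≤ d := by
      by_contra hcon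
      have h3 : (d : ℝ) + 1 ≤ (degOn ends m N S : ℝ) := by exact_mod_cast (by omega : d + 1 ≤ degOn ends m N S)
      simp only [F] at hlt
      simp only [ell] at hd
      linarith
    have hle' : (degOn ends m N S : ℝ) ≤ d := by exact_mod_cast hle
    simp only [ell]
    linarith
  · intro h m N htot hst S hS hS'
    have hkey : ∀ T, IsElementary ends T → 0 ≤ F ends φ₂ m N T := by
      intro T hT
      have h3 := hst T (hne T hT).1 (hne T hT).2
      have h4 := h T hT (degOn ends m N T) (by simp only [ell]; linarith)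
      simp only [ell] at h4
      simp only [F]
      linarith
    have := semistable_of_elementary ends φ₂ m N hconn (by rw [htot, h₂]) hkey S hS hS'
    simp only [F] at this
    linarith

end Groth.Agent.H95.Polytope
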