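import Groth.Agent.S16000
import Groth.Prelude.Def_W4c1imperftorsorsPerf
import Mathlib.RingTheory.Finiteness.Projective
import Mathlib.RingTheory.Polynomial.Quotient

/-!
# Preperfections
-/

set_option autoImplicit false
open scoped TensorProduct
open W4c1imperftorsors
universe u

namespace Groth.Agent.H95.PrePerf

variable (p : ℕ) [Fact p.Prime] (R : Type u) [CommRing R] [CharP R p]

section
variable (A : Type u) [CommRing A] [Algebra R A] [CharP A p]

lemma mem_iff (x : Π i, Twist p R A i) :
    x ∈ prePerf p R A ↔ ∀ i, relFrob p R A i (x (i + 1)) = x i := by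
  simp [prePerf, Algebra.mem_iInf, AlgHom.mem_equalizer]

theorem injective (M : Type u) [AddCommGroup M] [Module R M] [Module.Projective R M] :
    Function.Injective
      (LinearMap.pi fun i : ℕ =>
        LinearMap.lTensor M
          (((Pi.evalAlgHom R (fun k => Twist p R A k) i).comp (prePerf p R A).val).toLinearMap) :
        M ⊗[R] ↥(prePerf p R A) →ₗ[R] (Π i : ℕ, M ⊗[R] Twist p R A i)) := by
  refine (injective_iff_map_eq_zero _).2 fun z hz => ?_
  have hv : Function.Injective ((prePerf p R A).val.toLinearMap.lTensor M) :=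
    Module.Flat.lTensor_preserves_injective_linearMap _ Subtype.val_injective
  apply hv
  rw [map_zero]
  refine Groth.Agent.S16000.injective_lTensor_pi M (fun i => Twist p R A i) _ fun i => ?_
  rw [← LinearMap.comp_apply, ← LinearMap.lTensor_comp]
  exact congrFun hz i

theorem mem_range_iff (M : Type u) [AddCommGroup M] [Module R M] [Module.Finite R M]
    [Module.Projective R M] (y : Π i : ℕ, M ⊗[R] Twist p R A i) :
    y ∈ LinearMap.range
        (LinearMap.pi fun i : ℕ =>
        LinearMap.lTensor M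
          (((Pi.evalAlgHom R (fun k => Twist p R A k) i).comp (prePerf p R A).val).toLinearMap) :
        M ⊗[R] ↥(prePerf p R A) →ₗ[R] (Π i : ℕ, M ⊗[R] Twist p R A i)) ↔
      ∀ i : ℕ, LinearMap.lTensor M (relFrob p R A i).toLinearMap (y (i + 1)) = y i := by
  classical
  constructor
  · rintro ⟨x, rfl⟩ i
    simp only [LinearMap.pi_apply]
    rw [← LinearMap.comp_apply, ← LinearMap.lTensor_comp]
    congr 2
    ext z
    exact (mem_iff p R A _).1 z.2 i
  · intro hy
    obtain ⟨n, π, s, -, -, hπs⟩ := Module.Finite.exists_comp_eq_id_of_projective R M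
    let φ : Fin n → (M →ₗ[R] R) := fun j => (LinearMap.proj j).comp s
    let z : Fin n → (Π i, Twist p R A i) := fun j i =>
      TensorProduct.lid R _ ((φ j).rTensor _ (y i))
    have hz : ∀ j, z j ∈ prePerf p R A := fun j => (mem_iff p R A _).2 fun i => by
      simp only [z]
      rw [← hy i]
      generalize y (i + 1) = w
      induction w using TensorProduct.induction_on with
      | zero => simp
      | tmul a b => simp
      | add a b ha hb => simp only [map_add, ha, hb]
    refine ⟨∑ j, π (Pi.single j 1) ⊗ₜ[R] (⟨z j, hz j⟩ : prePerf p R A), funext fun i => ?_⟩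
    simp only [LinearMap.pi_apply, map_sum, LinearMap.lTensor_tmul]
    change ∑ j, π (Pi.single j 1) ⊗ₜ[R] z j i = y i
    simp only [z]
    generalize y i = w
    induction w using TensorProduct.induction_on with
    | zero => simp
    | tmul a b =>
      simp only [LinearMap.rTensor_tmul, TensorProduct.lid_tmul, TensorProduct.tmul_smul,
        TensorProduct.smul_tmul', ← TensorProduct.sum_tmul, ← map_smul, ← map_sum, φ,
        LinearMap.coe_comp, Function.comp_apply, LinearMap.proj_apply]
      rw [← pi_eq_sum_univ' (s a)]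
      exact congrArg (· ⊗ₜ[R] b) (LinearMap.congr_fun hπs a)
    | add a b ha hb => simp only [map_add, TensorProduct.tmul_add, Finset.sum_add_distrib, ha, hb]

end

/-! ### The example `R[α]/(uα, α² - v²)` -/

open Polynomial

/-- The ideal `(uα, α² - c)`. -/
noncomputable abbrev ideal (u c : R) : Ideal R[X] := Ideal.span {(C u * X : R[X]), X ^ 2 - C c}

variable {R}

omit [Fact p.Prime] [CharP R p] in
lemma eq_zero_and_mem_of_mem {u c a b : R} (huc : u * c = 0)
    (h : C a + C b * X ∈ ideal R u c) : a = 0 ∧ b ∈ Ideal.span {u} := by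
  nontriviality R
  obtain ⟨f, g, hfg⟩ := Ideal.mem_span_pair.1 h
  set e : R := b - u * f.coeff 0
  have h1 : C a + C e * X = (X ^ 2 - C c) * (C u * f.divX + g) := by
    have hC : C u * C c = 0 := by rw [← map_mul, huc, map_zero]
    simp only [e, map_sub, map_mul]
    linear_combination -hfg - (X * C u) * X_mul_divX_add f + f.divX * hC
  have hm : (X ^ 2 - C c : R[X]).Monic := monic_X_pow_sub_C c two_ne_zero
  have hdeg : (C a + C e * X).natDegree < (X ^ 2 - C c : R[X]).natDegree := by
    rw [natDegree_X_pow_sub_C, add_comm]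
    exact natDegree_linear_le.trans_lt one_lt_two
  have h2 : C u * f.divX + g = 0 := by
    by_contra hne
    rw [h1, hm.natDegree_mul' hne] at hdeg
    omega
  rw [h2, mul_zero] at h1
  have ha := congrArg (fun q => coeff q 0) h1
  have he := congrArg (fun q => coeff q 1) h1
  simp at ha he
  exact ⟨ha, Ideal.mem_span_singleton.2 ⟨f.coeff 0, by linear_combination sub_eq_zero.1 he⟩⟩

variable (R) in
/-- The algebra. -/
abbrev B (u v : R) : Type u := R[X] ⧸ ideal R u (v ^ 2)

/-- `α`. -/
noncomputable abbrev α (u v : R) : B R u v := Ideal.Quotient.mk _ X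

omit [Fact p.Prime] [CharP R p] in
lemma exists_coords {u v : R} (x : B R u v) :
    ∃ a b : R, algebraMap R _ a + algebraMap R _ b * α u v = x := by
  obtain ⟨q, rfl⟩ := Ideal.Quotient.mk_surjective x
  induction q using Polynomial.induction_on with
  | C a => exact ⟨a, 0, by simp; rfl⟩
  | add f g hf hg =>
    obtain ⟨a, b, hab⟩ := hf
    obtain ⟨a', b', hab'⟩ := hg
    exact ⟨a + a', b + b', by rw [map_add, map_add, map_add, ← hab, ← hab']; ring⟩
  | monomial n a h =>
    obtain ⟨c, d, hcd⟩ := h
    refine ⟨d * v ^ 2, c, ?_⟩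
    have h2 : (α u v) ^ 2 = algebraMap R _ (v ^ 2) := by
      refine Eq.trans (map_pow _ _ _).symm (Ideal.Quotient.eq.2 ?_)
      exact Ideal.subset_span (Set.mem_insert_of_mem _ rfl)
    rw [pow_succ X n, ← mul_assoc, map_mul (Ideal.Quotient.mk _), ← hcd, map_mul]
    linear_combination (-algebraMap R (B R u v) d) * h2

omit [Fact p.Prime] [CharP R p] in
lemma u_mul_alpha (u v : R) : algebraMap R (B R u v) u * α u v = 0 := by
  change Ideal.Quotient.mk _ (C u) * Ideal.Quotient.mk _ X = 0
  rw [← map_mul]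
  refine Ideal.Quotient.eq_zero_iff_mem.2 ?_
  exact Ideal.subset_span (Set.mem_insert _ _)

omit [Fact p.Prime] [CharP R p] in
lemma alpha_sq (u v : R) : (α u v) ^ 2 = algebraMap R (B R u v) (v ^ 2) := by
  refine Eq.trans (map_pow _ _ _).symm (Ideal.Quotient.eq.2 ?_)
  exact Ideal.subset_span (Set.mem_insert_of_mem _ rfl)

variable {u v : R}

/-- Coordinates in the twist. -/
noncomputable def el (i : ℕ) (a b : R) : Twist p R (B R u v) i :=
  algebraMap R _ a + b ⊗ₜ[Src p R i] (aEquiv p R (B R u v) i).symm (α u v)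

lemma algebraMap_twist (i : ℕ) (a : R) :
    algebraMap R (Twist p R (B R u v) i) a = a ⊗ₜ[Src p R i] 1 := rfl

lemma tmul_scalar (i : ℕ) (r a : R) (x : B R u v) :
    r ⊗ₜ[Src p R i] (aEquiv p R (B R u v) i).symm (algebraMap R _ a * x) =
      (r * a ^ p ^ i) ⊗ₜ[Src p R i] (aEquiv p R (B R u v) i).symm x := by
  have h : (aEquiv p R (B R u v) i).symm (algebraMap R _ a * x) =
      (srcEquiv p R i).symm a • (aEquiv p R (B R u v) i).symm x := by
    rw [Algebra.smul_def, map_mul, algebraMap_aSrc, RingEquiv.apply_symm_apply]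
  rw [h, ← TensorProduct.smul_tmul]
  congr 1
  rw [Algebra.smul_def, algebraMap_src, RingEquiv.apply_symm_apply, mul_comm]

lemma exists_el (i : ℕ) (x : Twist p R (B R u v) i) : ∃ a b, el p i a b = x := by
  induction x using TensorProduct.induction_on with
  | zero => exact ⟨0, 0, by simp [el]⟩
  | tmul r y =>
    obtain ⟨c, d, hcd⟩ := exists_coords (aEquiv p R (B R u v) i y)
    refine ⟨r * c ^ p ^ i, r * d ^ p ^ i, ?_⟩
    have hy : y = (aEquiv p R (B R u v) i).symm (algebraMap R _ c * 1 + algebraMap R _ d * α u v) := by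
      rw [mul_one, hcd, RingEquiv.symm_apply_apply]
    rw [hy, map_add, TensorProduct.tmul_add, tmul_scalar, tmul_scalar, map_one]
    rfl
  | add x y hx hy =>
    obtain ⟨a, b, rfl⟩ := hx
    obtain ⟨a', b', rfl⟩ := hy
    exact ⟨a + a', b + b', by simp only [el, map_add, TensorProduct.add_tmul]; abel⟩

lemma el_unique (huv : u * v = 0) (i : ℕ) {a b : R} (h : el (u := u) (v := v) p i a b = 0) :
    a = 0 ∧ b ∈ Ideal.span {u ^ p ^ i} := by
  have hq : 0 < p ^ i := pow_pos (Fact.out : p.Prime).pos i
  set I' := ideal R (u ^ p ^ i) ((v ^ p ^ i) ^ 2)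
  have huc : u ^ p ^ i * (v ^ p ^ i) ^ 2 = 0 := by
    rw [sq, ← mul_assoc, ← mul_pow, huv, zero_pow hq.ne', zero_mul]
  let fC : R →+* R[X] ⧸ I' := (Ideal.Quotient.mk I').comp (C.comp (iterateFrobenius R p i))
  let φ₀ : B R u v →+* R[X] ⧸ I' := Ideal.Quotient.lift _
    (Polynomial.eval₂RingHom fC (Ideal.Quotient.mk I' X)) (by
      change ideal R u (v ^ 2) ≤ RingHom.ker _
      rw [Ideal.span_le]
      rintro _ (rfl | rfl) <;> rw [SetLike.mem_coe, RingHom.mem_ker] <;>
        simp only [coe_eval₂RingHom, eval₂_mul, eval₂_sub, eval₂_C, eval₂_X, eval₂_pow, fC,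
          RingHom.comp_apply, iterateFrobenius_def]
      · rw [← map_mul]
        exact Ideal.Quotient.eq_zero_iff_mem.2 (Ideal.subset_span (Set.mem_insert _ _))
      · rw [← map_pow, ← map_sub, pow_right_comm]
        exact Ideal.Quotient.eq_zero_iff_mem.2
          (Ideal.subset_span (Set.mem_insert_of_mem _ rfl)))
  let ψ : ASrc p R (B R u v) i →ₐ[Src p R i] R[X] ⧸ I' :=
    { toRingHom := φ₀.comp (aEquiv p R (B R u v) i : ASrc p R (B R u v) i →+* B R u v)
      commutes' := fun s => by
        change φ₀ (Ideal.Quotient.mk _ (C (srcEquiv p R i s))) = _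
        simp only [φ₀, Ideal.Quotient.lift_mk, coe_eval₂RingHom, eval₂_C, fC]
        rfl }
  let Φ := Algebra.TensorProduct.lift
    (IsScalarTower.toAlgHom (Src p R i) R (R[X] ⧸ I')) ψ (fun _ _ => Commute.all _ _)
  have hψ : ψ ((aEquiv p R (B R u v) i).symm (α u v)) = Ideal.Quotient.mk I' X := by
    change φ₀ (Ideal.Quotient.mk _ X) = _
    simp [φ₀]
  have h' := congrArg Φ h
  rw [map_zero, el, map_add, algebraMap_twist] at h'
  simp only [Φ, Algebra.TensorProduct.lift_tmul, map_one, mul_one, hψ,
    IsScalarTower.toAlgHom_apply] at h'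
  exact eq_zero_and_mem_of_mem huc
    (Ideal.Quotient.eq_zero_iff_mem.1 (by rw [map_add, map_mul]; exact h'))

lemma alpha_pow_odd (k : ℕ) : (α u v) ^ (2 * k + 1) = algebraMap R (B R u v) (v ^ (2 * k)) * α u v := by
  rw [pow_succ, pow_mul, alpha_sq, ← map_pow, ← pow_mul]

lemma relFrob_el [CharP (B R u v) p] (hp : p ≠ 2) (i : ℕ) (a b : R) :
    relFrob p R (B R u v) i (el p (i + 1) a b) = el p i a (b * v ^ ((p - 1) * p ^ i)) := by
  rw [el, map_add, AlgHom.commutes, el]
  congr 1
  change relFrobAux p R (B R u v) i (b ⊗ₜ[Src p R (i + 1)] _) = _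
  rw [relFrobAux, Algebra.TensorProduct.lift_tmul]
  change (b ⊗ₜ[Src p R i] 1) * (1 ⊗ₜ[Src p R i] (aEquiv p R (B R u v) i).symm
    (frobenius (B R u v) p (α u v))) = _
  obtain ⟨k, hk⟩ := ((Fact.out : p.Prime).odd_of_ne_two hp)
  have hα : (α u v) ^ p = algebraMap R (B R u v) (v ^ (p - 1)) * α u v := by
    rw [show p - 1 = 2 * k by omega, ← alpha_pow_odd k]
    exact congrArg ((α u v) ^ ·) hk
  rw [Algebra.TensorProduct.tmul_mul_tmul, mul_one, one_mul, frobenius_def, hα,
    tmul_scalar, ← pow_mul]

theorem bijective (hp : p ≠ 2) (huv : u * v = 0)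
    (hsep : ∀ N : ℕ, 1 ≤ N → ∀ g : R,
      (∀ n : ℕ, g ∈ Ideal.span {v ^ n} ⊔ Ideal.span {u ^ N}) → g ∈ Ideal.span {u ^ N})
    [CharP (B R u v) p] :
    Function.Bijective (algebraMap R ↥(prePerf p R (B R u v))) := by
  refine ⟨(injective_iff_map_eq_zero _).2 fun r hr => ?_, fun x => ?_⟩
  · have h : el (u := u) (v := v) p 0 r 0 = 0 := by
      rw [el, TensorProduct.zero_tmul, add_zero]
      exact congrFun (congrArg Subtype.val hr) 0
    exact (el_unique p huv 0 h).1
  · choose a b hab using fun i => exists_el p i (x.1 i)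
    have hrel : ∀ i, a (i + 1) = a i ∧
        b (i + 1) * v ^ ((p - 1) * p ^ i) - b i ∈ Ideal.span {u ^ p ^ i} := by
      intro i
      have h := (mem_iff p R (B R u v) x.1).1 x.2 i
      rw [← hab (i + 1), ← hab i, relFrob_el p hp] at h
      have h0 : el (u := u) (v := v) p i (a (i + 1) - a i) (b (i + 1) * v ^ ((p - 1) * p ^ i) - b i) = 0 := by
        rw [el, map_sub, TensorProduct.sub_tmul]
        simp only [el] at h
        linear_combination h
      exact ⟨sub_eq_zero.1 (el_unique p huv i h0).1, (el_unique p huv i h0).2⟩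
    have hchain : ∀ m i, b i ∈ Ideal.span {v ^ m} ⊔ Ideal.span {u ^ p ^ i} := by
      intro m
      induction m with
      | zero => intro i; simp
      | succ m ih =>
        intro i
        obtain ⟨y, hy, z, hz, hyz⟩ := Submodule.mem_sup.1 (ih (i + 1))
        have hpos : 1 ≤ (p - 1) * p ^ i :=
          Nat.one_le_iff_ne_zero.2 (mul_ne_zero (by have := (Fact.out : p.Prime).two_le; omega)
            (pow_ne_zero _ (Fact.out : p.Prime).ne_zero))
        have h1 : b (i + 1) * v ^ ((p - 1) * p ^ i) ∈ Ideal.span {v ^ (m + 1)} ⊔ Ideal.span {u ^ p ^ i} := by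
          rw [← hyz, add_mul]
          refine Submodule.add_mem_sup ?_ ?_
          · rw [Ideal.mem_span_singleton] at hy ⊢
            rw [pow_succ]
            exact mul_dvd_mul hy (dvd_pow_self v (by omega))
          · rw [Ideal.mem_span_singleton] at hz ⊢
            exact ((pow_dvd_pow u (Nat.pow_le_pow_right (Fact.out : p.Prime).pos (Nat.le_succ i))).trans hz).mul_right _
        have h2 := sub_mem h1 (Submodule.mem_sup_right (hrel i).2)
        simpa using h2
    have ha : ∀ i, a i = a 0 := fun i => by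
      induction i with
      | zero => rfl
      | succ i ih => rw [(hrel i).1, ih]
    refine ⟨a 0, Subtype.ext (funext fun i => ?_)⟩
    obtain ⟨c, hc⟩ := Ideal.mem_span_singleton.1
      (hsep (p ^ i) (Nat.one_le_pow _ _ (Fact.out : p.Prime).pos) (b i) fun m => hchain m i)
    rw [← hab i, el, ha i]
    change algebraMap R (Twist p R (B R u v) i) (a 0) = _
    rw [left_eq_add, hc, mul_comm, ← tmul_scalar, u_mul_alpha, map_zero, TensorProduct.tmul_zero]

end Groth.Agent.H95.PrePerf
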