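import Mathlib

/-!
# Vanishing of the Schur multiplier with values in a separably closed field
-/

open CategoryTheory groupCohomology

namespace Groth.Agent.H95.SchurVanish

variable {Q : Type} [Group Q]

/-- A cocycle for the trivial action, multiplied by the order of the group, is a coboundary. -/
lemma card_smul_eq [Fintype Q] {V : Type*} [AddCommGroup V] (c : Q → Q → V)
    (hc : ∀ a b x, c (a * b) x + c a b = c b x + c a (b * x)) (a b : Q) :
    (Fintype.card Q) • c a b = (∑ x, c a x) + (∑ x, c b x) - ∑ x, c (a * b) x := by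
  have h := Finset.sum_congr (s₁ := (Finset.univ : Finset Q)) rfl (fun x _ => hc a b x)
  rw [Finset.sum_add_distrib, Finset.sum_add_distrib, Finset.sum_const, Finset.card_univ,
    Fintype.sum_equiv (Equiv.mulLeft b) (fun x => c a (b * x)) (fun x => c a x) (fun _ => rfl)] at h
  rw [eq_sub_iff_add_eq, add_comm (Fintype.card Q • c a b), h, add_comm]

variable (Q)

lemma main [Finite Q]
    (hQ : Subsingleton (groupCohomology (Rep.trivial ℤ Q ℤ) 3)) (k : Type) [Field k] [IsSepClosed k]
    (p : ℕ) [CharP k p] (hp : ¬ p ∣ Nat.card Q) :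
    Subsingleton (groupCohomology (Rep.trivial ℤ Q (Additive kˣ)) 2) := by
  classical
  let _ := Fintype.ofFinite Q
  set n := Fintype.card Q
  have hn : n = Nat.card Q := Nat.card_eq_fintype_card.symm
  have hn0 : n ≠ 0 := Fintype.card_ne_zero
  have hnk : (n : k) ≠ 0 := fun h => hp (hn ▸ (CharP.cast_eq_zero_iff k p n).1 h)
  have : NeZero (n : k) := ⟨hnk⟩
  have : NeZero n := ⟨hn0⟩
  have hdiv : ∀ v : Additive kˣ, ∃ w : Additive kˣ, n • w = v := by
    intro v
    have hsep : (Polynomial.X ^ n - Polynomial.C (v.toMul : k)).Separable :=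
      Polynomial.separable_X_pow_sub_C _ hnk v.toMul.ne_zero
    obtain ⟨r, hr⟩ := IsSepClosed.exists_root _ (by rw [Polynomial.degree_X_pow_sub_C (Nat.pos_of_ne_zero hn0)]; exact_mod_cast hn0) hsep
    have hr' : r ^ n = (v.toMul : k) := by
      simpa [Polynomial.IsRoot, sub_eq_zero] using hr
    have hr0 : r ≠ 0 := by
      rintro rfl
      rw [zero_pow hn0] at hr'
      exact v.toMul.ne_zero hr'.symm
    refine ⟨Additive.ofMul (Units.mk0 r hr0), ?_⟩
    rw [← ofMul_pow]
    exact congrArg Additive.ofMul (Units.ext (by rw [Units.val_pow_eq_pow_val]; exact hr'))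
  obtain ⟨z₀, hz₀⟩ := HasEnoughRootsOfUnity.exists_primitiveRoot k n
  have hz₁ : IsPrimitiveRoot (hz₀.toRootsOfUnity : kˣ) n := by
    rw [← IsPrimitiveRoot.coe_units_iff]; simpa using hz₀
  set ζ : Additive kˣ := Additive.ofMul (hz₀.toRootsOfUnity : kˣ)
  have hζ : n • ζ = 0 := by
    rw [← ofMul_pow, hz₁.pow_eq_one]; rfl
  have hμ : ∀ v : Additive kˣ, n • v = 0 → ∃ e : ℕ, e • ζ = v := by
    intro v hv
    have hv' : v.toMul ^ n = 1 := by
      simpa using congrArg Additive.toMul hv
    obtain ⟨e, _, he⟩ := hz₀.eq_pow_of_pow_eq_one (ξ := (v.toMul : k)) (by rw [← Units.val_pow_eq_pow_val, hv']; rfl)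
    refine ⟨e, ?_⟩
    rw [← ofMul_pow]
    exact congrArg Additive.ofMul (Units.ext (by rw [Units.val_pow_eq_pow_val, IsPrimitiveRoot.val_toRootsOfUnity_coe]; exact he))
  obtain ⟨η, hη⟩ := hdiv ζ
  have hH3 : ∀ z : (Fin 3 → Q) → ℤ, inhomogeneousCochains.d (Rep.trivial ℤ Q ℤ) 3 z = 0 →
      ∃ w, inhomogeneousCochains.d (Rep.trivial ℤ Q ℤ) 2 w = z := by
    intro z hz
    have h : (inhomogeneousCochains (Rep.trivial ℤ Q ℤ)).ExactAt 3 := by
      rw [HomologicalComplex.exactAt_iff_isZero_homology]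
      exact @ModuleCat.isZero_of_subsingleton _ _ _ hQ
    rw [HomologicalComplex.exactAt_iff' _ 2 3 4 (by simp) (by simp),
      ShortComplex.moduleCat_exact_iff] at h
    obtain ⟨w, hw⟩ := h z (by
      change ((inhomogeneousCochains (Rep.trivial ℤ Q ℤ)).d 3 4).hom z = 0
      rw [inhomogeneousCochains.d_def]
      exact hz)
    refine ⟨w, ?_⟩
    rw [← hw]
    change _ = ((inhomogeneousCochains (Rep.trivial ℤ Q ℤ)).d 2 3).hom w
    rw [inhomogeneousCochains.d_def]
  refine subsingleton_of_forall_eq 0 fun x => H2_induction_on x fun c => (H2π_eq_zero_iff c).2 ?_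
  let c₀ : Q → Q → Additive kˣ := fun a b => c (a, b)
  have hc : ∀ a b x, c₀ (a * b) x + c₀ a b = c₀ b x + c₀ a (b * x) :=
    fun a b x => (mem_cocycles₂_iff (A := Rep.trivial ℤ Q (Additive kˣ)) c).1 c.2 a b x
  choose f' hf' using fun a => hdiv (∑ x, c₀ a x)
  set c' : Q → Q → Additive kˣ := fun a b => c₀ a b - (f' a + f' b - f' (a * b))
  have hc' : ∀ a b, n • c' a b = 0 := by
    intro a b
    rw [nsmul_sub, nsmul_sub, nsmul_add, hf', hf', hf', card_smul_eq c₀ hc a b, sub_self]
  choose e he using fun a b => hμ _ (hc' a b)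
  let E : Q → Q → ℤ := fun a b => (e a b : ℤ)
  have hEζ : ∀ a b, E a b • ζ = c' a b := fun a b => by rw [natCast_zsmul]; exact he a b
  have hc'' : ∀ a b x, c' (a * b) x + c' a b = c' b x + c' a (b * x) := by
    intro a b x
    simp only [c', mul_assoc]
    linear_combination (norm := abel) hc a b x
  have hdvd : ∀ a b x, ∃ q : ℤ, E b x - E (a * b) x + E a (b * x) - E a b = n * q := by
    intro a b x
    apply (ZMod.intCast_zmod_eq_zero_iff_dvd _ n).1
    by_contra hne
    apply hne
    rw [ZMod.intCast_zmod_eq_zero_iff_dvd]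
    have h0 : (E b x - E (a * b) x + E a (b * x) - E a b) • ζ = 0 := by
      simp only [sub_smul, add_smul, hEζ]
      linear_combination (norm := abel) (-1 : ℤ) • hc'' a b x
    exact (hz₁.zpow_eq_one_iff_dvd _).1 (by simpa [ζ, ← ofMul_zpow] using h0)
  choose q hq using hdvd
  have hn0' : (n : ℤ) ≠ 0 := Int.natCast_ne_zero.2 hn0
  obtain ⟨w, hw⟩ := hH3 (fun g => q (g 0) (g 1) (g 2)) (by
    ext g
    rw [inhomogeneousCochains.d_hom_apply]
    simp [Fin.sum_univ_four, Fin.contractNth]
    apply mul_left_cancel₀ hn0'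
    simp only [mul_add, mul_neg, ← hq]
    simp [mul_assoc]
    ring_nf
    exact (mul_eq_zero_of_right _ rfl).symm)
  have hw' : ∀ a b x, w ![b, x] - w ![a * b, x] + w ![a, b * x] - w ![a, b] = q a b x := by
    intro a b x
    have h := congrFun hw ![a, b, x]
    rw [inhomogeneousCochains.d_hom_apply] at h
    simp [Fin.sum_univ_three, Fin.contractNth] at h
    have hs : (fun i : Fin 2 => ![a, b, x] i.succ) = ![b, x] := by funext i; fin_cases i <;> rfl
    have h0 : Fin.contractNth (0 : Fin 3) (· * ·) ![a, b, x] = ![a * b, x] := by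
      funext i; fin_cases i <;> rfl
    have h1 : Fin.contractNth (1 : Fin 3) (· * ·) ![a, b, x] = ![a, b * x] := by
      funext i; fin_cases i <;> rfl
    have h2 : Fin.contractNth (2 : Fin 3) (· * ·) ![a, b, x] = ![a, b] := by
      funext i; fin_cases i <;> rfl
    rw [h0, h1, h2] at h
    rw [← h]
    ring!
  set u : Q → Q → ℤ := fun a b => E a b - n * w ![a, b]
  have hu : ∀ a b x, u (a * b) x + u a b = u b x + u a (b * x) := by
    intro a b x
    simp only [u]
    linear_combination (n : ℤ) * hw' a b x - hq a b x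
  have huζ : ∀ a b, c' a b = ((∑ x, u a x) + (∑ x, u b x) - ∑ x, u (a * b) x) • η := by
    intro a b
    rw [← hEζ, ← card_smul_eq u hu a b,
      show (Fintype.card Q • u a b : ℤ) = u a b * (n : ℤ) from by rw [nsmul_eq_mul, mul_comm],
      mul_zsmul, natCast_zsmul η n, hη]
    simp only [u]
    rw [sub_zsmul, mul_comm (n : ℤ), mul_zsmul, natCast_zsmul ζ n, hζ, smul_zero]
    exact (add_neg_eq_iff_eq_add.2 (by simp)).symm
  refine ⟨fun a => f' a + (∑ x, u a x) • η, funext fun ⟨a, b⟩ => ?_⟩
  rw [d₁₂_hom_apply]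
  change f' b + _ - _ + _ = c (a, b)
  have h := huζ a b
  simp only [c', sub_smul, add_smul] at h
  linear_combination (norm := abel) (-1 : ℤ) • h

end Groth.Agent.H95.SchurVanish
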