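import Mathlib

/-! An intermediate field of a finitely generated field extension is finitely generated. -/

set_option autoImplicit false

universe u v

open IntermediateField
open scoped IntermediateField.algebraAdjoinAdjoin

namespace Groth.Agent.H95.SubfieldFG

variable {k : Type u} {L : Type v} [Field k] [Field L] [Algebra k L]

/-- An algebraic intermediate field of a finitely generated extension is finite. -/
theorem finiteDimensional_of_isAlgebraic [Algebra.EssFiniteType k L] (E : IntermediateField k L)
    [Algebra.IsAlgebraic k E] : FiniteDimensional k E := by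
  classical
  obtain ⟨s, hs⟩ := exists_isTranscendenceBasis k L
  let S := Algebra.adjoin k (Set.range ((↑) : s → L))
  let M := IntermediateField.adjoin k (Set.range ((↑) : s → L))
  haveI : Algebra.IsAlgebraic M L := hs.isAlgebraic_field
  haveI : Algebra.EssFiniteType M L := Algebra.EssFiniteType.of_comp k M L
  haveI : FiniteDimensional M L := Algebra.finite_of_essFiniteType_of_isAlgebraic
  have hindE : AlgebraicIndependent E ((↑) : s → L) := hs.1.extendScalars E
  let b := Module.Free.chooseBasis k E
  have hli : LinearIndependent S (fun i => (b i : L)) := by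
    rw [linearIndependent_iff']
    intro t g hg i hi
    have hex : ∀ j, ∃ P : MvPolynomial s k, MvPolynomial.aeval ((↑) : s → L) P = (g j : L) := fun j => by
      have := (g j).2
      rwa [← AlgHom.mem_range, ← Algebra.adjoin_range_eq_range_aeval]
    choose P hP using hex
    let Q : MvPolynomial s E := ∑ j ∈ t, MvPolynomial.C (b j) * MvPolynomial.map (algebraMap k E) (P j)
    have hQ : MvPolynomial.aeval ((↑) : s → L) Q = 0 := by
      rw [← hg]
      simp only [Q, map_sum, map_mul, MvPolynomial.aeval_C, MvPolynomial.aeval_map_algebraMap, hP]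
      exact Finset.sum_congr rfl fun j _ => by rw [Algebra.smul_def, mul_comm]; rfl
    have hQ0 : Q = 0 := hindE.eq_zero_of_aeval_eq_zero Q hQ
    have hPi : P i = 0 := by
      ext d
      have h := congrArg (MvPolynomial.coeff d) hQ0
      simp only [Q, MvPolynomial.coeff_sum, MvPolynomial.coeff_C_mul, MvPolynomial.coeff_map,
        MvPolynomial.coeff_zero] at h
      have h' : ∑ j ∈ t, MvPolynomial.coeff d (P j) • b j = 0 := by
        rw [← h]
        exact Finset.sum_congr rfl fun j _ => by rw [Algebra.smul_def, mul_comm]
      simpa using (linearIndependent_iff'.1 b.linearIndependent) t _ h' i hi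
    exact Subtype.ext (by rw [← hP i, hPi, map_zero]; rfl)
  have hliM : LinearIndependent M (fun i => (b i : L)) :=
    (LinearIndependent.iff_fractionRing S M).1 hli
  haveI := hliM.finite
  exact Module.Finite.of_basis b

/-- An intermediate field of a finitely generated field extension is finitely generated. -/
theorem fg [Algebra.EssFiniteType k L] (F : IntermediateField k L) : F.FG := by
  classical
  obtain ⟨s, hs⟩ := exists_isTranscendenceBasis k F
  let f : s → L := fun x => ((x : F) : L)
  have hf : AlgebraicIndependent k f := hs.1.map' (f := F.val) (fun _ _ h => Subtype.ext h)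
  have hfin : Finite s := by
    have h1 := hf.lift_cardinalMk_le_trdeg
    have h2 : Algebra.trdeg k L < Cardinal.aleph0 := trdeg_lt_aleph0 k L
    rw [← Cardinal.mk_lt_aleph0_iff]
    have := h1.trans_lt (Cardinal.lift_lt_aleph0.2 h2)
    simpa using this
  let F0 := IntermediateField.adjoin k (Set.range f)
  have hle : F0 ≤ F := IntermediateField.adjoin_le_iff.2 (by rintro _ ⟨x, rfl⟩; exact (x : F).2)
  haveI : Algebra.EssFiniteType F0 L := Algebra.EssFiniteType.of_comp k F0 L
  let E := IntermediateField.extendScalars hle
  haveI : Algebra.IsAlgebraic F0 E := ⟨fun z => by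
    haveI := hs.isAlgebraic_field
    let z' : F := ⟨(z : L), z.2⟩
    obtain ⟨P, hP0, hP⟩ := Algebra.IsAlgebraic.isAlgebraic (R := IntermediateField.adjoin k (Set.range ((↑) : s → F))) z'
    have hmap : ∀ y : IntermediateField.adjoin k (Set.range ((↑) : s → F)), ((y : F) : L) ∈ F0 := fun y => by
      have : ((y : F) : L) ∈ (IntermediateField.adjoin k (Set.range ((↑) : s → F))).map F.val :=
        ⟨(y : F), y.2, rfl⟩
      rwa [IntermediateField.adjoin_map, ← Set.range_comp] at this
    let φ : IntermediateField.adjoin k (Set.range ((↑) : s → F)) →+* F0 :=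
      ((F.val.toRingHom).comp (algebraMap _ F)).codRestrict F0 hmap
    refine ⟨P.map φ, (Polynomial.map_ne_zero_iff φ.injective).2 hP0, Subtype.ext ?_⟩
    have : Polynomial.eval₂ ((algebraMap F0 L).comp φ) (z : L) P = 0 := by
      have := congrArg F.val hP
      rw [Polynomial.aeval_def] at this
      rw [show (algebraMap F0 L).comp φ = F.val.toRingHom.comp (algebraMap _ F) from RingHom.ext fun _ => rfl,
        show (z : L) = F.val.toRingHom z' from rfl, ← Polynomial.hom_eval₂]
      simpa using this
    rw [ZeroMemClass.coe_zero, ← IntermediateField.coe_val, ← Polynomial.aeval_algHom_apply, Polynomial.aeval_def,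
      Polynomial.eval₂_map]
    exact this⟩
  haveI := finiteDimensional_of_isAlgebraic E
  let b := Module.Free.chooseBasis F0 E
  haveI : Fintype s := Fintype.ofFinite s
  refine ⟨(Finset.univ.image f) ∪ (Finset.univ.image fun i => (b i : L)), ?_⟩
  refine le_antisymm (IntermediateField.adjoin_le_iff.2 ?_) fun x hx => ?_
  · intro y hy
    simp only [Finset.coe_union, Finset.coe_image, Finset.coe_univ, Set.image_univ, Set.mem_union, Set.mem_range] at hy
    rcases hy with ⟨i, rfl⟩ | ⟨i, rfl⟩
    · exact (i : F).2
    · exact (b i).2
  · have h := congrArg E.val (b.sum_repr ⟨x, hx⟩)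
    simp only [map_sum, map_smul, IntermediateField.coe_val] at h
    rw [← h]
    refine IntermediateField.sum_mem _ fun i _ => ?_
    rw [Algebra.smul_def]
    refine mul_mem ?_ (IntermediateField.subset_adjoin _ _ (by simp))
    exact IntermediateField.adjoin.mono k _ _ (by simp) (b.repr ⟨x, hx⟩ i).2

end Groth.Agent.H95.SubfieldFG
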