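import Mathlib.RepresentationTheory.FDRep
import Mathlib.RepresentationTheory.Irreducible
import Mathlib.RepresentationTheory.Semisimple
import Mathlib.RepresentationTheory.Invariants
import Mathlib.FieldTheory.IsAlgClosed.Basic
import Mathlib.GroupTheory.Commutator.Basic
import Mathlib.Algebra.CharP.Defs
import Mathlib.LinearAlgebra.Dual.Basis
import Mathlib.GroupTheory.Index

/-!
# Weight one representations of a non-degenerate theta group
-/

universe u

open Representation

namespace Groth.Agent.H95.ThetaRep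

variable {k : Type u} [Field k] [IsAlgClosed k] {Γ : Type u} [Group Γ]

/-- The hypotheses on the theta group. -/
structure Theta (ι : kˣ →* Γ) : Prop where
  inj : Function.Injective ι
  cent : ι.range = Subgroup.center Γ
  comm : commutator Γ ≤ ι.range
  fin : Finite (Γ ⧸ ι.range)
  cop : (Nat.card (Γ ⧸ ι.range)).Coprime (ringExpChar k)

variable {ι : kˣ →* Γ} (hΘ : Theta ι)
include hΘ

omit [IsAlgClosed k] in
lemma central (z : kˣ) (g : Γ) : g * ι z = ι z * g := by
  have : ι z ∈ Subgroup.center Γ := hΘ.cent ▸ ⟨z, rfl⟩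
  exact Subgroup.mem_center_iff.1 this g

omit [IsAlgClosed k] in
lemma exists_e (g h : Γ) : ∃ z : kˣ, ι z = g * h * g⁻¹ * h⁻¹ :=
  hΘ.comm (Subgroup.commutator_mem_commutator (Subgroup.mem_top g) (Subgroup.mem_top h))

/-- The commutator pairing. -/
noncomputable def e (g h : Γ) : kˣ := (exists_e hΘ g h).choose

omit [IsAlgClosed k] in
lemma ι_e (g h : Γ) : ι (e hΘ g h) = g * h * g⁻¹ * h⁻¹ := (exists_e hΘ g h).choose_spec

omit [IsAlgClosed k] in
lemma e_mul_comm (g h : Γ) : g * h = ι (e hΘ g h) * (h * g) := by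
  rw [ι_e]; group

omit [IsAlgClosed k] in
lemma e_mul_left (g₁ g₂ h : Γ) : e hΘ (g₁ * g₂) h = e hΘ g₁ h * e hΘ g₂ h := by
  apply hΘ.inj
  have h1 := ι_e hΘ g₂ h
  rw [map_mul, ι_e hΘ (g₁ * g₂) h]
  calc g₁ * g₂ * h * (g₁ * g₂)⁻¹ * h⁻¹ = g₁ * (g₂ * h * g₂⁻¹ * h⁻¹) * h * g₁⁻¹ * h⁻¹ := by group
    _ = ι (e hΘ g₂ h) * (g₁ * h * g₁⁻¹ * h⁻¹) := by rw [← h1, central hΘ]; group
    _ = ι (e hΘ g₁ h) * ι (e hΘ g₂ h) := by rw [← ι_e hΘ g₁ h, ← map_mul, ← map_mul, mul_comm]

omit [IsAlgClosed k] in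
lemma e_swap (g h : Γ) : e hΘ h g = (e hΘ g h)⁻¹ := by
  apply hΘ.inj
  rw [map_inv, ι_e, ι_e]; group

omit [IsAlgClosed k] in
lemma e_mul_right (g h₁ h₂ : Γ) : e hΘ g (h₁ * h₂) = e hΘ g h₁ * e hΘ g h₂ := by
  rw [e_swap hΘ (h₁ * h₂) g, e_mul_left, mul_inv, ← e_swap hΘ h₁ g, ← e_swap hΘ h₂ g]

omit [IsAlgClosed k] in
lemma e_central_left (z : kˣ) (h : Γ) : e hΘ (ι z) h = 1 := by
  apply hΘ.inj
  rw [map_one, ι_e, ← central hΘ z h]; group

omit [IsAlgClosed k] in
lemma e_central_right (z : kˣ) (g : Γ) : e hΘ g (ι z) = 1 := by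
  rw [e_swap hΘ (ι z) g, e_central_left, inv_one]

omit [IsAlgClosed k] in
lemma mem_range_of_e (g : Γ) (h : ∀ h, e hΘ g h = 1) : g ∈ ι.range := by
  rw [hΘ.cent, Subgroup.mem_center_iff]
  intro x
  have := e_mul_comm hΘ g x
  rw [h, map_one, one_mul] at this
  exact this.symm

omit [IsAlgClosed k] in
lemma normal : ι.range.Normal := hΘ.cent ▸ inferInstance

omit [IsAlgClosed k] in
lemma card_ne_zero : ((Nat.card (Γ ⧸ ι.range)) : k) ≠ 0 := by
  have := hΘ.fin
  obtain ⟨p, hp⟩ := CharP.exists k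
  intro h
  rw [CharP.cast_eq_zero_iff k p] at h
  rcases CharP.char_is_prime_or_zero k p with hp' | rfl
  · have h2 := hΘ.cop
    rw [ringExpChar, ringChar.eq k p, max_eq_left hp'.one_le, Nat.coprime_comm,
      hp'.coprime_iff_not_dvd] at h2
    exact h2 h
  · exact Nat.card_pos.ne' (zero_dvd_iff.1 h)

omit [IsAlgClosed k] in
lemma exists_decomp (g : Γ) : ∃ z : kˣ, g = ι z * (Quotient.out (QuotientGroup.mk g : Γ ⧸ ι.range)) := by
  obtain ⟨z, hz⟩ : (Quotient.out (QuotientGroup.mk g : Γ ⧸ ι.range))⁻¹ * g ∈ ι.range := by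
    rw [← QuotientGroup.eq]
    exact Quotient.out_eq _
  exact ⟨z, by rw [← central hΘ, hz]; group⟩

omit [IsAlgClosed k] in
lemma e_out_left (g h : Γ) :
    e hΘ (Quotient.out (QuotientGroup.mk g : Γ ⧸ ι.range)) h = e hΘ g h := by
  obtain ⟨z, hz⟩ := exists_decomp hΘ g
  conv_rhs => rw [hz, e_mul_left, e_central_left, one_mul]

variable [Fintype (Γ ⧸ ι.range)]

open scoped Classical in
omit [IsAlgClosed k] in
lemma sum_e (g : Γ) :
    ∑ y : Γ ⧸ ι.range, (e hΘ y.out g : k) =
      if g ∈ ι.range then (Nat.card (Γ ⧸ ι.range) : k) else 0 := by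
  have := normal hΘ
  split_ifs with hg
  · obtain ⟨z, rfl⟩ := hg
    simp [e_central_right]
  · obtain ⟨g₀, hg₀⟩ : ∃ g₀, e hΘ g₀ g ≠ 1 := by
      by_contra hne
      push Not at hne
      exact hg (mem_range_of_e hΘ g fun h => by rw [e_swap hΘ h g, hne h, inv_one])
    have h1 : ∀ y : Γ ⧸ ι.range, (e hΘ ((g₀ : Γ ⧸ ι.range) * y).out g : k) = (e hΘ g₀ g : k) * e hΘ y.out g := by
      intro y
      conv_lhs => rw [← Quotient.out_eq y]
      change (e hΘ ((g₀ * y.out : Γ) : Γ ⧸ ι.range).out g : k) = _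
      rw [e_out_left, e_mul_left, Units.val_mul]
    have h2 := Fintype.sum_equiv (Equiv.mulLeft (g₀ : Γ ⧸ ι.range))
      (fun y => (e hΘ ((g₀ : Γ ⧸ ι.range) * y).out g : k)) (fun y => (e hΘ y.out g : k)) (fun _ => rfl)
    simp only [h1, ← Finset.mul_sum] at h2
    by_contra hne
    exact hg₀ (Units.ext (mul_right_cancel₀ hne (h2.trans (one_mul _).symm)))

variable {W : Type u} [AddCommGroup W] [Module k W] (ρ : Representation k Γ W)
  (hρ : ∀ (z : kˣ) (w : W), ρ (ι z) w = (z : k) • w)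
include hρ

omit [IsAlgClosed k] [Fintype (Γ ⧸ ι.range)] in
lemma ρ_swap (g h : Γ) : ρ g * ρ h = (e hΘ g h : k) • (ρ h * ρ g) := by
  rw [← map_mul, ← map_mul, e_mul_comm hΘ g h, map_mul ρ]
  ext w
  simp [hρ]

omit [IsAlgClosed k] [Fintype (Γ ⧸ ι.range)] in
lemma ρ_conj (g h : Γ) : ρ g * ρ h * ρ g⁻¹ = (e hΘ g h : k) • ρ h := by
  rw [ρ_swap hΘ ρ hρ, smul_mul_assoc, mul_assoc, ← map_mul ρ g g⁻¹, mul_inv_cancel, map_one, mul_one]

omit [IsAlgClosed k] in
lemma linearIndependent [Nontrivial W] :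
    LinearIndependent k (fun x : Γ ⧸ ι.range => ρ x.out) := by
  classical
  have := normal hΘ
  rw [Fintype.linearIndependent_iff]
  intro a ha x₀
  have h1 : ∑ y : Γ ⧸ ι.range, ((e hΘ y.out x₀.out)⁻¹ : kˣ).val •
      (ρ y.out * (∑ x, a x • ρ x.out) * ρ y.out⁻¹) = 0 := by simp [ha]
  simp only [Finset.mul_sum, Finset.sum_mul, mul_smul_comm, smul_mul_assoc, ρ_conj hΘ ρ hρ,
    Finset.smul_sum, smul_smul] at h1
  rw [Finset.sum_comm] at h1
  have key : ∀ x : Γ ⧸ ι.range, ∑ y : Γ ⧸ ι.range,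
      (((e hΘ y.out x₀.out)⁻¹ : kˣ).val * (a x * (e hΘ y.out x.out : k))) =
      if x = x₀ then (Nat.card (Γ ⧸ ι.range) : k) * a x else 0 := by
    intro x
    have h2 : ∀ y : Γ ⧸ ι.range, ((e hΘ y.out x₀.out)⁻¹ : kˣ).val * (a x * (e hΘ y.out x.out : k)) =
        a x * (e hΘ y.out (x₀.out⁻¹ * x.out) : k) := by
      intro y
      have h3 : e hΘ y.out x₀.out⁻¹ = (e hΘ y.out x₀.out)⁻¹ := eq_inv_of_mul_eq_one_left (by
        rw [← e_mul_right, inv_mul_cancel]
        simpa using e_central_right hΘ 1 y.out)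
      rw [e_mul_right, h3, Units.val_mul]; ring
    simp only [h2, ← Finset.mul_sum, sum_e hΘ]
    have : x₀.out⁻¹ * x.out ∈ ι.range ↔ x = x₀ := by
      rw [← QuotientGroup.eq, QuotientGroup.out_eq', QuotientGroup.out_eq', eq_comm]
    simp only [this]
    split_ifs <;> ring
  rw [Finset.sum_eq_single x₀ (fun x _ hx => by rw [← Finset.sum_smul, key x, if_neg hx, zero_smul])
    (by simp)] at h1
  rw [← Finset.sum_smul, key x₀, if_pos rfl] at h1
  refine (smul_eq_zero.1 h1).elim (fun h => (mul_eq_zero.1 h).resolve_left (card_ne_zero hΘ)) fun h => ?_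
  obtain ⟨w, hw⟩ := exists_ne (0 : W)
  have h4 := congrArg (fun φ : W →ₗ[k] W => ρ x₀.out⁻¹ (φ w)) h
  simp only [← Module.End.mul_apply, ← map_mul, inv_mul_cancel, map_one, Module.End.one_apply] at h4
  exact absurd (h4.trans (by simp)) hw

omit [IsAlgClosed k] [Fintype (Γ ⧸ ι.range)] in
lemma conj_central_mul (z : kˣ) (a : Γ) (X : Module.End k W) :
    ρ (ι z * a) * X * ρ (ι z * a)⁻¹ = ρ a * X * ρ a⁻¹ := by
  have h : ∀ z : kˣ, ρ (ι z) = (z : k) • (1 : Module.End k W) := fun z => LinearMap.ext (hρ z)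
  rw [mul_inv_rev, ← map_inv ι, map_mul ρ (ι z), map_mul ρ a⁻¹, h, h]
  simp [mul_smul_comm, smul_mul_assoc, smul_smul]

variable [FiniteDimensional k W] [hirr : IsIrreducible ρ]
include hirr

lemma span_eq_top : Submodule.span k (Set.range fun x : Γ ⧸ ι.range => ρ x.out) = ⊤ := by
  classical
  have := normal hΘ
  rw [eq_top_iff]
  intro X _
  let T : Γ ⧸ ι.range → Γ ⧸ ι.range → Module.End k W := fun y x =>
    ((e hΘ x.out y.out)⁻¹ : kˣ).val • (ρ x.out * X * ρ x.out⁻¹)
  have hsum : (Nat.card (Γ ⧸ ι.range) : k) • X = ∑ y, ∑ x, T y x := by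
    rw [Finset.sum_comm, Finset.sum_eq_single (1 : Γ ⧸ ι.range)]
    · simp only [T, ← Finset.sum_smul]
      obtain ⟨z, hz⟩ : (1 : Γ ⧸ ι.range).out ∈ ι.range := (QuotientGroup.eq_one_iff _).1 (QuotientGroup.out_eq' _)
      have h1 : ρ (1 : Γ ⧸ ι.range).out * X * ρ (1 : Γ ⧸ ι.range).out⁻¹ = X := by
        rw [← hz, ← mul_one (ι z), conj_central_mul hΘ ρ hρ]
        simp
      rw [h1, ← hz]
      simp [e_central_left]
    · intro x _ hx
      simp only [T, ← Finset.sum_smul]
      have h2 : ∀ y : Γ ⧸ ι.range, ((e hΘ x.out y.out)⁻¹ : kˣ).val = (e hΘ y.out x.out : k) := fun y => by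
        rw [← e_swap hΘ x.out y.out]
      rw [Finset.sum_congr rfl fun y _ => h2 y, sum_e hΘ, if_neg (fun h => hx ?_), zero_smul]
      rw [← QuotientGroup.out_eq' x]
      exact (QuotientGroup.eq_one_iff _).2 h
    · simp
  have hmem : ∀ y : Γ ⧸ ι.range, ∑ x, T y x ∈ Submodule.span k (Set.range fun x : Γ ⧸ ι.range => ρ x.out) := by
    intro y
    set S := ∑ x, T y x
    have hS : ∀ g, ρ g * S * ρ g⁻¹ = (e hΘ g y.out : k) • S := by
      intro g
      simp only [S, Finset.mul_sum, Finset.sum_mul, Finset.smul_sum]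
      refine Fintype.sum_equiv (Equiv.mulLeft (g : Γ ⧸ ι.range)) _ _ fun x => ?_
      simp only [T, Equiv.coe_mulLeft, mul_smul_comm, smul_mul_assoc, smul_smul]
      have hx : (g : Γ ⧸ ι.range) * x = ((g * x.out : Γ) : Γ ⧸ ι.range) := by
        rw [QuotientGroup.mk_mul, QuotientGroup.out_eq']
      rw [hx]
      obtain ⟨z, hz⟩ := exists_decomp hΘ (g * x.out)
      have hc : ρ ((g * x.out : Γ) : Γ ⧸ ι.range).out * X * ρ ((g * x.out : Γ) : Γ ⧸ ι.range).out⁻¹ =
          ρ g * (ρ x.out * X * ρ x.out⁻¹) * ρ g⁻¹ := by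
        rw [← conj_central_mul hΘ ρ hρ z ((g * x.out : Γ) : Γ ⧸ ι.range).out X, ← hz, mul_inv_rev,
          map_mul ρ, map_mul ρ]
        simp only [mul_assoc]
      rw [hc, e_out_left, e_mul_left]
      congr 1
      rw [← Units.val_mul, mul_inv, ← mul_assoc, mul_inv_cancel, one_mul]
    let φ : IntertwiningMap ρ ρ := LinearMap.intertwiningMap_of_isIntertwiningMap ρ ρ (S * ρ y.out⁻¹)
      (fun g v => by
        have h4 : S * ρ y.out⁻¹ * ρ g = ρ g * (S * ρ y.out⁻¹) := by
          have h5 : ρ g * S = (e hΘ g y.out : k) • (S * ρ g) := by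
            rw [← smul_mul_assoc, ← hS g, mul_assoc _ (ρ g⁻¹), ← map_mul ρ, inv_mul_cancel, map_one, mul_one]
          rw [← mul_assoc (ρ g), h5, smul_mul_assoc, mul_assoc S, mul_assoc S, ρ_swap hΘ ρ hρ g y.out⁻¹,
            mul_smul_comm, smul_smul, ← Units.val_mul, ← e_mul_right, mul_inv_cancel]
          rw [show e hΘ g 1 = 1 by simpa using e_central_right hΘ 1 g, Units.val_one, one_smul]
        exact LinearMap.congr_fun h4 v)
    obtain ⟨c, hc⟩ := (IsIrreducible.algebraMap_intertwiningMap_bijective_of_isAlgClosed (ρ := ρ)).2 φ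
    have hc' : c • (1 : Module.End k W) = S * ρ y.out⁻¹ := congrArg IntertwiningMap.toLinearMap hc
    have : S = c • ρ y.out := by
      rw [← one_mul (ρ y.out), ← smul_mul_assoc, hc', mul_assoc, ← map_mul ρ, inv_mul_cancel, map_one, mul_one]
    rw [this]
    exact Submodule.smul_mem _ _ (Submodule.subset_span ⟨y, rfl⟩)
  have h := Submodule.smul_mem _ (Nat.card (Γ ⧸ ι.range) : k)⁻¹ (Submodule.sum_mem _ fun y (_ : y ∈ Finset.univ) => hmem y)
  rwa [← hsum, smul_smul, inv_mul_cancel₀ (card_ne_zero hΘ), one_smul] at h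

omit hρ hirr in
lemma nontrivial_of_irreducible (ρ : Representation k Γ W) [IsIrreducible ρ] : Nontrivial W := by
  by_contra h
  rw [not_nontrivial_iff_subsingleton] at h
  exact bot_ne_top (α := Subrepresentation ρ) (Subrepresentation.toSubmodule_injective (Subsingleton.elim _ _))

/-- The operators form a basis of the endomorphisms. -/
noncomputable def basis : Module.Basis (Γ ⧸ ι.range) k (Module.End k W) :=
  haveI := nontrivial_of_irreducible hΘ ρ
  Module.Basis.mk (linearIndependent hΘ ρ hρ) (span_eq_top hΘ ρ hρ).ge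

lemma basis_apply (x : Γ ⧸ ι.range) : basis hΘ ρ hρ x = ρ x.out := Module.Basis.mk_apply _ _ x

lemma finrank_sq : Module.finrank k W ^ 2 = Nat.card (Γ ⧸ ι.range) := by
  rw [sq, ← Module.finrank_linearMap k k W W, Module.finrank_eq_card_basis (basis hΘ ρ hρ),
    Nat.card_eq_fintype_card]

variable {U : Type u} [AddCommGroup U] [Module k U] (σ : Representation k Γ U)
  (hσ : ∀ (z : kˣ) (w : U), σ (ι z) w = (z : k) • w)
include hσ

/-- The algebra map `End W → End U` sending `ρ g` to `σ g`. -/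
noncomputable def transfer : Module.End k W →ₗ[k] Module.End k U :=
  (basis hΘ ρ hρ).constr k fun x => σ x.out

lemma transfer_ρ (g : Γ) : transfer hΘ ρ hρ σ (ρ g) = σ g := by
  obtain ⟨z, hz⟩ := exists_decomp hΘ g
  have h1 : ρ g = (z : k) • basis hΘ ρ hρ (QuotientGroup.mk g) := by
    rw [basis_apply]
    conv_lhs => rw [hz, map_mul]
    ext w; simp [hρ]
  rw [h1, map_smul, transfer, Module.Basis.constr_basis]
  conv_rhs => rw [hz, map_mul]
  ext w; simp [hσ]

lemma transfer_mul (X Y : Module.End k W) :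
    transfer hΘ ρ hρ σ (X * Y) = transfer hΘ ρ hρ σ X * transfer hΘ ρ hρ σ Y := by
  have : (LinearMap.mul k (Module.End k W)).compr₂ (transfer hΘ ρ hρ σ) =
      (LinearMap.mul k (Module.End k U)).compl₁₂ (transfer hΘ ρ hρ σ) (transfer hΘ ρ hρ σ) := by
    refine (basis hΘ ρ hρ).ext fun x => (basis hΘ ρ hρ).ext fun y => ?_
    simp only [LinearMap.compr₂_apply, LinearMap.compl₁₂_apply, LinearMap.mul_apply', basis_apply]
    rw [← map_mul ρ, transfer_ρ hΘ ρ hρ σ hσ, transfer_ρ hΘ ρ hρ σ hσ, transfer_ρ hΘ ρ hρ σ hσ, map_mul]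
  exact LinearMap.congr_fun (LinearMap.congr_fun this X) Y

lemma transfer_one : transfer hΘ ρ hρ σ 1 = 1 := by
  simpa using transfer_ρ hΘ ρ hρ σ hσ 1

/-- `v ↦ E(v, φ) • u`. -/
noncomputable def J (φ : Module.Dual k W) (w : U) : IntertwiningMap ρ σ :=
  LinearMap.intertwiningMap_of_isIntertwiningMap ρ σ
    ((LinearMap.applyₗ w).comp ((transfer hΘ ρ hρ σ).comp (LinearMap.smulRightₗ φ))) (fun g v => by
    have h : (φ.smulRight (ρ g v) : Module.End k W) = ρ g * φ.smulRight v := by
      ext x; simp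
    change transfer hΘ ρ hρ σ (φ.smulRight (ρ g v)) w = σ g (transfer hΘ ρ hρ σ (φ.smulRight v) w)
    rw [h, transfer_mul hΘ ρ hρ σ hσ, transfer_ρ hΘ ρ hρ σ hσ, Module.End.mul_apply])

lemma J_apply (φ : Module.Dual k W) (w : U) (v : W) :
    J hΘ ρ hρ σ hσ φ w v = transfer hΘ ρ hρ σ (φ.smulRight v) w := rfl

lemma sum_J {n : Type*} [Fintype n] [DecidableEq n] (b : Module.Basis n k W) (w : U) :
    ∑ i, J hΘ ρ hρ σ hσ (b.coord i) w (b i) = w := by
  simp only [J_apply, ← LinearMap.sum_apply, ← map_sum]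
  have : ∑ i, (b.coord i).smulRight (b i) = (1 : Module.End k W) := by
    ext x; simp [LinearMap.sum_apply, b.sum_repr]
  rw [this, transfer_one hΘ ρ hρ σ hσ, Module.End.one_apply]

lemma exists_equiv [IsIrreducible σ] : Nonempty (Representation.Equiv ρ σ) := by
  classical
  have := nontrivial_of_irreducible hΘ ρ
  obtain ⟨w, hw⟩ : ∃ w : U, w ≠ 0 := by
    by_contra h
    push Not at h
    exact bot_ne_top (α := Subrepresentation σ) (Subrepresentation.toSubmodule_injective
      (le_antisymm bot_le fun x _ => (Submodule.mem_bot k).2 (h x)))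
  let b := Module.finBasis k W
  obtain ⟨i, hi⟩ : ∃ i, J hΘ ρ hρ σ hσ (b.coord i) w ≠ 0 := by
    by_contra h
    push Not at h
    apply hw
    rw [← sum_J hΘ ρ hρ σ hσ b w]
    exact Finset.sum_eq_zero fun i _ => by rw [h i]; rfl
  exact ⟨IntertwiningMap.ofBijective _ ((IsIrreducible.bijective_or_eq_zero _).resolve_right hi)⟩

lemma isSemisimple : IsSemisimpleRepresentation σ := by
  classical
  rw [isSemisimpleRepresentation_iff_isSemisimpleModule_asModule]
  let b := Module.finBasis k W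
  let p : Fin (Module.finrank k W) × U → Submodule (MonoidAlgebra k Γ) σ.asModule := fun iw =>
    LinearMap.range (IntertwiningMap.equivLinearMapAsModule ρ σ (J hΘ ρ hρ σ hσ (b.coord iw.1) iw.2))
  refine isSemisimpleModule_of_isSemisimpleModule_submodule' (p := p) (fun iw => ?_) ?_
  · exact IsSemisimpleModule.range _
  · rw [eq_top_iff]
    intro w _
    rw [← sum_J hΘ ρ hρ σ hσ b w]
    exact Submodule.sum_mem _ fun i _ => Submodule.mem_iSup_of_mem (i, w) ⟨b i, rfl⟩

lemma finrank_eq_mul [FiniteDimensional k U] (v₀ : W) (φ₀ : Module.Dual k W) (h₀ : φ₀ v₀ = 1) :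
    Module.finrank k U =
      Module.finrank k (LinearMap.range (transfer hΘ ρ hρ σ (φ₀.smulRight v₀))) * Module.finrank k W := by
  classical
  let b := Module.finBasis k W
  let f := transfer hΘ ρ hρ σ
  set M := LinearMap.range (f (φ₀.smulRight v₀))
  have hmul : ∀ (φ ψ : Module.Dual k W) (v v' : W) (x : U),
      f (φ.smulRight v) (f (ψ.smulRight v') x) = φ v' • f (ψ.smulRight v) x := by
    intro φ ψ v v' x
    rw [← Module.End.mul_apply, ← transfer_mul hΘ ρ hρ σ hσ,
      show (φ.smulRight v : Module.End k W) * ψ.smulRight v' = φ v' • ψ.smulRight v by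
        ext; simp [smul_smul, mul_comm]]
    simp [f]
  have hfix : ∀ x : M, f (φ₀.smulRight v₀) x.1 = x.1 := by
    rintro ⟨_, y, rfl⟩
    change f _ (f _ y) = _
    rw [hmul, h₀, one_smul]
  let F : (Fin (Module.finrank k W) → M) →ₗ[k] U :=
    ∑ i, (f (φ₀.smulRight (b i))).comp (M.subtype.comp (LinearMap.proj i))
  have hm : ∀ i x, f ((b.coord i).smulRight v₀) x ∈ M := fun i x =>
    LinearMap.mem_range.2 ⟨f ((b.coord i).smulRight v₀) x, by rw [hmul, h₀, one_smul]⟩
  let G : U →ₗ[k] (Fin (Module.finrank k W) → M) :=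
    LinearMap.pi fun i => (f ((b.coord i).smulRight v₀)).codRestrict M (hm i)
  have hGF : G.comp F = LinearMap.id := by
    refine LinearMap.ext fun x => funext fun i => Subtype.ext ?_
    simp only [G, F, LinearMap.comp_apply, LinearMap.pi_apply, LinearMap.codRestrict_apply,
      LinearMap.sum_apply, map_sum, Submodule.subtype_apply, LinearMap.proj_apply, LinearMap.id_apply,
      Submodule.coe_sum, LinearMap.codRestrict_apply]
    rw [Finset.sum_eq_single i (fun j _ hj => by
      rw [hmul, b.coord_apply, b.repr_self, Finsupp.single_eq_of_ne' hj, zero_smul]) (by simp)]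
    rw [hmul, b.coord_apply, b.repr_self, Finsupp.single_eq_same, one_smul, hfix]
  have hFG : F.comp G = LinearMap.id := by
    refine LinearMap.ext fun x => ?_
    simp only [G, F, LinearMap.comp_apply, LinearMap.pi_apply, LinearMap.codRestrict_apply,
      LinearMap.sum_apply, Submodule.subtype_apply, LinearMap.proj_apply, LinearMap.id_apply]
    simp only [hmul, h₀, one_smul]
    exact sum_J hΘ ρ hρ σ hσ b x
  rw [← (LinearEquiv.ofLinear F G hFG hGF).finrank_eq, Module.finrank_pi_fintype,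
    Finset.sum_const, Finset.card_univ, Fintype.card_fin, smul_eq_mul, mul_comm]

lemma finrank_invariants [FiniteDimensional k U] (H : Subgroup Γ) (hH : H ⊓ ι.range = ⊥)
    (hmax : ∀ H' : Subgroup Γ, H' ⊓ ι.range = ⊥ → H ≤ H' → H' = H) :
    Module.finrank k U = Module.finrank k (invariants (σ.comp H.subtype)) * Module.finrank k W := by
  classical
  have := normal hΘ
  have := nontrivial_of_irreducible hΘ ρ
  let q : H →* Γ ⧸ ι.range := (QuotientGroup.mk' ι.range).comp H.subtype
  have hq : Function.Injective q := by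
    rw [injective_iff_map_eq_one]
    intro h hh
    have : (h : Γ) ∈ H ⊓ ι.range := ⟨h.2, (QuotientGroup.eq_one_iff _).1 hh⟩
    rw [hH, Subgroup.mem_bot] at this
    exact Subtype.ext this
  let _ : Fintype H := Fintype.ofInjective q hq
  set n := Fintype.card H
  have hn : (n : k) ≠ 0 := by
    intro h
    apply card_ne_zero hΘ
    have hdvd : n ∣ Nat.card (Γ ⧸ ι.range) := by
      rw [show n = Nat.card H from Nat.card_eq_fintype_card.symm, Nat.card_congr (MonoidHom.ofInjective hq).toEquiv]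
      exact Subgroup.card_subgroup_dvd_card _
    obtain ⟨m, hm⟩ := hdvd
    rw [hm, Nat.cast_mul, h, zero_mul]
  obtain ⟨P, hPdef⟩ : ∃ P : Module.End k W, P = (n : k)⁻¹ • ∑ h : H, ρ (h : Γ) := ⟨_, rfl⟩
  have hP : ∀ a : H, ρ (a : Γ) * P = P ∧ P * ρ (a : Γ) = P := by
    intro a
    simp only [hPdef, mul_smul_comm, smul_mul_assoc, Finset.mul_sum, Finset.sum_mul, ← map_mul]
    exact ⟨congrArg _ (Fintype.sum_equiv (Equiv.mulLeft a) _ _ fun _ => rfl),
      congrArg _ (Fintype.sum_equiv (Equiv.mulRight a) _ _ fun _ => rfl)⟩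
  have hP0 : P ≠ 0 := by
    intro h0
    have hli : LinearIndependent k (fun h : H => ρ (h : Γ)) := by
      rw [Fintype.linearIndependent_iff]
      intro a ha h
      choose z hz using fun h : H => exists_decomp hΘ (h : Γ)
      have h1 : ∀ h : H, ρ (h : Γ) = (z h : k) • ρ (q h).out := by
        intro h
        conv_lhs => rw [hz h, map_mul]
        ext w; simp [hρ, q]
      simp only [h1, smul_smul] at ha
      have h2 := Fintype.linearIndependent_iff.1 ((linearIndependent hΘ ρ hρ).comp q hq) _ ha h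
      exact (mul_eq_zero.1 h2).resolve_right (Units.ne_zero _)
    exact one_ne_zero (Fintype.linearIndependent_iff.1 hli (fun _ => (1 : k))
      (by simpa using (smul_eq_zero.1 (hPdef.symm.trans h0)).resolve_left (inv_ne_zero hn)) 1)
  have hmax' : ∀ g : Γ, (∀ h : H, e hΘ h g = 1) → ∃ (z : kˣ) (h : H), g = ι z * h := by
    intro g hg
    obtain ⟨N, hN, hgN⟩ : ∃ N, 0 < N ∧ ∃ (z : kˣ) (h : H), g ^ N = ι z * h := by
      obtain ⟨N, hN, hN1⟩ := isOfFinOrder_iff_pow_eq_one.1 (isOfFinOrder_of_finite (g : Γ ⧸ ι.range))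
      obtain ⟨z, hz⟩ := (QuotientGroup.eq_one_iff (N := ι.range) (g ^ N)).1 (by rw [QuotientGroup.mk_pow]; exact hN1)
      exact ⟨N, hN, z, 1, by simp [hz]⟩
    let P' := fun N => 0 < N ∧ ∃ (z : kˣ) (h : H), g ^ N = ι z * h
    have hex : ∃ N, P' N := ⟨N, hN, hgN⟩
    obtain ⟨hm, z, h₁, hz⟩ := Nat.find_spec hex
    set m := Nat.find hex
    obtain ⟨r, hr⟩ := IsAlgClosed.exists_pow_nat_eq ((z⁻¹ : kˣ) : k) hm
    have hr0 : r ≠ 0 := by rintro rfl; rw [zero_pow hm.ne'] at hr; exact (z⁻¹).ne_zero hr.symm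
    set w : kˣ := Units.mk0 r hr0
    set g' := g * ι w
    have hg'm : g' ^ m = h₁ := by
      have : w ^ m = z⁻¹ := Units.ext (by simpa [w] using hr)
      rw [(show Commute g (ι w) from central hΘ w g).mul_pow, ← map_pow, this, hz, ← central hΘ z, mul_assoc,
        ← map_mul, mul_inv_cancel, map_one, mul_one]
    have hcomm : ∀ h : H, Commute g' (h : Γ) := by
      intro h
      have h1 : g * (h : Γ) = h * g := by
        rw [e_mul_comm hΘ g h, e_swap hΘ h g, hg h, inv_one, map_one, one_mul]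
      exact (show Commute g (h : Γ) from h1).mul_left (show Commute (ι w) (h : Γ) from (central hΘ w _).symm)
    let H' : Subgroup Γ := Subgroup.closure (insert g' (H : Set Γ))
    have hform : ∀ x ∈ H', ∃ (j : ℕ) (h : H), x = g' ^ j * h := by
      intro x hx
      induction hx using Subgroup.closure_induction with
      | mem x hx =>
        rcases hx with rfl | hx
        · exact ⟨1, 1, by simp⟩
        · exact ⟨0, ⟨x, hx⟩, by simp⟩
      | one => exact ⟨0, 1, by simp⟩
      | mul x y _ _ hx hy =>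
        obtain ⟨j, h, rfl⟩ := hx
        obtain ⟨j', h', rfl⟩ := hy
        refine ⟨j + j', h * h', ?_⟩
        rw [pow_add, Subgroup.coe_mul, mul_assoc, ← mul_assoc (h : Γ),
          ← (((hcomm h).pow_left j').eq), mul_assoc, mul_assoc]
      | inv x _ hx =>
        obtain ⟨j, h, rfl⟩ := hx
        have h2 : (g' ^ j)⁻¹ = g' ^ ((m - 1) * j) * ((h₁ : Γ) ^ j)⁻¹ := by
          rw [← hg'm, ← pow_mul, eq_mul_inv_iff_mul_eq, inv_mul_eq_iff_eq_mul, ← pow_add]
          congr 1
          obtain ⟨m', hm'⟩ : ∃ m', m = m' + 1 := ⟨m - 1, by omega⟩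
          rw [hm']
          simp; ring
        refine ⟨(m - 1) * j, (h₁ ^ j)⁻¹ * h⁻¹, ?_⟩
        rw [mul_inv_rev, ← (((hcomm h).pow_left j).inv_inv).eq, h2, Subgroup.coe_mul, Subgroup.coe_inv,
          Subgroup.coe_pow, Subgroup.coe_inv, mul_assoc]
    have hH' : H' ⊓ ι.range = ⊥ := by
      rw [eq_bot_iff]
      rintro x ⟨hx, z', rfl⟩
      obtain ⟨j, h, hj⟩ := hform _ hx
      have h3 : g' ^ (j % m) * ((h₁ ^ (j / m) * h : H) : Γ) = ι z' := by
        rw [Subgroup.coe_mul, Subgroup.coe_pow, ← hg'm, ← pow_mul, ← mul_assoc, ← pow_add,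
          Nat.mod_add_div, hj]
      rcases Nat.eq_zero_or_pos (j % m) with h0 | h0
      · rw [h0, pow_zero, one_mul] at h3
        have : ι z' ∈ H ⊓ ι.range := ⟨h3 ▸ Subtype.coe_prop _, z', rfl⟩
        rwa [hH] at this
      · exfalso
        refine Nat.find_min hex (Nat.mod_lt j hm) ⟨h0, z' * (w ^ (j % m))⁻¹, (h₁ ^ (j / m) * h)⁻¹, ?_⟩
        rw [eq_comm, map_mul, Subgroup.coe_inv, ← h3]
        rw [(show Commute g (ι w) from central hΘ w g).mul_pow, ← map_pow]
        set a := ((h₁ ^ (j / m) * h : H) : Γ)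
        rw [mul_assoc _ _ a⁻¹, ← central hΘ, ← mul_assoc, mul_assoc (g ^ _ * _) _ a⁻¹, mul_inv_cancel, mul_one,
          mul_assoc, ← map_mul, mul_inv_cancel, map_one, mul_one]
    have heq := hmax H' hH' (fun x hx => Subgroup.subset_closure (Or.inr hx))
    have : g' ∈ H := heq ▸ Subgroup.subset_closure (Set.mem_insert _ _)
    exact ⟨w⁻¹, ⟨g', this⟩, by
      change g = ι w⁻¹ * (g * ι w)
      rw [← central hΘ, mul_assoc, ← map_mul, mul_inv_cancel, map_one, mul_one]⟩
  have hPP : ∀ X : Module.End k W, ∃ c : k, P * X * P = c • P := by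
    have hP2 : P * P = P := by
      conv_lhs => arg 2; rw [hPdef]
      rw [mul_smul_comm, Finset.mul_sum, Finset.sum_congr rfl fun h _ => (hP h).2, Finset.sum_const,
        Finset.card_univ, ← Nat.cast_smul_eq_nsmul k, smul_smul, inv_mul_cancel₀ hn, one_smul]
    intro X
    have hX : X ∈ Submodule.span k (Set.range fun x : Γ ⧸ ι.range => ρ x.out) := by
      rw [span_eq_top hΘ ρ hρ]; trivial
    induction hX using Submodule.span_induction with
    | mem X hX =>
      obtain ⟨x, rfl⟩ := hX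
      change ∃ c : k, P * ρ x.out * P = c • P
      by_cases hg : ∀ h : H, e hΘ h x.out = 1
      · obtain ⟨z, h, hzh⟩ := hmax' _ hg
        refine ⟨z, ?_⟩
        rw [hzh, map_mul, show ρ (ι z) = (z : k) • (1 : Module.End k W) from LinearMap.ext (hρ z),
          smul_mul_assoc, one_mul, mul_smul_comm, smul_mul_assoc, (hP h).2, hP2]
      · push Not at hg
        obtain ⟨h, hh⟩ := hg
        refine ⟨0, ?_⟩
        rw [zero_smul]
        have h1 : P * ρ x.out * P = (e hΘ h x.out : k) • (P * ρ x.out * P) := by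
          calc P * ρ x.out * P = P * ρ (h : Γ) * ρ x.out * P := by rw [(hP h).2]
            _ = P * (ρ (h : Γ) * ρ x.out) * P := by rw [mul_assoc P]
            _ = (e hΘ h x.out : k) • (P * ρ x.out * (ρ (h : Γ) * P)) := by
              rw [ρ_swap hΘ ρ hρ, mul_smul_comm, smul_mul_assoc]; simp only [mul_assoc]
            _ = _ := by rw [(hP h).1]
        have h2 : ((1 : k) - e hΘ h x.out) • (P * ρ x.out * P) = 0 := by
          rw [sub_smul, one_smul, ← h1, sub_self]
        exact (smul_eq_zero.1 h2).resolve_left (sub_ne_zero.2 fun h3 => hh (Units.ext h3.symm))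
    | zero => exact ⟨0, by simp⟩
    | add X Y _ _ hX hY =>
      obtain ⟨c, hc⟩ := hX; obtain ⟨d, hd⟩ := hY
      exact ⟨c + d, by rw [mul_add, add_mul, hc, hd, add_smul]⟩
    | smul r X _ hX =>
      obtain ⟨c, hc⟩ := hX
      exact ⟨r * c, by rw [mul_smul_comm, smul_mul_assoc, hc, smul_smul]⟩
  obtain ⟨v, hv⟩ : ∃ v, P v ≠ 0 := by
    by_contra h
    push Not at h
    exact hP0 (LinearMap.ext h)
  obtain ⟨ψ, hψ⟩ : ∃ ψ : Module.Dual k W, ψ (P v) = 1 := by
    obtain ⟨ψ, hψ⟩ : ∃ ψ : Module.Dual k W, ψ (P v) ≠ 0 := by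
      by_contra h
      push Not at h
      exact hv ((Module.forall_dual_apply_eq_zero_iff k _).1 h)
    exact ⟨(ψ (P v))⁻¹ • ψ, by simp [hψ]⟩
  have hP3 : P = (ψ.comp P).smulRight (P v) := by
    obtain ⟨c, hc⟩ := hPP (ψ.smulRight v)
    have h1 : ∀ x, ψ (P x) • P v = c • P x := fun x => by
      have := LinearMap.congr_fun hc x
      simpa using this
    have hc1 : c = 1 := by
      have h2 := h1 v
      rw [hψ, one_smul] at h2
      by_contra hne
      exact hv ((smul_eq_zero.1 (show ((1 : k) - c) • P v = 0 by rw [sub_smul, one_smul, ← h2, sub_self])).resolve_left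
        (sub_ne_zero.2 (Ne.symm hne)))
    ext x
    simp [h1 x, hc1]
  have hinv : invariants (σ.comp H.subtype) = LinearMap.range (transfer hΘ ρ hρ σ P) := by
    have hfP : transfer hΘ ρ hρ σ P = (n : k)⁻¹ • ∑ h : H, σ (h : Γ) := by
      simp only [hPdef, map_smul, map_sum, transfer_ρ hΘ ρ hρ σ hσ]
    refine le_antisymm (fun x hx => LinearMap.mem_range.2 ⟨x, ?_⟩) (fun y hy => ?_)
    · have hx' : ∀ h : H, σ (h : Γ) x = x := fun h => hx h
      rw [hfP, LinearMap.smul_apply, LinearMap.sum_apply, Finset.sum_congr rfl fun (h : H) _ => hx' h,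
        Finset.sum_const, Finset.card_univ, ← Nat.cast_smul_eq_nsmul k, smul_smul, inv_mul_cancel₀ hn, one_smul]
    · obtain ⟨x, rfl⟩ := LinearMap.mem_range.1 hy
      intro a
      change σ (a : Γ) (transfer hΘ ρ hρ σ P x) = _
      rw [← transfer_ρ hΘ ρ hρ σ hσ, ← Module.End.mul_apply, ← transfer_mul hΘ ρ hρ σ hσ, (hP a).1]
  have h0 : (ψ.comp P) (P v) = 1 := by
    have h5 : P (P v) = P v := by
      have h8 : P * P = P := by
        conv_lhs => arg 2; rw [hPdef]
        rw [mul_smul_comm, Finset.mul_sum, Finset.sum_congr rfl fun h _ => (hP h).2, Finset.sum_const,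
          Finset.card_univ, ← Nat.cast_smul_eq_nsmul k, smul_smul, inv_mul_cancel₀ hn, one_smul]
      rw [← Module.End.mul_apply, h8]
    rw [LinearMap.comp_apply, h5, hψ]
  rw [hinv, hP3]
  exact finrank_eq_mul hΘ ρ hρ σ hσ (P v) (ψ.comp P) h0

omit hρ hirr hσ [FiniteDimensional k W] in
theorem exists_irreducible :
    ∃ V : FDRep k Γ, IsIrreducible V.ρ ∧ ∀ (z : kˣ) (v : V), V.ρ (ι z) v = (z : k) • v := by
  classical
  let F : Submodule k (Γ → k) :=
    { carrier := {f | ∀ (z : kˣ) (g : Γ), f (g * ι z) = (z : k)⁻¹ * f g}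
      add_mem' := fun hf hg z g => by simp only [Pi.add_apply, hf z g, hg z g, mul_add]
      zero_mem' := fun z g => by simp
      smul_mem' := fun r f hf z g => by simp only [Pi.smul_apply, smul_eq_mul, hf z g]; ring }
  have hres : Function.Injective ((LinearMap.funLeft k k fun x : Γ ⧸ ι.range => x.out).comp F.subtype) := by
    rw [injective_iff_map_eq_zero]
    intro f hf
    refine Subtype.ext (funext fun g => ?_)
    obtain ⟨z, hz⟩ := exists_decomp hΘ g
    rw [hz, ← central hΘ, f.2 z]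
    simp [show f.1 (QuotientGroup.mk g : Γ ⧸ ι.range).out = 0 from congrFun hf _]
  have : FiniteDimensional k F := FiniteDimensional.of_injective _ hres
  let R : Representation k Γ F :=
    { toFun := fun g => (LinearMap.funLeft k k fun x => g⁻¹ * x).restrict (p := F) (q := F)
        (fun f hf z x => by simp only [LinearMap.funLeft_apply, ← mul_assoc]; exact hf z (g⁻¹ * x))
      map_one' := by ext f x; simp [LinearMap.funLeft_apply]
      map_mul' := fun g h => by ext f x; simp [LinearMap.funLeft_apply, mul_assoc] }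
  have hR : ∀ (z : kˣ) (f : F), R (ι z) f = (z : k) • f := by
    intro z f
    refine Subtype.ext (funext fun x => ?_)
    change f.1 ((ι z)⁻¹ * x) = (z : k) * f.1 x
    rw [← map_inv, ← central hΘ, f.2]
    simp
  have hF : (⊥ : Subrepresentation R).toSubmodule ≠ ⊤ := by
    let f₁ : Γ → k := fun g => if h : g ∈ ι.range then ((h.choose⁻¹ : kˣ) : k) else 0
    have hf₁ : f₁ ∈ F := by
      intro z g
      by_cases hg : g ∈ ι.range
      · have hgz : g * ι z ∈ ι.range := Subgroup.mul_mem _ hg ⟨z, rfl⟩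
        simp only [f₁, dif_pos hg, dif_pos hgz]
        have : hgz.choose = hg.choose * z := hΘ.inj (by rw [hgz.choose_spec, map_mul, hg.choose_spec])
        rw [this, mul_inv, Units.val_mul]; simp [mul_comm]
      · have hgz : g * ι z ∉ ι.range := fun h => hg (by
          simpa using Subgroup.mul_mem _ h (Subgroup.inv_mem _ ⟨z, rfl⟩ : (ι z)⁻¹ ∈ ι.range))
        simp only [f₁]
        rw [dif_neg hg, dif_neg hgz, mul_zero]
    intro h
    have : (⟨f₁, hf₁⟩ : F) ∈ (⊤ : Submodule k F) := trivial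
    rw [← h] at this
    have h2 := congrArg (fun f : F => f.1 1) ((Submodule.mem_bot k).1 this)
    simp [f₁] at h2
    exact h2 1 (map_one ι)
  have hex : ∃ d, ∃ S : Subrepresentation R, S ≠ ⊥ ∧ Module.finrank k S.toSubmodule = d :=
    ⟨_, ⊤, fun h => hF (congrArg Subrepresentation.toSubmodule h.symm), rfl⟩
  obtain ⟨S, hS, hSd⟩ := Nat.find_spec hex
  let ρS : Representation k Γ S.toSubmodule := S.toRepresentation
  refine ⟨@FDRep.of _ _ _ _ ↥S.toSubmodule S.toSubmodule.addCommGroup S.toSubmodule.module inferInstance ρS, ?_, fun z v => Subtype.ext (hR z v.1)⟩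
  change @IsIrreducible Γ k ↥S.toSubmodule _ _ S.toSubmodule.addCommGroup S.toSubmodule.module ρS
  have : Nontrivial (Subrepresentation ρS) := ⟨⊥, ⊤, fun h => hS (by
    refine Subrepresentation.toSubmodule_injective (le_antisymm (fun x hx => ?_) bot_le)
    have : (⟨x, hx⟩ : S.toSubmodule) ∈ (⊥ : Subrepresentation ρS).toSubmodule := by
      rw [congrArg Subrepresentation.toSubmodule h]; trivial
    exact (Submodule.mem_bot k).2 (congrArg Subtype.val ((Submodule.mem_bot k).1 this)))⟩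
  refine { eq_bot_or_eq_top := fun T => ?_ }
  by_cases hT : T = ⊥
  · exact Or.inl hT
  right
  let T' : Subrepresentation R :=
    ⟨T.toSubmodule.map S.toSubmodule.subtype, fun g _ => by
      rintro ⟨x, hx, rfl⟩; exact ⟨_, T.apply_mem_toSubmodule g hx, rfl⟩⟩
  have hT' : T' ≠ ⊥ := fun h => hT (Subrepresentation.toSubmodule_injective
    (Submodule.map_injective_of_injective S.toSubmodule.injective_subtype
      ((congrArg Subrepresentation.toSubmodule h).trans (Submodule.map_bot _).symm)))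
  have h1 : Nat.find hex ≤ Module.finrank k T'.toSubmodule := Nat.find_min' hex ⟨T', hT', rfl⟩
  rw [← hSd, Submodule.finrank_map_subtype_eq] at h1
  refine Subrepresentation.toSubmodule_injective (Eq.trans ?_ (rfl : (⊤ : Submodule k S.toSubmodule) = _))
  exact @Submodule.eq_top_of_finrank_eq k ↥S.toSubmodule _ S.toSubmodule.addCommGroup S.toSubmodule.module inferInstance T.toSubmodule (le_antisymm (Submodule.finrank_le _) h1)

end Groth.Agent.H95.ThetaRep
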