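import Mathlib

/-!
# Linear maps out of Witt vectors of a radical extension vanish on high Verschiebungen
-/

universe u v

open WittVector Function

namespace Groth.Agent.H95.WittKummer

variable {p : ℕ} [Fact p.Prime]

lemma teichmuller_mul_iterate {R : Type u} [CommRing R] [CharP R p] (x : R) (w : WittVector p R) (N : ℕ) :
    teichmuller p x * (⇑verschiebung)^[N] w = (⇑verschiebung)^[N] (teichmuller p (x ^ p ^ N) * w) := by
  have h : (⇑(frobenius : WittVector p R →+* WittVector p R))^[N] (teichmuller p x) = teichmuller p (x ^ p ^ N) := by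
    ext k
    rw [iterate_frobenius_coeff]
    cases k with
    | zero => rw [teichmuller_coeff_zero, teichmuller_coeff_zero]
    | succ k =>
      rw [teichmuller_coeff_pos _ _ _ k.succ_pos, teichmuller_coeff_pos _ _ _ k.succ_pos,
        zero_pow (pow_ne_zero _ (Fact.out : p.Prime).ne_zero)]
  rw [mul_comm, iterate_verschiebung_mul_left, h, mul_comm]

lemma map_iterate_verschiebung {R S : Type u} [CommRing R] [CommRing S] (f : R →+* S) (w : WittVector p R) (N : ℕ) :
    WittVector.map f ((⇑verschiebung)^[N] w) = (⇑verschiebung)^[N] (WittVector.map f w) := by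
  induction N with
  | zero => rfl
  | succ N ih => rw [iterate_succ_apply', iterate_succ_apply', map_verschiebung, ih]

lemma iterate_sum {R : Type u} [CommRing R] {ι : Type*} (t : Finset ι) (g : ι → WittVector p R) (N : ℕ) :
    (⇑verschiebung)^[N] (∑ i ∈ t, g i) = ∑ i ∈ t, (⇑verschiebung)^[N] (g i) := by
  induction N with
  | zero => rfl
  | succ N ih => simp only [iterate_succ_apply', ih, map_sum]

lemma truncate_eq_iff {R : Type u} [CommRing R] (m : ℕ) (x y : WittVector p R) :
    truncate m x = truncate m y ↔ ∀ i < m, x.coeff i = y.coeff i :=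
  ⟨fun h i hi => by
      have := congrArg (fun t => TruncatedWittVector.coeff ⟨i, hi⟩ t) h
      simpa only [coeff_truncate] using this,
    fun h => TruncatedWittVector.ext fun i => by rw [coeff_truncate, coeff_truncate, h i i.2]⟩

lemma truncate_iterate_verschiebung {R : Type u} [CommRing R] (m : ℕ) (x : WittVector p R) {N : ℕ} (h : m ≤ N) :
    truncate m ((⇑verschiebung)^[N] x) = 0 := by
  rw [← map_zero (truncate m), truncate_eq_iff]
  exact fun i hi => by rw [iterate_verschiebung_coeff_eq_zero x (lt_of_lt_of_le hi h), zero_coeff]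

theorem main (ℓ n : ℕ) (hℓ : 0 < ℓ) (hpℓ : ¬ p ∣ ℓ)
    (A B : Type u) [CommRing A] [CommRing B] [IsDomain A] [Algebra A B]
    [CharP B p] (_hinj : Function.Injective (algebraMap A B)) [IsDomain B]
    (y : Finset B) (hspan : Submodule.span A (y : Set B) = ⊤)
    (hpow : ∀ b ∈ y, b ^ ℓ ∈ Set.range (algebraMap A B))
    (M : Type v) [AddCommGroup M] [Module (WittVector p A) M]
    (hMn : ∀ (x : WittVector p A) (m : M),
      ((⇑(WittVector.verschiebung : WittVector p A →+ WittVector p A))^[n] x) • m = 0)
    (htf : ∀ a : A, a ≠ 0 → ∀ m : M, WittVector.teichmuller p a • m = 0 → m = 0)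
    (ψ : WittVector p B →+ M)
    (hψ : ∀ (x : WittVector p A) (w : WittVector p B),
      ψ (WittVector.map (algebraMap A B) x * w) = x • ψ w)
    (η : WittVector p B) :
    ψ ((⇑(WittVector.verschiebung : WittVector p B →+ WittVector p B))^[n] η) = 0 := by
  classical
  set f := algebraMap A B
  set F := WittVector.map (p := p) f
  let y' := y.erase 0
  have hspan' : Submodule.span A (y' : Set B) = ⊤ := by
    rw [eq_top_iff, ← hspan, Submodule.span_le]
    intro b hb
    rcases eq_or_ne b 0 with rfl | h0
    · exact zero_mem _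
    · exact Submodule.subset_span (Finset.mem_erase.2 ⟨h0, hb⟩)
  have hy0 : ∀ b : y', (b : B) ≠ 0 := fun b => (Finset.mem_erase.1 b.2).1
  have hpow' : ∀ b : y', ∃ a : A, f a = (b : B) ^ ℓ := fun b => hpow _ (Finset.mem_erase.1 b.2).2
  choose aa haa using hpow'
  have haa0 : ∀ b, aa b ≠ 0 := fun b h => pow_ne_zero ℓ (hy0 b) (by rw [← haa b, h, map_zero])
  have hdec : ∀ x : B, ∃ c : y' → A, x = ∑ b : y', f (c b) * (b : B) := by
    intro x
    have hx : x ∈ Submodule.span A (y' : Set B) := hspan' ▸ trivial
    obtain ⟨c, -, hc⟩ := Submodule.mem_span_finset.1 hx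
    refine ⟨fun b => c b, ?_⟩
    rw [Finset.univ_eq_attach, Finset.sum_attach y' (fun b => f (c b) * b), ← hc]
    simp only [Algebra.smul_def, f]
  choose cdec hcdec using hdec
  -- the successive remainders
  let first : WittVector p B → WittVector p B := fun η =>
    ∑ b : y', teichmuller p (b : B) * F (teichmuller p (cdec (η.coeff 0) b))
  let next : WittVector p B → WittVector p B := fun η => (η - first η).shift 1
  have hstep : ∀ η, η = first η + verschiebung (next η) := by
    intro η
    have h0 : (η - first η).coeff 0 = 0 := by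
      change constantCoeff (η - first η) = 0
      simp only [first, map_sub, map_sum, map_mul]
      change η.coeff 0 - ∑ b : y', (teichmuller p (b : B)).coeff 0 * (F (teichmuller p (cdec (η.coeff 0) b))).coeff 0 = 0
      simp only [F, map_coeff, teichmuller_coeff_zero]
      rw [sub_eq_zero]
      conv_lhs => rw [hcdec (η.coeff 0)]
      exact Finset.sum_congr rfl fun b _ => mul_comm _ _
    have h1 := eq_iterate_verschiebung (x := η - first η) (n := 1) (fun i hi => by
      obtain rfl : i = 0 := by omega
      exact h0)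
    change η = first η + (⇑verschiebung)^[1] ((η - first η).shift 1)
    rw [← h1, add_sub_cancel]
  let E : ℕ → WittVector p B := fun k => next^[k] η
  have hexp : ∀ m, (⇑verschiebung)^[n] η =
      (∑ k ∈ Finset.range m, (⇑verschiebung)^[n + k] (first (E k))) + (⇑verschiebung)^[n + m] (E m) := by
    intro m
    induction m with
    | zero => simp [E]
    | succ m ih =>
      rw [ih, Finset.sum_range_succ, add_assoc]
      congr 1
      conv_lhs => rw [hstep (E m)]
      rw [iterate_map_add, ← iterate_succ_apply, ← add_assoc,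
        show next (E m) = E (m + 1) from (iterate_succ_apply' next m η).symm]
  -- the exponents
  have hcop : ∀ N : ℕ, ∃ i < ℓ, ∀ t : ℕ, p ^ N * i + ℓ * t ≡ 1 [MOD ℓ] := by
    intro N
    rcases Nat.lt_or_ge ℓ 2 with h | h
    · obtain rfl : ℓ = 1 := by omega
      exact ⟨0, zero_lt_one, fun t => Nat.modEq_one⟩
    · have hc : Nat.Coprime (p ^ N) ℓ := Nat.Coprime.pow_left N ((Fact.out : p.Prime).coprime_iff_not_dvd.2 hpℓ)
      obtain ⟨i, hi, h1⟩ := Nat.exists_mul_mod_eq_one_of_coprime hc (by omega)
      refine ⟨i, hi, fun t => ?_⟩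
      rw [Nat.ModEq, Nat.add_mul_mod_self_left, h1, Nat.one_mod_eq_one.2 (by omega)]
  choose ie hie1 hie2 using hcop
  let α : A := ∏ b : y', aa b ^ ℓ
  have hα : α ≠ 0 := Finset.prod_ne_zero_iff.2 fun b _ => pow_ne_zero _ (haa0 b)
  have hkey : ∀ (N : ℕ) (b : y') (a : A), ∃ c : WittVector p A,
      F (teichmuller p α) * (⇑verschiebung)^[N] (teichmuller p (b : B) * F (teichmuller p a)) =
        teichmuller p ((b : B) ^ ie N) * F ((⇑verschiebung)^[N] c) := by
    intro N b a
    set i := ie N
    obtain ⟨β, hβ⟩ : aa b ^ i ∣ α :=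
      (pow_dvd_pow _ (hie1 N).le).trans (Finset.dvd_prod_of_mem (fun b => aa b ^ ℓ) (Finset.mem_univ b))
    obtain ⟨j, hj⟩ : ∃ j, 1 + ℓ * (i * p ^ N) = p ^ N * i + ℓ * j := by
      have h := hie2 N 0
      rw [mul_zero, add_zero] at h
      have h' : p ^ N * i ≡ 1 + ℓ * (i * p ^ N) [MOD ℓ] :=
        h.trans (by rw [Nat.ModEq, Nat.add_mul_mod_self_left])
      have hle : p ^ N * i ≤ 1 + ℓ * (i * p ^ N) := by
        rw [mul_comm (p ^ N) i]
        exact le_trans (Nat.le_mul_of_pos_left _ hℓ) (Nat.le_add_left _ _)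
      obtain ⟨j, hj⟩ := (Nat.modEq_iff_dvd' hle).1 h'
      exact ⟨j, by omega⟩
    refine ⟨teichmuller p (β ^ p ^ N * aa b ^ j * a), ?_⟩
    have hpoly : f α ^ p ^ N * ((b : B) * f a) = ((b : B) ^ i) ^ p ^ N * f (β ^ p ^ N * aa b ^ j * a) := by
      rw [hβ, map_mul, map_pow, haa, map_mul, map_mul, map_pow, map_pow, haa]
      calc (((b : B) ^ ℓ) ^ i * f β) ^ p ^ N * ((b : B) * f a)
          = (b : B) ^ (1 + ℓ * (i * p ^ N)) * (f β ^ p ^ N * f a) := by
            rw [mul_pow, ← pow_mul, ← pow_mul, pow_add, pow_one]; ring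
        _ = (b : B) ^ (p ^ N * i + ℓ * j) * (f β ^ p ^ N * f a) := by rw [hj]
        _ = ((b : B) ^ i) ^ p ^ N * (f β ^ p ^ N * ((b : B) ^ ℓ) ^ j * f a) := by
            rw [pow_add, pow_mul, pow_mul, ← pow_mul, mul_comm (p ^ N) i, pow_mul]; ring
    rw [map_iterate_verschiebung, teichmuller_mul_iterate]
    simp only [F, map_teichmuller]
    rw [teichmuller_mul_iterate, ← map_mul, ← map_mul, ← map_mul, hpoly]
  choose cc hcc using hkey
  -- the limits
  let term : y' → Fin ℓ → ℕ → WittVector p A := fun b i k =>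
    if ie (n + k) = i then (⇑verschiebung)^[n + k] (cc (n + k) b (cdec ((E k).coeff 0) b)) else 0
  let P : y' → Fin ℓ → ℕ → WittVector p A := fun b i m => ∑ k ∈ Finset.range m, term b i k
  let C : y' → Fin ℓ → WittVector p A := fun b i => WittVector.mk p fun j => (P b i (j + 1)).coeff j
  have hterm0 : ∀ b i (k m : ℕ), m ≤ n + k → truncate m (term b i k) = 0 := by
    intro b i k m h
    simp only [term]
    split_ifs
    · exact truncate_iterate_verschiebung m _ h
    · exact map_zero _
  have hC : ∀ b i m, truncate m (C b i) = truncate m (P b i m) := by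
    intro b i m
    rw [truncate_eq_iff]
    intro j hj
    change (P b i (j + 1)).coeff j = _
    have hmono : ∀ d, truncate (j + 1) (P b i (j + 1 + d)) = truncate (j + 1) (P b i (j + 1)) := by
      intro d
      induction d with
      | zero => rfl
      | succ d ih =>
        rw [show j + 1 + (d + 1) = j + 1 + d + 1 by omega]
        simp only [P] at ih ⊢
        rw [Finset.sum_range_succ, map_add, hterm0 b i _ _ (by omega), add_zero, ih]
    have := (truncate_eq_iff _ _ _).1 (hmono (m - (j + 1))) j (by omega)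
    rw [show j + 1 + (m - (j + 1)) = m by omega] at this
    exact this.symm
  have hC0 : ∀ b i, ∀ j < n, (C b i).coeff j = 0 := by
    intro b i j hj
    change (P b i (j + 1)).coeff j = 0
    have h : truncate (j + 1) (P b i (j + 1)) = truncate (j + 1) 0 := by
      simp only [P]
      rw [map_zero, map_sum]
      exact Finset.sum_eq_zero fun k _ => hterm0 b i k _ (by omega)
    rw [(truncate_eq_iff _ _ _).1 h j (by omega), zero_coeff]
  have hfirst : ∀ k, F (teichmuller p α) * (⇑verschiebung)^[n + k] (first (E k)) =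
      ∑ b : y', ∑ i : Fin ℓ, teichmuller p ((b : B) ^ (i : ℕ)) * F (term b i k) := by
    intro k
    simp only [first]
    rw [iterate_sum, Finset.mul_sum]
    refine Finset.sum_congr rfl fun b _ => ?_
    rw [hcc (n + k) b, Finset.sum_eq_single ⟨ie (n + k), hie1 _⟩]
    · simp [term]
    · intro i _ hi
      simp only [term]
      rw [if_neg (fun h => hi (Fin.ext h.symm)), map_zero, mul_zero]
    · intro h; exact absurd (Finset.mem_univ _) h
  have hmain : F (teichmuller p α) * (⇑verschiebung)^[n] η =
      ∑ b : y', ∑ i : Fin ℓ, teichmuller p ((b : B) ^ (i : ℕ)) * F (C b i) := by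
    ext m
    refine (truncate_eq_iff (m + 1) _ _).1 ?_ m (Nat.lt_succ_self m)
    rw [hexp (m + 1), mul_add, map_add, map_mul (truncate (m + 1)) _ ((⇑verschiebung)^[n + (m + 1)] (E (m + 1))),
      truncate_iterate_verschiebung (m + 1) _ (by omega), mul_zero, add_zero, Finset.mul_sum]
    simp only [hfirst]
    rw [Finset.sum_comm]
    simp only [map_sum]
    refine Finset.sum_congr rfl fun b _ => ?_
    rw [Finset.sum_comm]
    refine Finset.sum_congr rfl fun i _ => ?_
    rw [← map_sum, ← Finset.mul_sum, ← map_sum F]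
    simp only [map_mul]
    congr 1
    rw [truncate_eq_iff]
    intro j hj
    simp only [F, map_coeff]
    congr 1
    exact ((truncate_eq_iff _ _ _).1 (hC b i (m + 1)) j hj).symm
  refine htf α hα _ ?_
  rw [← hψ, hmain, map_sum]
  refine Finset.sum_eq_zero fun b _ => ?_
  rw [map_sum]
  refine Finset.sum_eq_zero fun i _ => ?_
  rw [mul_comm, hψ, eq_iterate_verschiebung (hC0 b i), hMn]

end Groth.Agent.H95.WittKummer
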